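import Groth.Agent.H14QCoh.AtlasF
import Groth.Agent.H14QCoh.BCMaps

/-!
# Indexed atlases and morphisms of quasi-coherent modules from them
-/

set_option autoImplicit false
set_option linter.style.haveILetI false
set_option backward.isDefEq.respectTransparency false
set_option backward.isDefEq.respectTransparency.types false

universe t w v u

open CategoryTheory CategoryTheory.Limits AlgebraicGeometry Opposite TopologicalSpace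
open scoped TensorProduct

noncomputable section

namespace Groth.Agent.H14CohBC

open H14QCoh

variable {S : Scheme.{u}}

/-- A family of affine charts with affine charts of their pairs of points, flat over the charts, the
parallel pairs of arrows to the pairs being flat locally pairs from objects flat over them. -/
structure AtlasI (𝒳 : BasedCategory.{v, w} (Over S)) where
  ι : Type t
  x : ι → 𝒳.obj
  y : ι → ι → 𝒳.obj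
  a : ∀ i j, y i j ⟶ x i
  b : ∀ i j, y i j ⟶ x j
  affx : ∀ i, IsAffine (StMod.sch 𝒳 (x i))
  affy : ∀ i j, IsAffine (StMod.sch 𝒳 (y i j))
  cov : ∀ ξ : 𝒳.obj, IsAffine (StMod.sch 𝒳 ξ) →
    ∃ (ξ' : 𝒳.obj) (φ : ξ' ⟶ ξ) (i : ι), IsCov φ ∧ Nonempty (ξ' ⟶ x i)
  cov₂ : ∀ (i j : ι) (ξ : 𝒳.obj) (α : ξ ⟶ x i) (β : ξ ⟶ x j), IsAffine (StMod.sch 𝒳 ξ) →
    ∃ (ξ' : 𝒳.obj) (φ : ξ' ⟶ ξ) (c : ξ' ⟶ y i j), IsCov φ ∧ φ ≫ α = c ≫ a i j ∧ φ ≫ β = c ≫ b i j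
  flata : ∀ i j, Flat (StMod.bmap 𝒳 (a i j))
  flatb : ∀ i j, Flat (StMod.bmap 𝒳 (b i j))
  cov₃ : ∀ (i j : ι) (ξ : AObj 𝒳) (c c' : ξ.1 ⟶ y i j), c ≫ a i j = c' ≫ a i j → c ≫ b i j = c' ≫ b i j →
    ∀ p : StMod.sch 𝒳 ξ.1,
    ∃ (ξ' z : AObj 𝒳) (φ : ξ'.1 ⟶ ξ.1) (e : ξ'.1 ⟶ z.1) (d d' : z.1 ⟶ y i j), Flat (StMod.bmap 𝒳 φ) ∧
      (∃ q, StMod.bmap 𝒳 φ q = p) ∧ Flat (StMod.bmap 𝒳 d) ∧ φ ≫ c = e ≫ d ∧ φ ≫ c' = e ≫ d' ∧
      d ≫ a i j = d' ≫ a i j ∧ d ≫ b i j = d' ≫ b i j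

namespace AtlasI

variable {𝒳 : BasedCategory.{v, w} (Over S)} (𝔸 : AtlasI.{t} 𝒳)

/-- A chart as an affine object. -/
abbrev X (i : 𝔸.ι) : AObj 𝒳 := ⟨𝔸.x i, 𝔸.affx i⟩

/-- A chart of pairs as an affine object. -/
abbrev Y (i j : 𝔸.ι) : AObj 𝒳 := ⟨𝔸.y i j, 𝔸.affy i j⟩

variable {F G : StMod.QCoh 𝒳}

/-- The comparison map of sections is a base change. -/
theorem isBC_of_mapTop (F : StMod.QCoh 𝒳) {ξ' ξ : 𝒳.obj} (φ : ξ' ⟶ ξ) (hξ' : IsAffine (StMod.sch 𝒳 ξ'))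
    (hξ : IsAffine (StMod.sch 𝒳 ξ)) :
    IsBC (fnMap φ) (AddMonoidHom.mk' (F.obj.mapTop φ) (F.obj.mapTop_add φ)) := by
  refine ⟨fun a m => F.obj.mapTop_smul φ a m, ?_⟩
  letI := (fnMap φ).toAlgebra
  letI := secModule F φ
  haveI : IsScalarTower (Fn 𝒳 ξ) (Fn 𝒳 ξ') (Sec F ξ') := .of_algebraMap_smul fun _ _ => rfl
  intro L hL
  have : L = mapLin F φ := LinearMap.ext fun m => hL m
  rw [this]
  exact isBaseChange_mapTop F φ hξ' hξ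

/-- Linear maps on the charts with equal inverse images extend to a morphism. -/
theorem exists_hom (hp : FibCat.IsFibGrpd 𝒳.p) (h : ∀ i, Sec F (𝔸.x i) →ₗ[Fn 𝒳 (𝔸.x i)] Sec G (𝔸.x i))
    (hh : ∀ i j, pl (𝔸.affx i) (h i) (𝔸.affy i j) (𝔸.a i j) = pl (𝔸.affx j) (h j) (𝔸.affy i j) (𝔸.b i j)) :
    ∃ u : F.obj ⟶ G.obj, ∀ i (e : Sec F (𝔸.x i)), (u.app (𝔸.x i)).app ⊤ e = h i e := by
  classical
  let p' := fun (i : 𝔸.ι) {ζ : 𝒳.obj} (hζ : IsAffine (StMod.sch 𝒳 ζ)) (α : ζ ⟶ 𝔸.x i) =>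
    pl (𝔸.affx i) (h i) hζ α
  have key : ∀ {i j : 𝔸.ι} {ζ : 𝒳.obj} (hζ : IsAffine (StMod.sch 𝒳 ζ)) (α : ζ ⟶ 𝔸.x i) (β : ζ ⟶ 𝔸.x j)
      (e : Sec F ζ), p' i hζ α e = p' j hζ β e := by
    intro i j ζ hζ α β e
    obtain ⟨ζ', φ, c, hφ, h1, h2⟩ := 𝔸.cov₂ i j ζ α β hζ
    haveI := hζ
    refine injective_mapTop_cov (F := G) hφ ?_
    simp only [p']
    rw [← pl_comp _ _ hζ hφ.1 φ α, ← pl_comp _ _ hζ hφ.1 φ β, pl_congr _ _ hφ.1 h1, pl_congr _ _ hφ.1 h2]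
    refine LinearMap.congr_fun (lin_ext (φ := c) hφ.1 (𝔸.affy i j) fun z => ?_) _
    rw [pl_comp _ _ (𝔸.affy i j) hφ.1 c, pl_comp _ _ (𝔸.affy i j) hφ.1 c, hh]
  let P : ∀ ξ : 𝒳.obj, Sec F ξ → Sec G ξ → Prop := fun ξ e t => ∀ (ζ : 𝒳.obj) (χ : ζ ⟶ ξ) (i : 𝔸.ι)
    (α : ζ ⟶ 𝔸.x i) (hζ : IsAffine (StMod.sch 𝒳 ζ)), p' i hζ α (F.obj.mapTop χ e) = G.obj.mapTop χ t
  have ex : ∀ ξ, IsAffine (StMod.sch 𝒳 ξ) → ∀ e, ∃ t, P ξ e t ∧ ∀ t', P ξ e t' → t' = t := by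
    intro ξ hξ e
    obtain ⟨ξ', φ, i, hφ, ⟨α⟩⟩ := 𝔸.cov ξ hξ
    haveI := hξ
    obtain ⟨t, ht⟩ := exists_of_equalizer (F := G) hp hφ (p' i hφ.1 α (F.obj.mapTop φ e)) (by
      intro ζ a b hζ hab
      simp only [p']
      rw [← pl_comp _ _ hφ.1 hζ a α, ← pl_comp _ _ hφ.1 hζ b α]
      refine (key hζ (a ≫ α) (b ≫ α) _).trans ?_
      simp only [p']
      rw [← F.obj.mapTop_comp, ← F.obj.mapTop_comp, hab])
    refine ⟨t, fun ζ χ j α' hζ => ?_, fun t' ht' => injective_mapTop_cov (F := G) hφ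
      ((ht' ξ' φ i α hφ.1).symm.trans ht.symm)⟩
    haveI := hζ
    obtain ⟨ζ', φ', χ', hφ', hw⟩ := exists_pullback_cov hp hφ χ
    refine injective_mapTop_cov (F := G) hφ' ?_
    simp only [p'] at ht ⊢
    rw [← pl_comp _ _ hζ hφ'.1 φ' α', ← F.obj.mapTop_comp, ← G.obj.mapTop_comp, hw, F.obj.mapTop_comp,
      show pl _ (h j) hφ'.1 (φ' ≫ α') _ = pl _ (h i) hφ'.1 (χ' ≫ α) _ from key hφ'.1 _ _ _,
      pl_comp _ _ hφ.1 hφ'.1 χ' α, G.obj.mapTop_comp, ht]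
  choose T hT hT' using ex
  let f : AffFam F G := fun ξ hξ =>
    { toFun := T ξ hξ
      map_add' := fun p q => (hT' ξ hξ _ _ fun ζ χ i α hζ => by
        rw [F.obj.mapTop_add, map_add, G.obj.mapTop_add, hT ξ hξ p ζ χ i α hζ, hT ξ hξ q ζ χ i α hζ]).symm
      map_smul' := fun r p => (hT' ξ hξ _ _ fun ζ χ i α hζ => by
        rw [RingHom.id_apply, F.obj.mapTop_smul, map_smul, G.obj.mapTop_smul, hT ξ hξ p ζ χ i α hζ]).symm }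
  obtain ⟨u, hu⟩ := H14QCoh.exists_hom hp f (fun ξ' ξ φ hξ' hξ e => (hT' ξ' hξ' _ _ fun ζ χ i α hζ => by
    rw [← F.obj.mapTop_comp, ← G.obj.mapTop_comp]
    exact hT ξ hξ e ζ (χ ≫ φ) i α hζ).symm)
  refine ⟨u, fun i e => (hu (𝔸.x i) (𝔸.affx i) e).trans ?_⟩
  have := hT (𝔸.x i) (𝔸.affx i) e (𝔸.x i) (𝟙 _) i (𝟙 _) (𝔸.affx i)
  rw [G.obj.mapTop_id] at this
  refine this.symm.trans ?_
  simp only [p']
  rw [pl_mapTop, G.obj.mapTop_id]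

/-- Surjectivity descends along covers. -/
theorem surjective_of_cov {u : F.obj ⟶ G.obj} {ξ' ξ : 𝒳.obj} [IsAffine (StMod.sch 𝒳 ξ)] {φ : ξ' ⟶ ξ}
    (hφ : IsCov φ) (h : Function.Surjective ((u.app ξ').app ⊤)) : Function.Surjective ((u.app ξ).app ⊤) := by
  let l : Sec F ξ →ₗ[Fn 𝒳 ξ] Sec G ξ :=
    { toFun := fun e => (u.app ξ).app ⊤ e
      map_add' := map_add _
      map_smul' := fun c e => Scheme.Modules.Hom.app_smul (u.app ξ) c e }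
  let bF := isBC_of_mapTop F φ hφ.1 ‹_›
  let bG := isBC_of_mapTop G φ hφ.1 ‹_›
  letI := (fnMap φ).toAlgebra
  haveI : Module.FaithfullyFlat (Fn 𝒳 ξ) (Fn 𝒳 ξ') := hφ.faithfullyFlat
  obtain ⟨eF, heF⟩ := bF.exists_equiv
  obtain ⟨eG, heG⟩ := bG.exists_equiv
  refine (Module.FaithfullyFlat.lTensor_surjective_iff_surjective (Fn 𝒳 ξ) (Fn 𝒳 ξ') l).1 fun y => ?_
  obtain ⟨m, hm⟩ := h (eG y)
  refine ⟨eF.symm m, eG.injective ?_⟩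
  rw [← hm]
  have key : ∀ t, eG (l.lTensor (Fn 𝒳 ξ') t) = (u.app ξ').app ⊤ (eF t) := by
    intro t
    induction t using TensorProduct.induction_on with
    | zero => simp only [map_zero]
    | add a b ha hb => simp only [map_add, ha, hb]
    | tmul c e =>
      rw [LinearMap.lTensor_tmul, heG, heF, Scheme.Modules.Hom.app_smul]
      exact congrArg (c • ·) (StMod.Mod.mapTop_app u φ e)
  rw [key, LinearEquiv.apply_symm_apply]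

/-- A morphism surjective at the charts is surjective. -/
theorem isSurj_of_charts {u : F.obj ⟶ G.obj}
    (h : ∀ i, Function.Surjective ((u.app (𝔸.x i)).app ⊤)) : StMod.Mod.IsSurj u := by
  intro ξ hξ
  obtain ⟨ξ', φ, i, hφ, ⟨α⟩⟩ := 𝔸.cov ξ hξ
  haveI := hξ
  refine surjective_of_cov hφ fun y => ?_
  refine sec_induction (φ := α) hφ.1 (𝔸.affx i) (P := fun y => ∃ m, (u.app ξ').app ⊤ m = y) y
    ⟨0, map_zero _⟩ ?_ fun r z => ?_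
  · rintro a b ⟨p, rfl⟩ ⟨q, rfl⟩
    exact ⟨p + q, map_add _ _ _⟩
  · obtain ⟨m, hm⟩ := h i z
    refine ⟨r • F.obj.mapTop α m, ?_⟩
    rw [Scheme.Modules.Hom.app_smul]
    exact congrArg (r • ·) ((StMod.Mod.mapTop_app u α m).symm.trans (congrArg (G.obj.mapTop α) hm))

end AtlasI

end Groth.Agent.H14CohBC
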