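import Groth.Agent.H14CohBC.AtlasI
import Groth.Agent.H14QCoh.AtlasFExists

/-!
# The atlas of all affine smooth charts
-/

set_option autoImplicit false
set_option linter.style.haveILetI false
set_option backward.isDefEq.respectTransparency false
set_option backward.isDefEq.respectTransparency.types false

universe u

open CategoryTheory CategoryTheory.Limits AlgebraicGeometry

noncomputable section

namespace Groth.Agent.H14CohBC

open H14Fib H14AlgSt H14Stk H14QCoh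

variable {S : Scheme.{u}} {𝒵 : AlgSt.Cat S} {U U₁ U₂ : Over S}

/-- An arrow between values of a chart over the top is the value of an arrow of the slice. -/
theorem exists_map_of_chart (h : FibCat.IsFibGrpd 𝒵.p) (x : FibCat.overCat U ⥤ᵇ 𝒵)
    {u u' : (FibCat.overCat U).obj} (k : x.obj u ⟶ x.obj u')
    (hk : x.map (toTop u) = k ≫ x.map (toTop u')) : ∃ i : u ⟶ u', x.map i = k := by
  let g : StMod.sch (FibCat.overCat U) u ⟶ StMod.sch (FibCat.overCat U) u' :=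
    eqToHom (StMod.sch_obj_eq x u).symm ≫ StMod.bmap 𝒵 k ≫ eqToHom (StMod.sch_obj_eq x u')
  obtain ⟨i, hi, hib⟩ := exists_factor (fibGrpd_overCat U) (toTop u') (toTop u) g (by
    rw [← cancel_epi (eqToHom (StMod.sch_obj_eq x u)), ← StMod.bmap_map_comm x (toTop u) rfl, hk,
      StMod.bmap_comp]
    simp [g, StMod.bmap_map_comm x (toTop u') rfl])
  refine ⟨i, hom_ext_bmap h (x.map (toTop u')) (by rw [← x.map_comp, hi, hk]) ?_⟩
  rw [← cancel_mono (eqToHom (StMod.sch_obj_eq x u')), StMod.bmap_map_comm x i rfl, hib]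
  simp [g]

/-- Two arrows to the object of a chart are covered by a chart of the pairs of points. -/
theorem exists_cov₂_charts (h : FibCat.IsFibGrpd 𝒵.p) {x₁ : FibCat.overCat U₁ ⥤ᵇ 𝒵}
    {x₂ : FibCat.overCat U₂ ⥤ᵇ 𝒵} {V : Over S} {r : FibCat.overCat V ⥤ᵇ FibCat.fp x₁ x₂} (hr : AlgSt.RepByAlgSpWith (AlgSp.LocP @Smooth) r)
    (hrs : AlgSt.RepByAlgSpWith AlgSp.IsSurjectiveMor r) :
    ∀ (ξ : 𝒵.obj) (α : ξ ⟶ x₁.obj (topObj U₁)) (β : ξ ⟶ x₂.obj (topObj U₂)), IsAffine (StMod.sch 𝒵 ξ) →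
      ∃ (ξ' : 𝒵.obj) (φ : ξ' ⟶ ξ) (c : ξ' ⟶ x₁.obj (r.obj (topObj V)).obj.fst), IsCov φ ∧
        φ ≫ α = c ≫ x₁.map (toTop (r.obj (topObj V)).obj.fst) ∧
        φ ≫ β = c ≫ (r.obj (topObj V)).obj.iso.hom ≫ x₂.map (toTop (r.obj (topObj V)).obj.snd) := by
  let ω := r.obj (topObj V)
  have hU₁ := fibGrpd_overCat U₁
  have hU₂ := fibGrpd_overCat U₂
  have hF := fp_fibGrpd (F := x₁) (G := x₂) hU₁ hU₂ h
  intro ξ α β hξ
  obtain ⟨s₁, χ₁, es₁, h₁, e₁⟩ := exists_vertical h x₁ α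
  obtain ⟨s₂, χ₂, es₂, h₂, e₂⟩ := exists_vertical h x₂ β
  let iso := χ₁ ≪≫ χ₂.symm
  have hiso : 𝒵.p.IsHomLift (𝟙 s₁.left) iso.hom := by
    have h₁' : 𝒵.p.IsHomLift (𝟙 (𝒵.p.obj ξ)) χ₁.hom := es₁ ▸ h₁
    have h₂' : 𝒵.p.IsHomLift (𝟙 (𝒵.p.obj ξ)) χ₂.hom := es₂ ▸ h₂
    have := IsHomLift.lift_id_inv 𝒵.p (𝒵.p.obj ξ) χ₂
    rw [es₁]
    exact homLift_id_comp h₁' this
  let ω₀ : (FibCat.fp x₁ x₂).obj := ⟨{ fst := s₁, snd := s₂, iso := iso }, hiso⟩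
  have hω₀ : IsAffine (StMod.sch (FibCat.fp x₁ x₂) ω₀) := by
    change IsAffine (StMod.sch (FibCat.overCat U₁) s₁)
    rw [show StMod.sch (FibCat.overCat U₁) s₁ = StMod.sch 𝒵 ξ from congrArg (fun t => t.left) es₁]
    exact hξ
  obtain ⟨ω', φ', hφ', ⟨m⟩⟩ := exists_cov_lift hF hr hrs ω₀ hω₀
  refine ⟨x₁.obj ω'.obj.fst, x₁.map φ'.hom.fst ≫ χ₁.hom, x₁.map m.hom.fst, ⟨?_, ?_, ?_⟩, ?_, ?_⟩
  · have := hφ'.1
    change IsAffine (StMod.sch (FibCat.overCat U₁) ω'.obj.fst) at this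
    rwa [StMod.sch_obj_eq x₁]
  all_goals first
    | (haveI : IsIso (StMod.bmap 𝒵 χ₁.hom) :=
        inferInstanceAs (IsIso ((𝒵.p ⋙ Over.forget S).map χ₁.hom))
       have hb : StMod.bmap 𝒵 (x₁.map φ'.hom.fst) = (eqToHom (StMod.sch_obj_eq x₁ _) ≫
           StMod.bmap (FibCat.fp x₁ x₂) φ') ≫ eqToHom (StMod.sch_obj_eq x₁ _).symm := by
         rw [← cancel_mono (eqToHom (StMod.sch_obj_eq x₁ _)), StMod.bmap_map_comm x₁ φ'.hom.fst rfl]
         simp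
         rfl
       have := hφ'.2.1
       have := hφ'.2.2
       rw [StMod.bmap_comp, hb]
       infer_instance)
    | skip
  · rw [Category.assoc, e₁, ← x₁.map_comp, ← x₁.map_comp, toTop_comp, toTop_comp]
  · have w₀ : x₁.map φ'.hom.fst ≫ χ₁.hom ≫ χ₂.inv = ω'.obj.iso.hom ≫ x₂.map φ'.hom.snd := φ'.hom.w
    have w₁ : x₁.map m.hom.fst ≫ ω.obj.iso.hom = ω'.obj.iso.hom ≫ x₂.map m.hom.snd := m.hom.w
    have hχ : χ₁.hom = (χ₁.hom ≫ χ₂.inv) ≫ χ₂.hom := by simp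
    rw [hχ, ← Category.assoc, w₀, Category.assoc, Category.assoc, e₂, ← x₂.map_comp, reassoc_of% w₁, ← x₂.map_comp,
      toTop_comp, toTop_comp]

/-- Two smooth affine charts with quasi-compact pairs of points have an affine chart of the pairs, flat over both, the
parallel pairs of arrows to it being covered. -/
theorem exists_pair_chart (h : FibCat.IsFibGrpd 𝒵.p) {x₁ : FibCat.overCat U₁ ⥤ᵇ 𝒵} {x₂ : FibCat.overCat U₂ ⥤ᵇ 𝒵}
    (hx₁ : AlgSt.RepByAlgSpWith (AlgSp.LocP @Smooth) x₁) (hx₂ : AlgSt.RepByAlgSpWith (AlgSp.LocP @Smooth) x₂)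
    (hR : AlgSt.IsQuasiCompact (FibCat.fp x₁ x₂)) :
    ∃ (y : 𝒵.obj) (a : y ⟶ x₁.obj (topObj U₁)) (b : y ⟶ x₂.obj (topObj U₂)),
      IsAffine (StMod.sch 𝒵 y) ∧ Flat (StMod.bmap 𝒵 a) ∧ Flat (StMod.bmap 𝒵 b) ∧
      (∀ (ξ : 𝒵.obj) (α : ξ ⟶ x₁.obj (topObj U₁)) (β : ξ ⟶ x₂.obj (topObj U₂)), IsAffine (StMod.sch 𝒵 ξ) →
        ∃ (ξ' : 𝒵.obj) (φ : ξ' ⟶ ξ) (c : ξ' ⟶ y), IsCov φ ∧ φ ≫ α = c ≫ a ∧ φ ≫ β = c ≫ b) ∧
      ∀ (ξ : AObj 𝒵) (c c' : ξ.1 ⟶ y), c ≫ a = c' ≫ a → c ≫ b = c' ≫ b → ∀ p : StMod.sch 𝒵 ξ.1,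
        ∃ (ξ' z : AObj 𝒵) (φ : ξ'.1 ⟶ ξ.1) (e : ξ'.1 ⟶ z.1) (d d' : z.1 ⟶ y), Flat (StMod.bmap 𝒵 φ) ∧
          (∃ q, StMod.bmap 𝒵 φ q = p) ∧ Flat (StMod.bmap 𝒵 d) ∧ φ ≫ c = e ≫ d ∧ φ ≫ c' = e ≫ d' ∧
          d ≫ a = d' ≫ a ∧ d ≫ b = d' ≫ b := by
  obtain ⟨V, r, hV, hr, hrs⟩ := hR
  let ω := r.obj (topObj V)
  let p₁ := FibCat.fpFst x₁ x₂
  let p₂ := FibCat.fpSnd x₁ x₂
  let y := x₁.obj ω.obj.fst
  let a : y ⟶ x₁.obj (topObj U₁) := x₁.map (toTop ω.obj.fst)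
  let b : y ⟶ x₂.obj (topObj U₂) := ω.obj.iso.hom ≫ x₂.map (toTop ω.obj.snd)
  have hV' := fibGrpd_overCat V
  have hU₁ := fibGrpd_overCat U₁
  have hU₂ := fibGrpd_overCat U₂
  have hR := fp_fibGrpd (F := x₁) (G := x₂) hU₁ hU₂ h
  have hP := fp_fibGrpd (F := r) (G := r) hV' hV' hR
  have hsω : StMod.sch 𝒵 y = V.left :=
    (congrArg (fun t => t.left) (x₁.w_obj ω.obj.fst)).trans (congrArg (fun t => t.left) (r.w_obj (topObj V)))
  have hfa : Flat (StMod.bmap 𝒵 a) := flat_map x₁ (flat_toTop_of_smooth (BasedFunctor.comp r p₁)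
    (repWith_locP_comp H12AlgSp.etLocal_smooth hV' hR hr (repWith_fpFst x₁ hx₂)))
  have hfb : Flat (StMod.bmap 𝒵 b) := flat_comp (flat_iso ω.obj.iso) (flat_map x₂
    (flat_toTop_of_smooth (BasedFunctor.comp r p₂)
      (repWith_locP_comp H12AlgSp.etLocal_smooth hV' hR hr (repWith_fpSnd x₂ hx₁))))
  refine ⟨y, a, b, hsω ▸ hV, hfa, hfb, exists_cov₂_charts h hr hrs, ?_⟩
  intro ξ c c' hca hcb p
  -- the two points of `V`
  have hpy : 𝒵.p.obj y = V := (x₁.w_obj ω.obj.fst).trans (r.w_obj (topObj V))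
  let gc : 𝒵.p.obj ξ.1 ⟶ V := 𝒵.p.map c ≫ eqToHom hpy
  let gc' : 𝒵.p.obj ξ.1 ⟶ V := 𝒵.p.map c' ≫ eqToHom hpy
  let s : (FibCat.overCat V).obj := Over.mk gc
  let s' : (FibCat.overCat V).obj := Over.mk gc'
  -- the arrow of `𝒵` under an object of `V`
  let dy : ∀ t : (FibCat.overCat V).obj, x₁.obj (r.obj t).obj.fst ⟶ y := fun t =>
    x₁.map (p₁.map (r.map (toTop t)))
  have dy_a : ∀ t, dy t ≫ a = x₁.map (toTop (r.obj t).obj.fst) := fun t => by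
    rw [← x₁.map_comp]
    exact congrArg x₁.toFunctor.map (toTop_comp _)
  have dy_b : ∀ t, dy t ≫ b = (r.obj t).obj.iso.hom ≫ x₂.map (toTop (r.obj t).obj.snd) := fun t => by
    have w : x₁.map (r.map (toTop t)).hom.fst ≫ ω.obj.iso.hom =
        (r.obj t).obj.iso.hom ≫ x₂.map (r.map (toTop t)).hom.snd := (r.map (toTop t)).hom.w
    change x₁.map (r.map (toTop t)).hom.fst ≫ ω.obj.iso.hom ≫ x₂.map (toTop ω.obj.snd) = _
    rw [reassoc_of% w, ← x₂.map_comp, toTop_comp]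
  -- comparison with `ξ`
  have vert : ∀ (k : ξ.1 ⟶ y) (t : (FibCat.overCat V).obj), t = Over.mk (𝒵.p.map k ≫ eqToHom hpy) →
      ∃ χ : x₁.obj (r.obj t).obj.fst ⟶ ξ.1, χ ≫ k = dy t ∧
        ∃ e : StMod.sch 𝒵 (x₁.obj (r.obj t).obj.fst) = StMod.sch 𝒵 ξ.1, StMod.bmap 𝒵 χ = eqToHom e := by
    intro k t ht
    subst ht
    let t : (FibCat.overCat V).obj := Over.mk (𝒵.p.map k ≫ eqToHom hpy)
    have e : 𝒵.p.obj (x₁.obj (r.obj t).obj.fst) = 𝒵.p.obj ξ.1 :=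
      (x₁.w_obj (r.obj t).obj.fst).trans (r.w_obj t)
    have hdy : 𝒵.p.IsHomLift t.hom (dy t) :=
      @BasedFunctor.preserves_isHomLift _ _ _ _ x₁ _ _ _ _ _ _
        (@BasedFunctor.preserves_isHomLift _ _ _ _ p₁ _ _ _ _ _ _
          (@BasedFunctor.preserves_isHomLift _ _ _ _ r _ _ _ _ _ _ (overCat_isHomLift (toTop t))))
    obtain ⟨χ, hχ, hχb⟩ := exists_factor h k (dy t) (eqToHom (congrArg (fun T => T.left) e)) (by
      have := congrArg (fun m => m.left) (IsHomLift.fac' 𝒵.p t.hom (dy t))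
      refine Eq.trans ?_ this.symm
      simp [t, StMod.bmap])
    exact ⟨χ, hχ, _, hχb⟩
  obtain ⟨χ, hχ, eχ, hχb⟩ := vert c s rfl
  obtain ⟨χ', hχ', eχ', hχb'⟩ := vert c' s' rfl
  have hs : (r.obj s).obj.fst.left = (r.obj s').obj.fst.left := (r.w_obj s).trans (r.w_obj s').symm
  -- the components of the comparison of the two points
  have hfst : x₁.map (toTop (r.obj s).obj.fst) = χ ≫ c ≫ a := by rw [← dy_a, ← hχ, Category.assoc]
  have hfst' : x₁.map (toTop (r.obj s').obj.fst) = χ' ≫ c' ≫ a := by rw [← dy_a, ← hχ', Category.assoc]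
  have hsnd : (r.obj s).obj.iso.hom ≫ x₂.map (toTop (r.obj s).obj.snd) = χ ≫ c ≫ b := by
    rw [← dy_b, ← hχ, Category.assoc]
  have hsnd' : (r.obj s').obj.iso.hom ≫ x₂.map (toTop (r.obj s').obj.snd) = χ' ≫ c' ≫ b := by
    rw [← dy_b, ← hχ', Category.assoc]
  obtain ⟨κ, hκ, hκb⟩ := exists_factor h χ' χ (eqToHom (eχ.trans eχ'.symm)) (by rw [hχb, hχb']; simp)
  obtain ⟨i₁, hi₁⟩ := exists_map_of_chart h x₁ κ (by rw [hfst, hfst', ← hκ, Category.assoc, hca])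
  obtain ⟨i₂, hi₂⟩ := exists_map_of_chart h x₂ ((r.obj s).obj.iso.inv ≫ κ ≫ (r.obj s').obj.iso.hom) (by
    rw [Category.assoc, Category.assoc, hsnd', ← hcb, reassoc_of% hκ, ← hsnd, Iso.inv_hom_id_assoc])
  let θ₁ : r.obj s ⟶ r.obj s' := fpHom i₁ i₂ (by rw [hi₁, hi₂, Iso.hom_inv_id_assoc])
  have hθv : (FibCat.fp x₁ x₂).p.IsHomLift (𝟙 (𝒵.p.obj ξ.1)) θ₁ := by
    refine IsHomLift.of_fac' _ _ _ (r.w_obj s) (r.w_obj s') (Over.OverMorphism.ext ?_)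
    change (StMod.bmap (FibCat.overCat U₁) i₁ : StMod.sch (FibCat.overCat U₁) _ ⟶ _) = _
    have h1 := StMod.bmap_map_comm x₁ i₁ rfl
    rw [hi₁, hκb] at h1
    rw [← cancel_epi (eqToHom (StMod.sch_obj_eq x₁ (r.obj s).obj.fst)), ← h1]
    simp
  haveI : IsIso θ₁ := isIso_of_fibGrpd hR (𝟙 (𝒵.p.obj ξ.1)) θ₁
  let ω₀ : (FibCat.fp r r).obj := ⟨{ fst := s, snd := s', iso := asIso θ₁ }, hθv⟩
  have hω₀ : IsAffine (StMod.sch (FibCat.fp r r) ω₀) := ξ.2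
  -- an atlas of the pairs
  obtain ⟨-, -, A, -, α, -, -, -, -, hα, hαs, -, -⟩ :=
    exists_atlas_of_rep (f := r) r (repByAlgSp1_of_with hr V r)
  obtain ⟨ω', φ', hφ', ⟨m⟩⟩ := exists_cov_lift hP hα hαs ω₀ hω₀
  let q₁ := FibCat.fpFst r r
  let Ψ : FibCat.fp r r ⥤ᵇ 𝒵 := BasedFunctor.comp q₁ (BasedFunctor.comp r (BasedFunctor.comp p₁ x₁))
  let z₀ := α.obj (topObj A)
  let d₀ : Ψ.obj z₀ ⟶ y := dy z₀.obj.fst
  let d₀' : Ψ.obj z₀ ⟶ y := x₁.map z₀.obj.iso.hom.hom.fst ≫ dy z₀.obj.snd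
  have hd : Flat (StMod.bmap 𝒵 d₀) := flat_map x₁ (flat_map p₁ (flat_map r
    (flat_toTop_of_smooth (BasedFunctor.comp α q₁)
      (repWith_locP_comp H12AlgSp.etLocal_smooth (fibGrpd_overCat A) hP hα (repWith_fpFst r hr)))))
  have hda : d₀ ≫ a = d₀' ≫ a := by
    rw [dy_a, Category.assoc, dy_a, ← x₁.map_comp, toTop_comp]
    rfl
  have hdb : d₀ ≫ b = d₀' ≫ b := by
    have w : x₁.map z₀.obj.iso.hom.hom.fst ≫ (r.obj z₀.obj.snd).obj.iso.hom =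
        (r.obj z₀.obj.fst).obj.iso.hom ≫ x₂.map z₀.obj.iso.hom.hom.snd := z₀.obj.iso.hom.hom.w
    rw [dy_b, Category.assoc, dy_b, reassoc_of% w, ← x₂.map_comp, toTop_comp]
  have dy_comp : ∀ {t t' : (FibCat.overCat V).obj} (k : t ⟶ t'),
      x₁.map (r.map k).hom.fst ≫ dy t' = dy t := fun {t t'} k => by
    change x₁.map (p₁.map (r.map k)) ≫ x₁.map (p₁.map (r.map (toTop t'))) = x₁.map (p₁.map (r.map (toTop t)))
    rw [← x₁.map_comp, ← p₁.map_comp, ← r.map_comp, toTop_comp]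
  let φ : Ψ.obj ω' ⟶ ξ.1 := Ψ.map φ' ≫ χ
  have hcd : φ ≫ c = Ψ.map m ≫ d₀ := by
    rw [Category.assoc, hχ]
    exact (dy_comp φ'.hom.fst).trans (dy_comp m.hom.fst).symm
  have hcd' : φ ≫ c' = Ψ.map m ≫ d₀' := by
    have w₀ : x₁.map (r.map φ'.hom.fst).hom.fst ≫ x₁.map i₁ =
        x₁.map ω'.obj.iso.hom.hom.fst ≫ x₁.map (r.map φ'.hom.snd).hom.fst := by
      rw [← x₁.map_comp, ← x₁.map_comp]
      exact congrArg (fun k : r.obj ω'.obj.fst ⟶ r.obj s' => x₁.map k.hom.fst) φ'.hom.w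
    have w₁ : x₁.map (r.map m.hom.fst).hom.fst ≫ x₁.map z₀.obj.iso.hom.hom.fst =
        x₁.map ω'.obj.iso.hom.hom.fst ≫ x₁.map (r.map m.hom.snd).hom.fst := by
      rw [← x₁.map_comp, ← x₁.map_comp]
      exact congrArg (fun k : r.obj ω'.obj.fst ⟶ r.obj z₀.obj.snd => x₁.map k.hom.fst) m.hom.w
    rw [Category.assoc, ← hκ, Category.assoc, hχ', ← hi₁]
    refine ((Category.assoc _ _ _).symm.trans (congrArg (· ≫ dy s') w₀)).trans ?_
    refine Eq.trans ?_ (((congrArg (· ≫ dy z₀.obj.snd) w₁).symm.trans (Category.assoc _ _ _)))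
    rw [Category.assoc, Category.assoc, dy_comp, dy_comp]
  -- an affine neighbourhood
  have hschΨ : ∀ {u u' : (FibCat.fp r r).obj} (k : u' ⟶ u), StMod.bmap 𝒵 (Ψ.map k) =
      eqToHom (StMod.sch_obj_eq Ψ u') ≫ StMod.bmap (FibCat.fp r r) k ≫ eqToHom (StMod.sch_obj_eq Ψ u).symm :=
    fun {u u'} k => by
    rw [← cancel_mono (eqToHom (StMod.sch_obj_eq Ψ u)), StMod.bmap_map_comm Ψ k rfl]
    simp
  have hφfl : Flat (StMod.bmap 𝒵 φ) := flat_comp (flat_map Ψ hφ'.2.1) (by rw [hχb]; infer_instance)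
  have hφs : Surjective (StMod.bmap 𝒵 φ) := by
    haveI := hφ'.2.2
    rw [StMod.bmap_comp, hschΨ, hχb]
    infer_instance
  obtain ⟨q, hq⟩ := hφs.surj p
  obtain ⟨W, hW, hqW, -⟩ :=
    exists_isAffineOpen_mem_and_subset (x := StMod.bmap 𝒵 (Ψ.map m) q) (U := ⊤) trivial
  obtain ⟨W', hW', hqW', hsub⟩ :=
    exists_isAffineOpen_mem_and_subset (x := q) (U := StMod.bmap 𝒵 (Ψ.map m) ⁻¹ᵁ W) hqW
  obtain ⟨z, j, hzA, hjI, hjR⟩ := exists_open_lift h (Ψ.obj z₀) W hW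
  obtain ⟨ξ', k, hξA, hkI, hkR⟩ := exists_open_lift h (Ψ.obj ω') W' hW'
  have hrange : Set.range (StMod.bmap 𝒵 k ≫ StMod.bmap 𝒵 (Ψ.map m)) ⊆ Set.range (StMod.bmap 𝒵 j) := by
    rintro _ ⟨w, rfl⟩
    exact hjR.ge (hsub (hkR.le ⟨w, rfl⟩))
  obtain ⟨e, he, -⟩ := exists_factor h j (k ≫ Ψ.map m) (IsOpenImmersion.lift _ _ hrange)
    ((IsOpenImmersion.lift_fac _ _ _).trans (StMod.bmap_comp _ _).symm)
  obtain ⟨q', hq'⟩ := hkR.ge hqW'
  refine ⟨⟨ξ', hξA⟩, ⟨z, hzA⟩, k ≫ φ, e, j ≫ d₀, j ≫ d₀', flat_comp inferInstance hφfl, ⟨q', ?_⟩,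
    flat_comp inferInstance hd, ?_, ?_, ?_, ?_⟩
  · rw [StMod.bmap_comp, Scheme.Hom.comp_apply, hq', hq]
  · rw [Category.assoc, hcd, reassoc_of% he]
  · rw [Category.assoc, hcd', reassoc_of% he]
  · rw [Category.assoc, Category.assoc, hda]
  · rw [Category.assoc, Category.assoc, hdb]


/-- A smooth chart with affine scheme. -/
structure SmChart (𝒳 : AlgSt.Cat S) where
  U : Over S
  aff : IsAffine U.left
  x : FibCat.overCat U ⥤ᵇ 𝒳
  smooth : AlgSt.RepByAlgSpWith (AlgSp.LocP @Smooth) x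

/-- The object of a chart. -/
abbrev SmChart.obj (i : SmChart 𝒵) : 𝒵.obj := i.x.obj (topObj i.U)

/-- An object with affine scheme maps to a smooth affine chart after a cover. -/
theorem exists_cov_chart (h : AlgSt.IsAlgStack Scheme.fppfPrecoverage 𝒵) (ζ : 𝒵.obj)
    (hζ : IsAffine (StMod.sch 𝒵 ζ)) :
    ∃ (ζ' : 𝒵.obj) (φ : ζ' ⟶ ζ) (i : SmChart 𝒵), IsCov φ ∧ Nonempty (ζ' ⟶ i.obj) := by
  obtain ⟨U, x, hx, hxs⟩ := h.atlas
  have hg := h.isStack.1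
  have := isFibered_of_fibGrpd hg
  obtain ⟨z, ez, -, hez⟩ := exists_fromOver (𝒳 := 𝒵) (x := ζ) rfl
  obtain ⟨A, c, v, hcf, hcl, hcs, ⟨iso⟩⟩ := exists_fp_cover hg hx hxs z
  haveI : IsAffine (𝒵.p.obj ζ).left := hζ
  have hpt : ∀ t : (𝒵.p.obj ζ).left, ∃ (P : U.left.affineOpens) (O : A.left.affineOpens),
      O.1 ≤ v.left ⁻¹ᵁ P.1 ∧ ∃ a ∈ O.1, c.left a = t := by
    intro t
    obtain ⟨a, ha⟩ := c.left.surjective t
    obtain ⟨P, hP, haP, -⟩ := exists_isAffineOpen_mem_and_subset (x := v.left a) (U := ⊤) trivial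
    obtain ⟨O, hO, haO, hle⟩ := exists_isAffineOpen_mem_and_subset (x := a) (U := v.left ⁻¹ᵁ P) haP
    exact ⟨⟨P, hP⟩, ⟨O, hO⟩, hle, a, haO, ha⟩
  choose P O hle hmem using hpt
  obtain ⟨s, hs⟩ := isCompact_univ.elim_finite_subcover (fun t => c.left '' ((O t).1 : Set A.left))
    (fun t => c.left.isOpenMap _ (O t).1.isOpen) fun t _ => Set.mem_iUnion.2 ⟨t, hmem t⟩
  let Z : s → Scheme.{u} := fun k => (O k.1).1.toScheme
  let Q : s → Scheme.{u} := fun k => (P k.1).1.toScheme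
  haveI : ∀ k, IsAffine (Z k) := fun k => (O k.1).2
  haveI : ∀ k, IsAffine (Q k) := fun k => (P k.1).2
  let w : (∐ Z) ⟶ A.left := Sigma.desc fun k => (O k.1).1.ι
  let u₀ : (∐ Q) ⟶ U.left := Sigma.desc fun k => (P k.1).1.ι
  let l : ∀ k, Z k ⟶ Q k := fun k => IsOpenImmersion.lift (P k.1).1.ι ((O k.1).1.ι ≫ v.left) (by
    rintro _ ⟨q, rfl⟩
    rw [Scheme.Opens.range_ι]
    exact hle k.1 q.2)
  let w' : (∐ Z) ⟶ ∐ Q := Sigma.desc fun k => l k ≫ Sigma.ι Q k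
  have hw : w' ≫ u₀ = w ≫ v.left := Sigma.hom_ext _ _ fun k => by
    simp only [w', w, u₀, l, Sigma.ι_desc_assoc, Category.assoc, Sigma.ι_desc, IsOpenImmersion.lift_fac]
  let U' : Over S := Over.mk (u₀ ≫ U.hom)
  let u' : U' ⟶ U := Over.homMk u₀ rfl
  haveI : Smooth u'.left := IsZariskiLocalAtSource.sigmaDesc (P := @Smooth) fun k => inferInstance
  let i : SmChart 𝒵 :=
    { U := U'
      aff := inferInstanceAs (IsAffine (∐ Q))
      x := BasedFunctor.comp (AlgSt.overMap u') x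
      smooth := repWith_locP_comp H12AlgSp.etLocal_smooth (fibGrpd_overCat U') (fibGrpd_overCat U)
        (repWith_overMap_smooth u') hx }
  let T : Over S := Over.mk (w ≫ A.hom)
  let k : T ⟶ A := Over.homMk w rfl
  let k' : T ⟶ U' := Over.homMk w' (by
    change w' ≫ u₀ ≫ U.hom = w ≫ A.hom
    rw [reassoc_of% hw, Over.w v])
  have hk : k ≫ v = k' ≫ u' := Over.OverMorphism.ext hw.symm
  let sA : (FibCat.overCat A).obj := Over.mk k
  let sU : (FibCat.overCat U').obj := Over.mk k'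
  let φ : z.obj ((AlgSt.overMap c).obj sA) ⟶ ζ := z.map (toTop _) ≫ ez.hom
  have hobj : x.obj ((AlgSt.overMap v).obj sA) = i.x.obj sU :=
    congrArg x.obj (congrArg Over.mk hk)
  refine ⟨_, φ, i, ?_, ⟨(appIso iso sA).hom ≫ eqToHom hobj ≫ i.x.map (toTop sU)⟩⟩
  let e0 : StMod.sch 𝒵 (z.obj ((AlgSt.overMap c).obj sA)) = ∐ Z :=
    congrArg (fun t => t.left) (z.w_obj ((AlgSt.overMap c).obj sA))
  have hez' : StMod.bmap 𝒵 ez.hom = eqToHom (congrArg (fun t => t.left) (z.w_obj (topObj (𝒵.p.obj ζ)))) := by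
    have := congrArg (fun m => m.left) (IsHomLift.fac' 𝒵.p (𝟙 (𝒵.p.obj ζ)) ez.hom)
    refine this.trans ?_
    simp
  have hb : StMod.bmap 𝒵 φ = eqToHom e0 ≫ w ≫ c.left := by
    have h1 := StMod.bmap_map_comm z (toTop ((AlgSt.overMap c).obj sA)) rfl
    rw [show φ = z.map (toTop _) ≫ ez.hom from rfl, StMod.bmap_comp, hez']
    exact h1
  haveI : Flat w := IsZariskiLocalAtSource.sigmaDesc fun _ => inferInstance
  haveI : Surjective (w ≫ c.left) := ⟨fun t => by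
    obtain ⟨k, hk, a, ha, hat⟩ := Set.mem_iUnion₂.1 (hs (Set.mem_univ t))
    refine ⟨Sigma.ι Z ⟨k, hk⟩ ⟨a, ha⟩, ?_⟩
    rw [← Scheme.Hom.comp_apply]
    simp only [w, Sigma.ι_desc_assoc]
    rw [Scheme.Hom.comp_apply]
    exact hat⟩
  refine ⟨e0 ▸ inferInstanceAs (IsAffine (∐ Z)), ?_, ?_⟩ <;> rw [hb] <;> infer_instance

variable (h : AlgSt.IsAlgStack Scheme.fppfPrecoverage 𝒵)
  (hR : ∀ i j : SmChart 𝒵, AlgSt.IsQuasiCompact (FibCat.fp i.x j.x))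

/-- The atlas of all smooth affine charts of an algebraic stack with quasi-compact pairs of chart points. -/
def atlasI : AtlasI.{u + 1} 𝒵 :=
  have key : ∀ i j : SmChart 𝒵, _ := fun i j =>
    haveI := i.aff
    exists_pair_chart h.isStack.1 i.smooth j.smooth (hR i j)
  { ι := SmChart 𝒵
    x := fun i => i.obj
    y := fun i j => (key i j).choose
    a := fun i j => (key i j).choose_spec.choose
    b := fun i j => (key i j).choose_spec.choose_spec.choose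
    affx := fun i => (congrArg (fun t => t.left) (i.x.w_obj (topObj i.U)) :
      StMod.sch 𝒵 i.obj = i.U.left) ▸ i.aff
    affy := fun i j => (key i j).choose_spec.choose_spec.choose_spec.1
    flata := fun i j => (key i j).choose_spec.choose_spec.choose_spec.2.1
    flatb := fun i j => (key i j).choose_spec.choose_spec.choose_spec.2.2.1
    cov := exists_cov_chart h
    cov₂ := fun i j => (key i j).choose_spec.choose_spec.choose_spec.2.2.2.1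
    cov₃ := fun i j => (key i j).choose_spec.choose_spec.choose_spec.2.2.2.2 }

lemma atlasI_ι : (atlasI h hR).ι = SmChart 𝒵 := rfl

lemma atlasI_x (i : SmChart 𝒵) : (atlasI h hR).x i = i.obj := rfl

end Groth.Agent.H14CohBC
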