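import Groth.Agent.H14CohBC.EtaleChart
import Groth.Agent.H14QCoh.Transfer
import Groth.Agent.H14QCoh.SpSect

/-!
# Sections on the base change over an object mapping to an object of the target
-/

set_option autoImplicit false
set_option linter.style.haveILetI false
set_option backward.isDefEq.respectTransparency false
set_option backward.isDefEq.respectTransparency.types false

universe u

open CategoryTheory CategoryTheory.Limits AlgebraicGeometry Opposite TopologicalSpace

noncomputable section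

namespace Groth.Agent.H14CohBC

open H14Fib H14Stk H14QCoh

section Aff

variable {S : Scheme.{u}} {𝒲 𝒵 : AlgSt.Cat S} {q : 𝒲 ⥤ᵇ 𝒵} (R : AffRep q)

/-- A global section on the source as one of the direct image. -/
def pushGlob {N : StMod.QCoh 𝒲} (s : N.obj.GlobSect) : (R.push N).obj.GlobSect :=
  ⟨fun ξ => (s.1 (R.z ξ) : Sec N (R.z ξ)), fun ξ' ξ φ => (R.sec_mapTop N φ _).trans (s.2 (R.c φ))⟩

include R in
/-- Surjections on global sections along affine representable functors. -/
theorem surjective_globSectMap_push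
    (h : ∀ {F G : StMod.QCoh 𝒵} (v : F.obj ⟶ G.obj), StMod.Mod.IsSurj v →
      Function.Surjective (StMod.Mod.globSectMap v))
    {F G : StMod.QCoh 𝒲} (v : F.obj ⟶ G.obj) (hv : StMod.Mod.IsSurj v) :
    Function.Surjective (StMod.Mod.globSectMap v) := by
  intro s
  obtain ⟨T, hT⟩ := h (F := R.push F) (G := R.push G) (R.pushHom v) (fun ξ hξ y => by
    haveI := hξ
    obtain ⟨m, hm⟩ := hv (R.z ξ) (isAffine_of_isAffineHom (R.g ξ)) (R.sec G ξ y)
    exact ⟨m, hm⟩) (pushGlob R s)
  refine ⟨⟨fun ζ => F.obj.mapTop (R.sect ζ) (R.sec F _ (T.1 (q.obj ζ))), fun ζ' ζ f => ?_⟩,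
    StMod.Mod.GlobSect.ext fun ζ => ?_⟩
  · rw [← F.obj.mapTop_comp, ← R.sect_nat, F.obj.mapTop_comp, ← R.sec_mapTop, T.2 (q.map f)]
  · rw [StMod.Mod.globSectMap_val, ← StMod.Mod.mapTop_app]
    refine Eq.trans ?_ (s.2 (R.sect ζ))
    refine congrArg (G.obj.mapTop (R.sect ζ)) ?_
    exact congrArg (fun t : (R.push G).obj.GlobSect => t.1 (q.obj ζ)) hT

end Aff

variable {S : Scheme.{u}} {𝒳 : AlgSt.Cat S} {M M' : AlgSp.Sp S} (g : M' ⟶ M) (π : 𝒳 ⥤ᵇ AlgSt.ofSp M)
  (θ : (AlgSt.ofSp M').obj)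

local notation "π'" => FibCat.fpFst (AlgSt.ofSpMap g) π

/-- The points of the base change as a functor on the category over the image. -/
def spFun : StMod.fibCat π ((AlgSt.ofSpMap g).obj θ) ⥤ᵇ FibCat.fp (AlgSt.ofSpMap g) π where
  toFunctor :=
    { obj := fun z => spPt g π θ z.hom
      map := fun {z' z} k => ObjectProperty.homMk
        { fst := ⟨(π.map k.left).hom, by
            change M'.obj.map (π.map k.left).hom.op (M'.obj.map z.hom.hom.op θ.sec) = M'.obj.map z'.hom.hom.op θ.sec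
            rw [← CostructuredArrow.w k, Stk.EltObj.comp_hom, op_comp, Functor.map_comp_apply]⟩
          snd := k.left
          w := Stk.EltObj.hom_ext ((Category.comp_id _).trans (Category.id_comp _).symm) }
      map_id := fun z => fp_hom_ext (Stk.EltObj.hom_ext (by
        change (π.map (𝟙 z.left)).hom = 𝟙 (π.obj z.left).base
        rw [π.map_id]
        rfl)) rfl
      map_comp := fun {a b c} k l =>
        fp_hom_ext (Stk.EltObj.hom_ext (by
          change (π.map (k.left ≫ l.left)).hom = (π.map k.left).hom ≫ (π.map l.left).hom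
          rw [π.map_comp]
          rfl)) rfl }
  w := CategoryTheory.Functor.ext (fun z => π.w_obj _) fun z' z k => CategoryTheory.Functor.congr_hom π.w _

variable {g π θ}

/-- An object of the category over the image from an object over `θ`. -/
abbrev spBack {ω : (FibCat.fp (AlgSt.ofSpMap g) π).obj} (γ : (π').obj ω ⟶ θ) :
    (StMod.fibCat π ((AlgSt.ofSpMap g).obj θ)).obj :=
  CostructuredArrow.mk (sndArr g π θ γ)

/-- The arrow to the point of an object over `θ`. -/
def spUnit {ω : (FibCat.fp (AlgSt.ofSpMap g) π).obj} (γ : (π').obj ω ⟶ θ) :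
    ω ⟶ (spFun g π θ).obj (spBack γ) :=
  ObjectProperty.homMk
    { fst := ⟨ω.obj.iso.hom.hom, by
        change M'.obj.map ω.obj.iso.hom.hom.op (M'.obj.map (sndArr g π θ γ).hom.op θ.sec) = ω.obj.fst.sec
        rw [← Functor.map_comp_apply, ← op_comp]
        refine Eq.trans (congrArg (fun k : ω.obj.fst.base ⟶ θ.base => M'.obj.map k.op θ.sec) ?_) γ.map_sec
        change ω.obj.iso.hom.hom ≫ ω.obj.iso.inv.hom ≫ γ.hom = γ.hom
        have h1 : ω.obj.iso.hom.hom ≫ ω.obj.iso.inv.hom = 𝟙 _ :=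
          congrArg Stk.EltObj.Hom.hom ω.obj.iso.hom_inv_id
        rw [← Category.assoc, h1]
        exact Category.id_comp _⟩
      snd := 𝟙 ω.obj.snd
      w := Stk.EltObj.hom_ext (by
        change ω.obj.iso.hom.hom ≫ 𝟙 _ = ω.obj.iso.hom.hom ≫ (π.map (𝟙 ω.obj.snd)).hom
        rw [π.map_id]
        rfl) }

lemma spUnit_arr {ω : (FibCat.fp (AlgSt.ofSpMap g) π).obj} (γ : (π').obj ω ⟶ θ) :
    (π').map (spUnit γ) ≫ spArr g π θ (sndArr g π θ γ) = γ := Stk.EltObj.hom_ext (by
  change ω.obj.iso.hom.hom ≫ ω.obj.iso.inv.hom ≫ γ.hom = γ.hom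
  have h1 : ω.obj.iso.hom.hom ≫ ω.obj.iso.inv.hom = 𝟙 _ :=
    congrArg Stk.EltObj.Hom.hom ω.obj.iso.hom_inv_id
  rw [← Category.assoc, h1]
  exact Category.id_comp _)

lemma spFun_arr {z' z : (StMod.fibCat π ((AlgSt.ofSpMap g).obj θ)).obj} (k : z' ⟶ z) :
    (π').map ((spFun g π θ).map k) ≫ spArr g π θ z.hom = spArr g π θ z'.hom := Stk.EltObj.hom_ext (by
  change (π.map k.left).hom ≫ z.hom.hom = z'.hom.hom
  exact congrArg Stk.EltObj.Hom.hom (CostructuredArrow.w k))

/-- Surjections on sections of the base change over `θ` from surjections on the category over its image. -/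
theorem surjective_relSectMap_spFun {F G : StMod.QCoh (FibCat.fp (AlgSt.ofSpMap g) π)} (u : F ⟶ G)
    (h : Function.Surjective (StMod.Mod.globSectMap ((StMod.comapQ (spFun g π θ)).map u).hom)) :
    Function.Surjective (StMod.Mod.relSectMap π' u.hom θ) := by
  intro n
  let s : ((StMod.comapQ (spFun g π θ)).obj G).obj.GlobSect :=
    ⟨fun z => toSec (spFun g π θ) G z (n.1 _ (spArr g π θ z.hom)), fun z' z k => by
      rw [comap_mapTop, n.2 ((spFun g π θ).map k), spFun_arr]⟩
  obtain ⟨t, ht⟩ := h s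
  let m : ∀ z, Sec F ((spFun g π θ).obj z) := fun z => (toSec (spFun g π θ) F z).symm (t.1 z)
  have hm : ∀ {z' z} (k : z' ⟶ z), F.obj.mapTop ((spFun g π θ).map k) (m z) = m z' := fun {z' z} k => by
    refine (toSec (spFun g π θ) F z').injective ?_
    rw [← comap_mapTop, AddEquiv.apply_symm_apply, AddEquiv.apply_symm_apply]
    exact t.2 k
  have hu : ∀ z, (u.hom.app ((spFun g π θ).obj z)).app ⊤ (m z) = n.1 _ (spArr g π θ z.hom) := fun z => by
    refine (toSec (spFun g π θ) G z).injective ?_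
    refine (comapMap_toSec (spFun g π θ) u.hom z (m z)).symm.trans ?_
    rw [AddEquiv.apply_symm_apply]
    exact congrArg (fun r : ((StMod.comapQ (spFun g π θ)).obj G).obj.GlobSect => r.1 z) ht
  refine ⟨⟨fun ω γ => F.obj.mapTop (spUnit γ) (m (spBack γ)), fun ω' ω k γ => ?_⟩,
    StMod.Mod.RelSect.ext _ _ _ fun ω γ => ?_⟩
  · let kz : spBack ((π').map k ≫ γ) ⟶ spBack γ :=
      CostructuredArrow.homMk k.hom.snd (sndArr_nat g π θ k γ)
    have hk : spUnit ((π').map k ≫ γ) ≫ (spFun g π θ).map kz = k ≫ spUnit γ := by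
      refine fp_hom_ext (Stk.EltObj.hom_ext ?_) ((Category.id_comp _).trans (Category.comp_id _).symm)
      exact (congrArg Stk.EltObj.Hom.hom (k.hom.w : (AlgSt.ofSpMap g).map k.hom.fst ≫ ω.obj.iso.hom = _)).symm
    rw [← F.obj.mapTop_comp, ← hk, F.obj.mapTop_comp, hm]
  · rw [StMod.Mod.relSectMap_val, ← StMod.Mod.mapTop_app, hu]
    exact (n.2 (spUnit γ) _).trans (congrArg (n.1 ω) (spUnit_arr γ))

end Groth.Agent.H14CohBC
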