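import Groth.Agent.H14CohBC.BC

/-!
# Base change of cohomologically affine morphisms to spaces
-/

set_option autoImplicit false
set_option linter.style.haveILetI false
set_option backward.isDefEq.respectTransparency false
set_option backward.isDefEq.respectTransparency.types false

universe u

open CategoryTheory CategoryTheory.Limits AlgebraicGeometry Opposite TopologicalSpace

noncomputable section

namespace Groth.Agent.H14CohBC

open H14Fib H14AlgSt H14Stk H14QCoh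

variable {S : Scheme.{u}} {M M' : AlgSp.Sp S}

/-- An object over a space is covered by affine objects flat over it which map to affine etale charts of a space under
a morphism. -/
theorem exists_chart_family (hM : AlgSp.IsAlgSpace M) (g : M' ⟶ M) (E' : AlgSp.EtOver M') :
    ∃ (κ : Type u) (θ : κ → (AlgSt.ofSp M').obj) (E : κ → AlgSp.EtOver M) (β : ∀ k, θ k ⟶ StMod.etaOf E'),
      (∀ k, IsAffine (StMod.sch (AlgSt.ofSp M') (θ k))) ∧ (∀ k, IsAffine (E k).obj.left.left) ∧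
      (∀ k, Flat (StMod.bmap (AlgSt.ofSp M') (β k))) ∧
      (∀ k, Nonempty ((AlgSt.ofSpMap g).obj (θ k) ⟶ StMod.etaOf (E k))) ∧
      ∀ p : StMod.sch (AlgSt.ofSp M') (StMod.etaOf E'), ∃ k q, StMod.bmap (AlgSt.ofSp M') (β k) q = p := by
  obtain ⟨U, p, hpe, hps⟩ := hM.atlas
  let m : (AlgSp.yon S).obj E'.obj.left ⟶ M := E'.obj.hom ≫ g
  let R := hpe.rep.pullback m
  let r₁ : R ⟶ U := hpe.rep.fst' m
  let r₂ : R ⟶ E'.obj.left := hpe.rep.snd m
  haveI : Etale r₂.left := hpe.2 m _ _ (hpe.rep.isPullback m)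
  haveI : Surjective r₂.left := hps.2 m _ _ (hpe.rep.isPullback m)
  let κ : Type u := {WP : R.left.affineOpens × U.left.affineOpens // WP.1.1 ≤ r₁.left ⁻¹ᵁ WP.2.1}
  let W : κ → Over S := fun k => Over.mk (k.1.1.1.ι ≫ R.hom)
  let P : κ → Over S := fun k => Over.mk (k.1.2.1.ι ≫ U.hom)
  let w : ∀ k : κ, W k ⟶ R := fun k => Over.homMk k.1.1.1.ι rfl
  let ι : ∀ k : κ, P k ⟶ U := fun k => Over.homMk k.1.2.1.ι rfl
  let l : ∀ k : κ, (W k).left ⟶ (P k).left := fun k =>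
    IsOpenImmersion.lift k.1.2.1.ι (k.1.1.1.ι ≫ r₁.left) (by
      rintro _ ⟨q, rfl⟩
      exact (Scheme.Opens.range_ι k.1.2.1).ge (k.2 q.2))
  let d : ∀ k : κ, W k ⟶ P k := fun k => Over.homMk (l k) (by
    change l k ≫ k.1.2.1.ι ≫ U.hom = k.1.1.1.ι ≫ R.hom
    rw [IsOpenImmersion.lift_fac_assoc, Category.assoc, Over.w r₁])
  have hd : ∀ k, d k ≫ ι k = w k ≫ r₁ := fun k => Over.OverMorphism.ext (IsOpenImmersion.lift_fac _ _ _)
  have hE : ∀ k, AlgSp.RepWith @Etale ((AlgSp.yon S).map (ι k) ≫ p) := fun k =>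
    H12AlgSp.repWith_comp ((AlgSp.repWith_yon_map_iff @Etale (ι k)).2 (inferInstanceAs (Etale k.1.2.1.ι))) hpe
  refine ⟨κ, fun k => ⟨W k, M'.obj.map (w k ≫ r₂).op (StMod.etaOf E').sec⟩,
    fun k => AlgSp.EtOver.mk ((AlgSp.yon S).map (ι k) ≫ p) (hE k), fun k => ⟨w k ≫ r₂, rfl⟩,
    fun k => k.1.1.2, fun k => k.1.2.2, fun k => ?_, fun k => ⟨⟨d k, ?_⟩⟩, fun q => ?_⟩
  · change Flat (k.1.1.1.ι ≫ r₂.left)
    infer_instance
  · change M.obj.map (d k).op ((AlgSp.J S).uliftYonedaEquiv ((AlgSp.yon S).map (ι k) ≫ p)) =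
      g.hom.app (op (W k)) (M'.obj.map (w k ≫ r₂).op ((AlgSp.J S).uliftYonedaEquiv E'.obj.hom))
    rw [GrothendieckTopology.uliftYonedaEquiv_naturality, GrothendieckTopology.uliftYonedaEquiv_naturality]
    refine Eq.trans (congrArg (AlgSp.J S).uliftYonedaEquiv ?_) ((AlgSp.J S).uliftYonedaEquiv_comp _ g)
    change (AlgSp.yon S).map (d k) ≫ (AlgSp.yon S).map (ι k) ≫ p = ((AlgSp.yon S).map (w k ≫ r₂) ≫ E'.obj.hom) ≫ g
    rw [← (AlgSp.yon S).map_comp_assoc, hd, (AlgSp.yon S).map_comp, (AlgSp.yon S).map_comp, Category.assoc,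
      Category.assoc, Category.assoc, hpe.rep.map_fst', hpe.rep.w]
  · obtain ⟨a, ha⟩ := r₂.left.surjective q
    obtain ⟨P, hP, haP, -⟩ := exists_isAffineOpen_mem_and_subset (x := r₁.left a) (U := ⊤) trivial
    obtain ⟨O, hO, haO, hle⟩ := exists_isAffineOpen_mem_and_subset (x := a) (U := r₁.left ⁻¹ᵁ P) haP
    exact ⟨⟨(⟨O, hO⟩, ⟨P, hP⟩), hle⟩, ⟨a, haO⟩, ha⟩

variable {𝒳 : AlgSt.Cat S} (π : 𝒳 ⥤ᵇ AlgSt.ofSp M) (g : M' ⟶ M)

/-- Cohomological affineness is stable under base change. -/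
theorem isCohAffine_fpFst (h𝒳 : AlgSt.IsAlgStack Scheme.fppfPrecoverage 𝒳) (hM : AlgSp.IsAlgSpace M)
    (hM' : AlgSp.IsAlgSpace M') (hqc : AlgSt.IsQuasiCompactMor Scheme.fppfPrecoverage π)
    (hqs : AlgSt.IsQuasiSeparatedMor π)
    (hqcM : ∀ (U : Over S), IsAffine U.left → ∀ z : FibCat.overCat U ⥤ᵇ AlgSt.ofSp M,
      AlgSt.IsQuasiCompactMor Scheme.fppfPrecoverage z)
    (h : StMod.IsCohAffine π) : StMod.IsCohAffine (FibCat.fpFst (AlgSt.ofSpMap g) π) := by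
  intro F G u hu E' hE'
  have hY := isAlgStack_ofSp ⟨M, hM⟩
  have hY' := isAlgStack_ofSp ⟨M', hM'⟩
  have h' := isAlgStack_fp' hY' h𝒳 hY (AlgSt.ofSpMap g) π
  obtain ⟨κ, θ, E, β, hθ, hE, hfl, hc, hs⟩ := exists_chart_family hM g E'
  haveI : ∀ k, IsAffine (StMod.sch (AlgSt.ofSp M') (θ k)) := hθ
  refine surjective_relSectMap_of_family (FibCat.fpFst (AlgSt.ofSpMap g) π) h' hY'
    (isQCMor_fpFst h𝒳 hY hY' (AlgSt.ofSpMap g) hqc) (repWith_diag_fpFst _ hqs) u hE' β hfl hs fun k => ?_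
  obtain ⟨c⟩ := hc k
  refine surjective_relSectMap_spFun u ?_
  exact surjective_globSectMap_push (bcAffRep π c h𝒳.isStack.1 hY.isStack.1 (hθ k) (hE k))
    (fun v hv => surjective_globSectMap_eta π h𝒳 hM hqc hqs hqcM h (E k) (hE k) v hv)
    _ (isSurj_comapMap _ u hu)

end Groth.Agent.H14CohBC
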