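import Groth.Agent.H14CohBC.CohAffBC
import Groth.Agent.H12AlgSp.QSApps

/-!
# Affine schemes over quasi-separated spaces are quasi-compact over them
-/

set_option autoImplicit false
set_option linter.style.haveILetI false
set_option backward.isDefEq.respectTransparency false
set_option backward.isDefEq.respectTransparency.types false

universe u

open CategoryTheory CategoryTheory.Limits AlgebraicGeometry Opposite

noncomputable section

namespace Groth.Agent.H14CohBC

open H14Fib H14AlgSt H14Stk

variable {S : Scheme.{u}} {M : AlgSp.Sp S}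

/-- Functors from a scheme to a space are quasi-compact if the morphisms of sheaves are. -/
theorem isQCMor_to_sp (hM : AlgSp.IsAlgSpace M) {U : Over S}
    (h : ∀ m : (AlgSp.yon S).obj U ⟶ M, AlgSp.IsQuasiCompactMor m) (z : FibCat.overCat U ⥤ᵇ AlgSt.ofSp M) :
    AlgSt.IsQuasiCompactMor Scheme.fppfPrecoverage z := by
  let Φ := BasedFunctor.comp (AlgSt.toOverCat U) z
  let m : (AlgSp.yon S).obj U ⟶ M := ObjectProperty.homMk (mapOfFun Φ)
  refine isQCMor_of_repWith (isAlgStack_overCat U) (isAlgStack_ofSp ⟨M, hM⟩) ?_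
  refine (repWith_equiv_comp_iff (toOverCat_isEquivOver U)).2 (repWith_of_iso (isoOfPshMap Φ).symm ?_)
  exact repWith_ofSpMap_of_representable _ m (hM.representable_from_yon m) fun _ _ _ _ _ sq =>
    H12AlgSp.isQuasiCompactMor_of_isPullback sq (h m)

/-- Affine schemes over a space quasi-separated over a quasi-separated base are quasi-compact over it. -/
theorem isQCMor_of_qsSp [QuasiSeparatedSpace S] (hM : AlgSp.IsAlgSpace M) (hqs : AlgSp.IsQuasiSeparatedSp M)
    (U : Over S) (hU : IsAffine U.left) (z : FibCat.overCat U ⥤ᵇ AlgSt.ofSp M) :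
    AlgSt.IsQuasiCompactMor Scheme.fppfPrecoverage z :=
  isQCMor_to_sp hM (fun m => H12AlgSp.isQuasiCompactMor_of_qc_qs (AlgSp.IsAlgSpace.yon_obj U) hM m
    (H12AlgSp.isQuasiCompactSp_yon_iff.2 inferInstance) hqs) z

/-- Affine schemes over a quasi-separated scheme are quasi-compact over it. -/
theorem isQCMor_of_qsSch (M : Over S) [QuasiSeparatedSpace M.left] (U : Over S) (hU : IsAffine U.left)
    (z : FibCat.overCat U ⥤ᵇ AlgSt.ofSp ((AlgSp.yon S).obj M)) :
    AlgSt.IsQuasiCompactMor Scheme.fppfPrecoverage z := by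
  refine isQCMor_to_sp (AlgSp.IsAlgSpace.yon_obj M) (fun m => ?_) z
  obtain ⟨c, rfl⟩ := (AlgSp.yon S).map_surjective m
  exact (isQuasiCompactMor_yon_iff c).2 inferInstance

end Groth.Agent.H14CohBC
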