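import Groth.Agent.H14CohBC.CohAffBC
import Groth.Agent.H14CohBC.QCTarget
import Groth.Agent.H14AlgSt.PointsMor
import Groth.Agent.H14AlgSt.Graph
import Groth.Agent.H14AlgSt.Diag2
import Groth.Agent.H14QCoh.CompAff

/-!
# Cancellation for cohomologically affine morphisms
-/

set_option autoImplicit false
set_option backward.isDefEq.respectTransparency false
set_option backward.isDefEq.respectTransparency.types false

universe u

open CategoryTheory CategoryTheory.Limits AlgebraicGeometry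

noncomputable section

namespace Groth.Agent.H14CohBC

open H14Fib H14AlgSt H14Stk H14QCoh

variable {S : Scheme.{u}} {𝒳 : AlgSt.Cat S} {M N : AlgSp.Space S}

/-- A morphism whose composite with a morphism of affine diagonal is cohomologically affine is so. -/
theorem isCohAffine_cancel (h𝒳 : AlgSt.IsAlgStack Scheme.fppfPrecoverage 𝒳) (f : 𝒳 ⥤ᵇ AlgSt.ofSp M.obj)
    (g : M.obj ⟶ N.obj) (hg : AlgSp.IsAffineMor (pullback.diagonal g))
    (hqcN : ∀ (U : Over S), IsAffine U.left → ∀ z : FibCat.overCat U ⥤ᵇ AlgSt.ofSp N.obj,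
      AlgSt.IsQuasiCompactMor Scheme.fppfPrecoverage z)
    (hqc : AlgSt.IsQuasiCompactMor Scheme.fppfPrecoverage (BasedFunctor.comp f (AlgSt.ofSpMap g)))
    (hqs : AlgSt.IsQuasiSeparatedMor (BasedFunctor.comp f (AlgSt.ofSpMap g)))
    (h : StMod.IsCohAffine (BasedFunctor.comp f (AlgSt.ofSpMap g))) :
    StMod.IsCohAffine f ∧ AlgSt.IsQuasiCompactMor Scheme.fppfPrecoverage f := by
  have hM := isAlgStack_ofSp M
  have hN := isAlgStack_ofSp N
  let c := BasedFunctor.comp f (AlgSt.ofSpMap g)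
  let Γf : 𝒳 ⥤ᵇ FibCat.fp (AlgSt.ofSpMap g) c :=
    BasedFunctor.comp (FibCat.fpLift (F := c) (G := AlgSt.ofSpMap g) (BasedFunctor.id 𝒳) f (Iso.refl c))
      (fpSwap c (AlgSt.ofSpMap g))
  have hP := isAlgStack_fp' hM h𝒳 hN (AlgSt.ofSpMap g) c
  have hd : AlgSt.RepByAlgSpWith AlgSp.IsAffineMor (FibCat.diag (AlgSt.ofSpMap g)) := by
    have hg' := H13AlgSp.isAffineMor_iff.1 hg
    exact (repWith_diag_ofSpMap_iff g).2 (repWith_ofSpMap_of_representable _ _ hg'.rep fun U V k fst v sq =>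
      H13AlgSp.isAffineMor_iff.2 ((AlgSp.repWith_yon_map_iff _ v).2 (hg'.property k fst v sq)))
  have hΓ : AlgSt.RepByAlgSpWith AlgSp.IsAffineMor Γf :=
    (repWith_comp_equiv_iff (fpSwap_isEquivOver _ _)).2 (repWith_graph (p := c) (q := AlgSt.ofSpMap g) f (Iso.refl c) hd)
  have hf : f = BasedFunctor.comp Γf (FibCat.fpFst (AlgSt.ofSpMap g) c) := rfl
  rw [hf]
  refine ⟨isCohAffine_comp_affine _ hΓ h𝒳.isStack.1 hP.isStack.1
    (isCohAffine_fpFst c g h𝒳 N.property M.property hqc hqs hqcN h), ?_⟩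
  refine isQCMor_comp h𝒳 hP hM ?_ (isQCMor_fpFst h𝒳 hN hM (AlgSt.ofSpMap g) hqc)
  exact isQCMor_of_repWith h𝒳 hP (repWith_mono (fun a hF hG' ha =>
    H12AlgSp.isQuasiCompactMor_of_repWith hF hG'
      (H12AlgSp.repWith_le (fun _ _ i (_ : IsAffineHom i) => (inferInstance : QuasiCompact i))
        (H13AlgSp.isAffineMor_iff.1 ha))) hΓ)

end Groth.Agent.H14CohBC
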