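import Groth.Agent.H14CohBC.EtaleIdem
import Groth.Agent.H14CohBC.AtlasIExists
import Groth.Agent.H14AlgSt.AlgFp
import Groth.Agent.H14AlgSt.SigmaChart
import Groth.Agent.H12AlgSp.Proper

/-!
# Exactness of sections on the category over an etale chart of a cohomologically affine morphism
-/

set_option autoImplicit false
set_option linter.style.haveILetI false
set_option backward.isDefEq.respectTransparency false
set_option backward.isDefEq.respectTransparency.types false

universe u

open CategoryTheory CategoryTheory.Limits AlgebraicGeometry Opposite TopologicalSpace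

noncomputable section

namespace Groth.Agent.H14CohBC

open H14Fib H14AlgSt H14Stk H14QCoh

variable {S : Scheme.{u}} {M : AlgSp.Sp S}

local notation "K₀" => Scheme.fppfPrecoverage

/-- The functor of an etale chart. -/
def etaPt (E : AlgSp.EtOver M) : FibCat.overCat E.obj.left ⥤ᵇ AlgSt.ofSp M :=
  BasedFunctor.comp (AlgSt.ofOverCat E.obj.left) (AlgSt.ofSpMap E.obj.hom)

lemma etaPt_top (E : AlgSp.EtOver M) : (etaPt E).obj (topObj E.obj.left) = StMod.etaOf E := rfl

theorem repWith_smooth_etaPt (E : AlgSp.EtOver M) :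
    AlgSt.RepByAlgSpWith (AlgSp.LocP @Smooth) (etaPt E) :=
  (repWith_equiv_comp_iff (ofOverCat_isEquivOver E.obj.left)).1
    (repWith_locP_mono etale_le_smooth' (repWith_locP_of_repWith H12AlgSp.etLocal_etale _ E.property))

/-- The diagonal of a separated etale chart is a closed immersion. -/
theorem repWith_closed_diagonal (E : AlgSp.EtOver M) [IsSeparated E.obj.left.hom] :
    AlgSp.RepWith @IsClosedImmersion (pullback.diagonal E.obj.hom) := by
  let i := (E.property.rep.isPullback' E.obj.hom).isoPullback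
  have e : pullback.diagonal E.obj.hom = (AlgSp.yon S).map (diagR E) ≫ i.hom := by
    apply pullback.hom_ext
    · rw [pullback.diagonal_fst, Category.assoc, IsPullback.isoPullback_hom_fst, ← (AlgSp.yon S).map_comp, diagR,
        Functor.relativelyRepresentable.lift'_fst]
      exact ((AlgSp.yon S).map_id _).symm
    · rw [pullback.diagonal_snd, Category.assoc, IsPullback.isoPullback_hom_snd, ← (AlgSp.yon S).map_comp, diagR,
        Functor.relativelyRepresentable.lift'_snd]
      exact ((AlgSp.yon S).map_id _).symm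
  rw [e]
  haveI := isSeparated_snd E
  haveI : IsClosedImmersion ((diagR E).left ≫ (E.property.rep.snd E.obj.hom).left) := by
    rw [diagR_snd]; infer_instance
  haveI := IsClosedImmersion.of_comp (diagR E).left (E.property.rep.snd E.obj.hom).left
  exact MorphismProperty.RespectsIso.postcomp (AlgSp.RepWith @IsClosedImmersion) i.hom _
    ((AlgSp.repWith_yon_map_iff @IsClosedImmersion (diagR E)).2 inferInstance)

theorem isQuasiSeparatedMor_etaPt (E : AlgSp.EtOver M) [IsSeparated E.obj.left.hom] :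
    AlgSt.IsQuasiSeparatedMor (etaPt E) := by
  refine (repWith_diag_square (f := AlgSt.ofSpMap E.obj.hom) (f' := etaPt E)
    (ofOverCat_isEquivOver E.obj.left) (isEquivOver_id _) (Iso.refl _)).1 ((repWith_diag_ofSpMap_iff _).2 ?_)
  refine repWith_ofSpMap_of_representable _ _ (repWith_closed_diagonal E).rep fun U V g fst v sq => ?_
  haveI : IsClosedImmersion v.left := (repWith_closed_diagonal E).2 g fst v sq
  exact ⟨(isQuasiCompactMor_yon_iff v).2 inferInstance, H12AlgSp.isQuasiSeparatedMor_of_isSeparatedMor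
    ((AlgSp.isSeparatedMor_yon_map_iff v).2 inferInstance)⟩

variable {𝒳 : AlgSt.Cat S} (π : 𝒳 ⥤ᵇ AlgSt.ofSp M)
  (h𝒳 : AlgSt.IsAlgStack Scheme.fppfPrecoverage 𝒳) (hM : AlgSp.IsAlgSpace M)
  (hqc : AlgSt.IsQuasiCompactMor Scheme.fppfPrecoverage π) (hqs : AlgSt.IsQuasiSeparatedMor π)
  (hqcM : ∀ (U : Over S), IsAffine U.left → ∀ z : FibCat.overCat U ⥤ᵇ AlgSt.ofSp M,
    AlgSt.IsQuasiCompactMor Scheme.fppfPrecoverage z)

include hqs hqcM h𝒳 hM in
theorem isQuasiCompact_pairs (i j : SmChart 𝒳) : AlgSt.IsQuasiCompact (FibCat.fp i.x j.x) := by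
  haveI := j.aff
  haveI := i.aff
  exact isQCMor_cancel (isAlgStack_overCat j.U) h𝒳 (isAlgStack_ofSp ⟨M, hM⟩) (hqcM j.U j.aff _)
    (repWith_mono (fun _ _ _ h => h.1) hqs) _ (isAlgStack_overCat i.U) (isQuasiCompact_overCat i.U) i.x

include h𝒳 hM in
theorem isAlgStack_fibEta (E : AlgSp.EtOver M) :
    AlgSt.IsAlgStack K₀ (StMod.fibCat π (StMod.etaOf E)) :=
  (isAlgStack_iff K₀ (fromFp_isEquivOver π (StMod.etaOf E) (etaPt E) (Iso.refl _) (IsHomLift.id rfl)
    (isAlgStack_ofSp ⟨M, hM⟩).isStack.1)).1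
      (isAlgStack_fp' (isAlgStack_overCat _) h𝒳 (isAlgStack_ofSp ⟨M, hM⟩) (etaPt E) π)

include hM hqcM in
/-- The projection from the category over an etale chart is smooth, quasi-compact and quasi-separated. -/
theorem props_fibFst (E : AlgSp.EtOver M) (hE : IsAffine E.obj.left.left) :
    AlgSt.RepByAlgSpWith (AlgSp.LocP @Smooth) (StMod.fibFst π (StMod.etaOf E)) ∧
      AlgSt.RepByAlgSpWith AlgSp.IsQuasiCompactMor (StMod.fibFst π (StMod.etaOf E)) ∧
      AlgSt.IsQuasiSeparatedMor (StMod.fibFst π (StMod.etaOf E)) := by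
  haveI : IsSeparated E.obj.left.hom := inferInstance
  have hq := (isAlgStack_ofSp ⟨M, hM⟩).isStack.1
  let e := fromFp π (StMod.etaOf E) (etaPt E) (Iso.refl _)
  have he : FibCat.IsEquivOver e :=
    fromFp_isEquivOver π (StMod.etaOf E) (etaPt E) (Iso.refl _) (IsHomLift.id rfl) hq
  have hcomp : BasedFunctor.comp e (StMod.fibFst π (StMod.etaOf E)) = FibCat.fpSnd (etaPt E) π := rfl
  have hy := repWith_smooth_etaPt E
  have hqcy : AlgSt.RepByAlgSpWith AlgSp.IsQuasiCompactMor (etaPt E) :=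
    repWith_of_isQCMor (isAlgStack_overCat _) (isAlgStack_ofSp ⟨M, hM⟩) (repByAlgSp1_of_with hy)
      (hqcM _ hE _)
  refine ⟨(repWith_equiv_comp_iff he).2 (hcomp ▸ repWith_fpSnd π hy),
    (repWith_equiv_comp_iff he).2 (hcomp ▸ repWith_fpSnd π hqcy), ?_⟩
  refine (repWith_diag_square (f := StMod.fibFst π (StMod.etaOf E)) (f' := FibCat.fpSnd (etaPt E) π)
    he (isEquivOver_id _) (eqToIso hcomp.symm)).2 ?_
  exact (repWith_diag_square (f := FibCat.fpFst π (etaPt E)) (f' := FibCat.fpSnd (etaPt E) π)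
    (fpSwap_isEquivOver (etaPt E) π) (isEquivOver_id _) (Iso.refl _)).1
      (repWith_diag_fpFst π (isQuasiSeparatedMor_etaPt E))

include h𝒳 hM hqc hqs hqcM in
/-- Sections on the category over an affine etale chart of a cohomologically affine morphism preserve surjections. -/
theorem surjective_globSectMap_eta (h : StMod.IsCohAffine π) (E : AlgSp.EtOver M) (hE : IsAffine E.obj.left.left)
    {F G : StMod.QCoh (StMod.fibCat π (StMod.etaOf E))} (v : F.obj ⟶ G.obj) (hv : StMod.Mod.IsSurj v) :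
    Function.Surjective (StMod.Mod.globSectMap v) := by
  haveI : IsSeparated E.obj.left.hom := inferInstance
  let η := StMod.etaOf E
  have hη : IsAffine (StMod.sch (AlgSt.ofSp M) η) := hE
  have hY := isAlgStack_ofSp ⟨M, hM⟩
  have h' := isAlgStack_fibEta π h𝒳 hM E
  obtain ⟨hjs, hjq, hjd⟩ := props_fibFst π hM hqcM E hE
  obtain ⟨U, x, hU, hx, hxs, hR⟩ := exists_qc_chart_fibCat h𝒳 hY π hqc hqs η hη
  obtain ⟨y, a, b, hy, hfa, hfb, hc₂, hc₃⟩ := exists_pair_chart h'.isStack.1 hx hx hR
  have hsU : StMod.sch (StMod.fibCat π η) (x.obj (topObj U)) = U.left :=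
    congrArg (fun t => t.left) (x.w_obj (topObj U))
  let 𝔸' : AtlasF (StMod.fibCat π η) :=
    { x := x.obj (topObj U)
      y := y
      a := a
      b := b
      affx := hsU ▸ hU
      affy := hy
      cov := fun ξ hξ => exists_cov_lift h'.isStack.1 hx hxs ξ hξ
      cov₂ := hc₂
      flata := hfa
      flatb := hfb
      cov₃ := hc₃ }
  let i₀ : SmChart 𝒳 :=
    { U := U
      aff := hU
      x := BasedFunctor.comp x (StMod.fibFst π η)
      smooth := repWith_locP_comp H12AlgSp.etLocal_smooth (fibGrpd_overCat U) h'.isStack.1 hx hjs }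
  let 𝔸 := atlasI h𝒳 (isQuasiCompact_pairs π h𝒳 hM hqs hqcM)
  have hB : ∀ i : 𝔸.ι, Nonempty (Atlas (StMod.fibCat (StMod.fibFst π η) (𝔸.x i))) := fun i =>
    nonempty_atlas_fibCat h' h𝒳 (StMod.fibFst π η) (isQCMor_of_repWith h' h𝒳 hjq) hjd (𝔸.x i) (𝔸.affx i)
  let 𝔹 := fun i => (hB i).some
  let P := fun i => (exists_presn_of (𝔹 i)
    (finitePresentation_fib_O (f := StMod.fibFst π η) (𝔸.x i) (𝔹 i).x)).some
  have hid : Flat (StMod.bmap 𝒳 (𝟙 (𝔸'.x.left))) := by rw [StMod.bmap_id]; infer_instance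
  exact surjective_globSectMap_fib (etaleDiagIdem E) P h𝒳.isStack.1 𝔸' (i₀ := i₀) (𝟙 _) hid
    (fun {P H} u hu => h u hu E hE) v hv

end Groth.Agent.H14CohBC
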