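import Groth.Agent.H14CohBC.KeyLift
import Groth.Prelude.Def_StMod2
import Mathlib.AlgebraicGeometry.Morphisms.FlatMono
import Mathlib.AlgebraicGeometry.Morphisms.Etale
import Mathlib.RingTheory.Spectrum.Prime.Topology

/-!
# The idempotents of the clopen diagonal of a separated etale chart
-/

set_option autoImplicit false
set_option linter.style.haveILetI false
set_option backward.isDefEq.respectTransparency false
set_option backward.isDefEq.respectTransparency.types false

universe u

open CategoryTheory CategoryTheory.Limits AlgebraicGeometry Opposite TopologicalSpace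

noncomputable section

namespace Groth.Agent.H14CohBC

open H14QCoh

variable {S : Scheme.{u}}

/-- A clopen subset of an affine scheme is cut out by a unique idempotent. -/
theorem exists_idem_of_isClopen (X : Scheme.{u}) [IsAffine X] {U : Set X} (hU : IsClopen U) :
    ∃ e : Γ(X, ⊤), IsIdempotentElem e ∧ (X.basicOpen e : Set X) = U := by
  have hV : IsClopen (X.isoSpec.inv ⁻¹' U) :=
    ⟨hU.1.preimage X.isoSpec.inv.continuous, hU.2.preimage X.isoSpec.inv.continuous⟩
  obtain ⟨e, he, heq⟩ := PrimeSpectrum.exists_idempotent_basicOpen_eq_of_isClopen hV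
  refine ⟨e, he, ?_⟩
  rw [← Scheme.map_PrimeSpectrum_basicOpen_of_affine]
  ext p
  change X.isoSpec.hom p ∈ (PrimeSpectrum.basicOpen e : Set (PrimeSpectrum Γ(X, ⊤))) ↔ p ∈ U
  rw [← heq]
  change X.isoSpec.inv (X.isoSpec.hom p) ∈ U ↔ p ∈ U
  rw [← Scheme.Hom.comp_apply, Iso.hom_inv_id]
  rfl

lemma idem_ext (X : Scheme.{u}) [IsAffine X] {e f : Γ(X, ⊤)} (he : IsIdempotentElem e) (hf : IsIdempotentElem f)
    (h : (X.basicOpen e : Set X) = X.basicOpen f) : e = f := by
  refine PrimeSpectrum.basicOpen_injOn_isIdempotentElem he hf ?_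
  refine TopologicalSpace.Opens.ext (Set.ext fun q => ?_)
  obtain ⟨p, rfl⟩ := X.isoSpec.hom.surjective q
  have := Set.ext_iff.1 h p
  rw [← Scheme.map_PrimeSpectrum_basicOpen_of_affine, ← Scheme.map_PrimeSpectrum_basicOpen_of_affine] at this
  exact this

variable {M : AlgSp.Sp S} (E : AlgSp.EtOver M) [IsSeparated E.obj.left.hom]

/-- The scheme of pairs of points of the chart with equal images. -/
abbrev pairR : Over S := E.property.rep.pullback E.obj.hom

/-- The diagonal of the chart. -/
def diagR : E.obj.left ⟶ pairR E := E.property.rep.lift' (𝟙 _) (𝟙 _) rfl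

lemma etale_snd : Etale (E.property.rep.snd E.obj.hom).left :=
  E.property.2 E.obj.hom _ _ (E.property.rep.isPullback E.obj.hom)

lemma diagR_snd : (diagR E).left ≫ (E.property.rep.snd E.obj.hom).left = 𝟙 _ := by
  rw [← Over.comp_left, diagR, Functor.relativelyRepresentable.lift'_snd]
  rfl

lemma isOpenImmersion_diagR : IsOpenImmersion (diagR E).left := by
  haveI := etale_snd E
  haveI : IsSplitMono (diagR E).left := IsSplitMono.mk' ⟨_, diagR_snd E⟩
  haveI : Etale (diagR E).left := MorphismProperty.of_postcomp (W := @Etale) (W' := @Etale) (diagR E).left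
    (E.property.rep.snd E.obj.hom).left ‹_› (by rw [diagR_snd]; infer_instance)
  exact IsOpenImmersion.of_flat_of_mono _

lemma isSeparated_snd : IsSeparated (E.property.rep.snd E.obj.hom).left := by
  let p₁ := E.property.rep.fst' E.obj.hom
  let p₂ := E.property.rep.snd E.obj.hom
  let m : (pairR E).left ⟶ pullback E.obj.left.hom E.obj.left.hom :=
    pullback.lift p₁.left p₂.left ((Over.w p₁).trans (Over.w p₂).symm)
  haveI : Mono m := ⟨fun {Z} f g h => by
    let Z' : Over S := Over.mk (f ≫ (pairR E).hom)
    have hw : g ≫ (pairR E).hom = f ≫ (pairR E).hom := by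
      rw [← Over.w p₁, ← pullback.lift_fst p₁.left p₂.left ((Over.w p₁).trans (Over.w p₂).symm)]
      simp only [← Category.assoc]
      rw [h]
    let f' : Z' ⟶ pairR E := Over.homMk f rfl
    let g' : Z' ⟶ pairR E := Over.homMk g hw
    have e1 : f' ≫ p₁ = g' ≫ p₁ := Over.OverMorphism.ext (by
      change f ≫ p₁.left = g ≫ p₁.left
      have := congrArg (· ≫ pullback.fst _ _) h
      simpa [m] using this)
    have e2 : f' ≫ p₂ = g' ≫ p₂ := Over.OverMorphism.ext (by
      change f ≫ p₂.left = g ≫ p₂.left
      have := congrArg (· ≫ pullback.snd _ _) h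
      simpa [m] using this)
    exact congrArg (fun k => k.left) (E.property.rep.hom_ext' e1 e2)⟩
  have : p₂.left = m ≫ pullback.snd _ _ := (pullback.lift_snd _ _ _).symm
  change IsSeparated p₂.left
  rw [this]
  infer_instance

lemma isClopen_range_diagR : IsClopen (Set.range (diagR E).left) := by
  haveI := isSeparated_snd E
  haveI : IsClosedImmersion ((diagR E).left ≫ (E.property.rep.snd E.obj.hom).left) := by
    rw [diagR_snd]; infer_instance
  haveI := IsClosedImmersion.of_comp (diagR E).left (E.property.rep.snd E.obj.hom).left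
  haveI := isOpenImmersion_diagR E
  exact ⟨(diagR E).left.isClosedEmbedding.isClosed_range, (diagR E).left.isOpenEmbedding.isOpen_range⟩

variable {E}

/-- The point of the pairs of two arrows to the chart. -/
def pairPt {ω : (AlgSt.ofSp M).obj} (a b : ω ⟶ StMod.etaOf E) : ω.base ⟶ pairR E :=
  E.property.rep.lift' a.hom b.hom ((AlgSp.J S).uliftYonedaEquiv.injective (by
    refine ((AlgSp.J S).uliftYonedaEquiv_naturality E.obj.hom a.hom).symm.trans ?_
    exact (a.map_sec.trans b.map_sec.symm).trans ((AlgSp.J S).uliftYonedaEquiv_naturality E.obj.hom b.hom)))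

lemma pairPt_fst {ω : (AlgSt.ofSp M).obj} (a b : ω ⟶ StMod.etaOf E) :
    pairPt a b ≫ E.property.rep.fst' E.obj.hom = a.hom :=
  E.property.rep.lift'_fst _ _ _

lemma pairPt_snd {ω : (AlgSt.ofSp M).obj} (a b : ω ⟶ StMod.etaOf E) :
    pairPt a b ≫ E.property.rep.snd E.obj.hom = b.hom :=
  E.property.rep.lift'_snd _ _ _

lemma pairPt_comp {ω' ω : (AlgSt.ofSp M).obj} (k : ω' ⟶ ω) (a b : ω ⟶ StMod.etaOf E) :
    k.hom ≫ pairPt a b = pairPt (k ≫ a) (k ≫ b) :=
  E.property.rep.hom_ext' (by rw [Category.assoc, pairPt_fst, pairPt_fst, Stk.EltObj.comp_hom])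
    (by rw [Category.assoc, pairPt_snd, pairPt_snd, Stk.EltObj.comp_hom])

lemma pairPt_self {ω : (AlgSt.ofSp M).obj} (a : ω ⟶ StMod.etaOf E) : pairPt a a = a.hom ≫ diagR E :=
  E.property.rep.hom_ext'
    (by rw [pairPt_fst, Category.assoc, diagR, Functor.relativelyRepresentable.lift'_fst]; exact (Category.comp_id _).symm)
    (by rw [pairPt_snd, Category.assoc, diagR, Functor.relativelyRepresentable.lift'_snd]; exact (Category.comp_id _).symm)

theorem exists_idem_pair (ω : AObj (AlgSt.ofSp M)) (a b : ω.1 ⟶ StMod.etaOf E) :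
    ∃ e : Fn (AlgSt.ofSp M) ω.1, IsIdempotentElem e ∧
      (↑(ω.1.base.left.basicOpen e) : Set ω.1.base.left) =
        (pairPt a b).left ⁻¹' Set.range (diagR E).left :=
  haveI : IsAffine ω.1.base.left := ω.2
  exists_idem_of_isClopen ω.1.base.left ⟨(isClopen_range_diagR E).1.preimage (pairPt a b).left.continuous,
    (isClopen_range_diagR E).2.preimage (pairPt a b).left.continuous⟩

variable (E) in
/-- The idempotents of the diagonal of a separated etale chart. -/
def etaleDiagIdem : DiagIdem (𝒴 := AlgSt.ofSp M) (StMod.etaOf E) where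
  e ω a b := (exists_idem_pair ω a b).choose
  idem ω a b := (exists_idem_pair ω a b).choose_spec.1
  nat {ω' ω} k a b := by
    haveI : IsAffine ω'.1.base.left := ω'.2
    refine idem_ext ω'.1.base.left (((exists_idem_pair ω a b).choose_spec.1).map (fnMap k))
      (exists_idem_pair ω' (k ≫ a) (k ≫ b)).choose_spec.1 ?_
    refine Eq.trans ?_ (exists_idem_pair ω' (k ≫ a) (k ≫ b)).choose_spec.2.symm
    rw [← pairPt_comp, Over.comp_left, Scheme.Hom.comp_base, TopCat.coe_comp, Set.preimage_comp]
    refine Eq.trans ?_ (congrArg (fun U => k.hom.left ⁻¹' U) (exists_idem_pair ω a b).choose_spec.2)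
    exact congrArg (fun U : ω'.1.base.left.Opens => (U : Set ω'.1.base.left))
      (Scheme.preimage_basicOpen (StMod.bmap (AlgSt.ofSp M) k) (exists_idem_pair ω a b).choose).symm
  self ω a := by
    haveI : IsAffine ω.1.base.left := ω.2
    refine idem_ext ω.1.base.left (exists_idem_pair ω a a).choose_spec.1 IsIdempotentElem.one ?_
    refine (exists_idem_pair ω a a).choose_spec.2.trans ?_
    rw [Scheme.basicOpen_of_isUnit _ isUnit_one, pairPt_self]
    exact Set.eq_univ_of_forall fun p => ⟨a.hom.left p, rfl⟩
  eq ω a b h := by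
    have h1 := (exists_idem_pair ω a b).choose_spec.2
    rw [h, Scheme.basicOpen_of_isUnit _ isUnit_one] at h1
    haveI := isOpenImmersion_diagR E
    have hr : Set.range (pairPt a b).left ⊆ Set.range (diagR E).left := by
      rintro _ ⟨p, rfl⟩
      exact h1.le (Set.mem_univ p)
    let l := IsOpenImmersion.lift (diagR E).left (pairPt a b).left hr
    have hl : l ≫ (diagR E).left = (pairPt a b).left := IsOpenImmersion.lift_fac _ _ _
    have ha : a.hom.left = l := by
      rw [← pairPt_fst a b, Over.comp_left, ← hl, Category.assoc, ← Over.comp_left, diagR,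
        Functor.relativelyRepresentable.lift'_fst]
      exact Category.comp_id _
    have hb : b.hom.left = l := by
      rw [← pairPt_snd a b, Over.comp_left, ← hl, Category.assoc, diagR_snd]
      exact Category.comp_id _
    exact Stk.EltObj.hom_ext (Over.OverMorphism.ext (ha.trans hb.symm))

end Groth.Agent.H14CohBC
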