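import Groth.Agent.H14CohBC.GoodTameSep
import Groth.Agent.H14AlgSt.Spectral
import Groth.Agent.H14AlgSt.Noeth
import Groth.Agent.H14AlgSt.Diag2

/-!
# Quasi-compact diagonals and closed points
-/

set_option autoImplicit false
set_option linter.style.haveILetI false
set_option backward.isDefEq.respectTransparency false
set_option backward.isDefEq.respectTransparency.types false

universe u

open CategoryTheory CategoryTheory.Limits AlgebraicGeometry Opposite TopologicalSpace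

noncomputable section

namespace Groth.Agent.H14CohBC

open H14Fib H14AlgSt H14Stk

variable {S : Scheme.{u}}

local notation "K₀" => Scheme.fppfPrecoverage

lemma testOnSchemes_qc : TestOnSchemes (S := S) AlgSp.IsQuasiCompactMor := by
  intro G F a hG hF h
  obtain ⟨U, p, hp, hps⟩ := hF.atlas
  have sq := IsPullback.of_hasPullback a p
  exact H12AlgSp.isQuasiCompactMor_of_etale_cover hG hF (AlgSp.IsAlgSpace.yon_obj U) sq
    (H12AlgSp.repWith_etale_cover hF hp hps).1 (H12AlgSp.repWith_etale_cover hF hp hps).2 (h U p _ _ sq)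

/-- The diagonal of the stack of a space is the diagonal of the space. -/
theorem exists_diag_toSelf (M : AlgSp.Space S) :
    ∃ (P : AlgSp.Space S) (d : M.obj ⟶ P.obj) (E : AlgSt.ofSp P.obj ⥤ᵇ
        FibCat.fp (FibCat.toSelf (AlgSt.ofSp M.obj)) (FibCat.toSelf (AlgSt.ofSp M.obj))),
      FibCat.IsEquivOver E ∧ Nonempty (BasedFunctor.comp (AlgSt.ofSpMap d) E ≅
        FibCat.diag (FibCat.toSelf (AlgSt.ofSp M.obj))) ∧
      ∃ i : P.obj ≅ M.obj ⨯ M.obj, d ≫ i.hom = Limits.diag M.obj := by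
  let T : Over S := baseObj S
  have hT : IsTerminal ((AlgSp.yon S).obj T) := IsTerminal.isTerminalObj (AlgSp.yon S) _ Over.mkIdTerminal
  let t : M.obj ⟶ (AlgSp.yon S).obj T := hT.from M.obj
  have sq : IsPullback (prod.fst : M.obj ⨯ M.obj ⟶ M.obj) prod.snd t t :=
    IsPullback.of_is_product (prodIsProd M.obj M.obj) hT
  let P : AlgSp.Space S := ⟨M.obj ⨯ M.obj, H12AlgSp.isAlgSpace_of_isPullback
    (AlgSp.IsAlgSpace.yon_obj T).diag M.property M.property sq⟩
  have sq' := sq.map (sheafToPresheaf (AlgSp.J S) (Type (u + 1)))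
  let C : AlgSt.ofSp ((AlgSp.yon S).obj T) ⥤ᵇ FibCat.selfOver (Over S) :=
    BasedFunctor.comp (AlgSt.toOverCat T) (FibCat.toSelf (FibCat.overCat T))
  obtain ⟨⟨_, _⟩, -⟩ := (isEquivOver_iff C).1
    (isEquivOver_comp (toOverCat_isEquivOver T) toSelf_overCat_base_isEquivOver)
  let q := FibCat.toSelf (AlgSt.ofSp M.obj)
  let et : BasedFunctor.comp (AlgSt.ofSpMap t) C ≅ BasedFunctor.comp (BasedFunctor.id _) q :=
    eqToIso (selfFun_eq _ _)
  obtain ⟨⟨_, _⟩, -⟩ := (isEquivOver_iff (BasedFunctor.id (AlgSt.ofSp M.obj))).1 (isEquivOver_id _)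
  let W : FibCat.fp (AlgSt.ofSpMap t) (AlgSt.ofSpMap t) ⥤ᵇ FibCat.fp q q :=
    fpMap (F := q) (G := q) (BasedFunctor.id _) (BasedFunctor.id _) C et et
  have hW : FibCat.IsEquivOver W := fpMap_isEquivOver _ _ _ _ _ (essSurjOver_id _) (essSurjOver_id _)
  let E : AlgSt.ofSp P.obj ⥤ᵇ FibCat.fp q q := BasedFunctor.comp (pshComparison sq'.w) W
  have hE : FibCat.IsEquivOver E := isEquivOver_comp (pshComparison_isEquivOver sq') hW
  have h1 : (Limits.diag M.obj).hom ≫ (prod.fst : M.obj ⨯ M.obj ⟶ M.obj).hom = 𝟙 M.obj.obj :=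
    congrArg (fun m => m.hom) (prod.lift_fst (𝟙 M.obj) (𝟙 M.obj))
  have h2 : (Limits.diag M.obj).hom ≫ (prod.snd : M.obj ⨯ M.obj ⟶ M.obj).hom = 𝟙 M.obj.obj :=
    congrArg (fun m => m.hom) (prod.lift_snd (𝟙 M.obj) (𝟙 M.obj))
  let i₁ : BasedFunctor.comp (Stk.ofPshMap (Limits.diag M.obj).hom)
      (Stk.ofPshMap (prod.fst : M.obj ⨯ M.obj ⟶ M.obj).hom) ≅ BasedFunctor.id (Stk.ofPsh M.obj.obj) :=
    eqToIso ((ofPshMap_comp _ _).symm.trans ((congrArg Stk.ofPshMap h1).trans ofPshMap_id))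
  let i₂ : BasedFunctor.comp (Stk.ofPshMap (Limits.diag M.obj).hom)
      (Stk.ofPshMap (prod.snd : M.obj ⨯ M.obj ⟶ M.obj).hom) ≅ BasedFunctor.id (Stk.ofPsh M.obj.obj) :=
    eqToIso ((ofPshMap_comp _ _).symm.trans ((congrArg Stk.ofPshMap h2).trans ofPshMap_id))
  let k : BasedFunctor.comp (AlgSt.ofSpMap (Limits.diag M.obj)) E ≅ FibCat.diag q :=
    mkIso (fun x => fpIsoMk (isoApp i₁ x) (isoApp i₂ x)
        (by
          have ha := @IsHomLift.fac' _ _ _ _ (FibCat.selfOver (Over S)).p _ _ _ _ _ _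
            ((FibCat.diag q).obj x).property
          have hb := @IsHomLift.fac' _ _ _ _ (FibCat.selfOver (Over S)).p _ _ _ _ _ _
            ((BasedFunctor.comp (AlgSt.ofSpMap (Limits.diag M.obj)) E).obj x).property
          refine (congrArg₂ (· ≫ ·) (show q.map (isoApp i₁ x).hom = _ from app_hom_eq i₁.hom x) ha).trans
            (Eq.trans ?_ (congrArg₂ (· ≫ ·) hb (show q.map (isoApp i₂ x).hom = _ from app_hom_eq i₂.hom x)).symm)
          simp
          rfl))
      (fun {x y} φ => fp_hom_ext (i₁.hom.toNatTrans.naturality φ) (i₂.hom.toNatTrans.naturality φ))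
      (fun x => (fp_isHomLift_iff _ _).2 (isoApp_lift i₁ x))
  exact ⟨P, Limits.diag M.obj, E, hE, ⟨k⟩, Iso.refl _, Category.comp_id _⟩

/-- A space is quasi-separated iff its stack has quasi-compact diagonal over the base. -/
theorem isQuasiSeparatedSp_iff_toSelf (M : AlgSp.Space S) :
    AlgSp.IsQuasiSeparatedSp M.obj ↔
      AlgSt.RepByAlgSpWith AlgSp.IsQuasiCompactMor (FibCat.diag (FibCat.toSelf (AlgSt.ofSp M.obj))) := by
  obtain ⟨P, d, E, hE, ⟨k⟩, i, hi⟩ := exists_diag_toSelf M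
  have hdd : AlgSp.Representable d := by
    have h : AlgSp.Representable (d ≫ i.hom) := hi ▸ M.property.diag
    have := MorphismProperty.RespectsIso.postcomp (AlgSp.Representable (S := S)) i.inv (d ≫ i.hom) h
    rwa [Category.assoc, i.hom_inv_id, Category.comp_id] at this
  have hiff : AlgSp.RepWith @QuasiCompact (Limits.diag M.obj) ↔ AlgSp.RepWith @QuasiCompact d := by
    rw [← hi]
    exact (AlgSp.RepWith @QuasiCompact).cancel_right_of_respectsIso d i.hom
  have hk : AlgSt.RepByAlgSpWith AlgSp.IsQuasiCompactMor (FibCat.diag (FibCat.toSelf (AlgSt.ofSp M.obj))) ↔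
      AlgSt.RepByAlgSpWith AlgSp.IsQuasiCompactMor (AlgSt.ofSpMap d) :=
    ⟨fun h => (repWith_comp_equiv_iff hE).1 (repWith_of_iso k.symm h),
      fun h => repWith_of_iso k ((repWith_comp_equiv_iff hE).2 h)⟩
  rw [hk]
  change AlgSp.RepWith @QuasiCompact (Limits.diag M.obj) ↔ _
  rw [hiff]
  refine ⟨fun h => repWith_ofSpMap_of_representable _ _ hdd fun U V g fst v sq =>
    (isQuasiCompactMor_yon_iff v).2 (h.property g fst v sq), fun h => ?_⟩
  exact H12AlgSp.repWith_quasiCompact_of_mor hdd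
    (prop_of_repWith_ofSpMap sourceIsoInv_qc testOnSchemes_qc M.property P.property h)

/-- An affine scheme over a quasi-separated base has quasi-compact diagonal over it. -/
theorem repWith_qc_diag_affine [QuasiSeparatedSpace S] (T : Over S) [IsAffine T.left] :
    AlgSt.RepByAlgSpWith AlgSp.IsQuasiCompactMor
      (FibCat.diag (FibCat.toSelf (AlgSt.ofSp ((AlgSp.yon S).obj T)))) :=
  (isQuasiSeparatedSp_iff_toSelf ⟨_, AlgSp.IsAlgSpace.yon_obj T⟩).1
    ((AlgSp.repWith_diag_yon_iff @QuasiCompact T).2 inferInstance)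

variable {𝒳 𝒴 : AlgSt.Cat S}

/-- Quasi-compact diagonals over the base pull back along quasi-separated morphisms. -/
theorem repWith_qc_diag_of_mor (hX : AlgSt.IsAlgStack K₀ 𝒳) (hY : AlgSt.IsAlgStack K₀ 𝒴) {f : 𝒳 ⥤ᵇ 𝒴}
    (hf : AlgSt.IsQuasiSeparatedMor f)
    (hYs : AlgSt.RepByAlgSpWith AlgSp.IsQuasiCompactMor (FibCat.diag (FibCat.toSelf 𝒴))) :
    AlgSt.RepByAlgSpWith AlgSp.IsQuasiCompactMor (FibCat.diag (FibCat.toSelf 𝒳)) := by
  rw [← comp_toSelf f]
  exact repWith_diag_comp sourceIsoInv_qc testOnSchemes_qc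
    (fun _ _ _ _ hB hC _ _ ha hb => H12AlgSp.isQuasiCompactMor_comp hB hC ha hb)
    hX.isStack.1 hY.isStack.1 (repWith_mono (fun _ _ _ h => h.1) hf) hYs

/-- A nonempty quasi-compact stack with quasi-compact diagonal has a closed point. -/
theorem exists_isClosed_point [QuasiSeparatedSpace S] (hX : AlgSt.IsAlgStack K₀ 𝒳)
    (hc : AlgSt.IsQuasiCompact 𝒳) [Nonempty (AlgSt.Points 𝒳)]
    (hΔ : AlgSt.RepByAlgSpWith AlgSp.IsQuasiCompactMor (FibCat.diag (FibCat.toSelf 𝒳))) :
    ∃ x : AlgSt.Points 𝒳, IsClosed ({x} : Set (AlgSt.Points 𝒳)) := by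
  haveI := compactSpace_points hX hc
  obtain ⟨U, x, hU, hx, hxs⟩ := hc
  haveI := hU
  haveI := spectralSpace_range hX hΔ x (isOpenMap_ofChart hX.isStack.1 (repWith_locP_mono smooth_le_flat hx)
    (repWith_locP_mono smooth_le_lfp hx))
  let φ : ↥(Set.range (AlgSt.Points.ofChart x)) ≃ₜ AlgSt.Points 𝒳 :=
    (Homeomorph.setCongr (Set.range_eq_univ.2 (ofChart_surjective hX.isStack.1 hxs))).trans (Homeomorph.Set.univ _)
  haveI : T0Space (AlgSt.Points 𝒳) := φ.symm.isEmbedding.t0Space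
  obtain ⟨y, -, hy⟩ := IsClosed.exists_closed_singleton (S := (Set.univ : Set (AlgSt.Points 𝒳))) isClosed_univ
    Set.univ_nonempty
  exact ⟨y, hy⟩

/-- A stack locally of finite type over a locally Noetherian one is locally Noetherian. -/
theorem noetherian_of_locQ (hX : AlgSt.IsAlgStack K₀ 𝒳) (hY : AlgSt.IsAlgStack K₀ 𝒴) {j : 𝒳 ⥤ᵇ 𝒴}
    (hl : AlgSt.LocQ (AlgSp.LocP @LocallyOfFiniteType) j)
    (hN : AlgSt.SmoothLocally (fun T ↦ IsLocallyNoetherian T) 𝒴) :
    AlgSt.SmoothLocally (fun T ↦ IsLocallyNoetherian T) 𝒳 := by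
  intro U x' hx'
  obtain ⟨V, y, hy, hys⟩ := hY.atlas
  have : IsLocallyNoetherian V.left := hN V y hy
  obtain ⟨A, a, h, ha, has, ⟨jh⟩⟩ := exists_atlas_fp hX hY j y
  have : LocallyOfFiniteType h.left :=
    (locP_yon_iff H12AlgSp.etLocal_lft h).1 (prop_of_locQ smLocal_lft hl hy a ha jh)
  have : IsLocallyNoetherian A.left := LocallyOfFiniteType.isLocallyNoetherian h.left
  obtain ⟨B, c, d, hc, hd, hcs⟩ := exists_common_chart hX.isStack.1
    (chart_of_atlas_fp hX.isStack.1 hY.isStack.1 hy ha)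
    (chartSurj_of_atlas_fp hX.isStack.1 hY.isStack.1 hys has) hx'
  have : LocallyOfFinitePresentation d.left := smooth_le_lfp _ _ _ hd
  have : IsLocallyNoetherian B.left := LocallyOfFiniteType.isLocallyNoetherian d.left
  have : Flat c.left := smooth_le_flat _ _ _ hc
  have : LocallyOfFinitePresentation c.left := smooth_le_lfp _ _ _ hc
  have := hcs
  exact H13AlgSp.isLocallyNoetherian_of_flat_lfp_surjective c.left

end Groth.Agent.H14CohBC
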