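import Groth.Agent.H14CohBC.GoodPoints
import Groth.Agent.H14AlgSt.PointsSpace
import Groth.Agent.H14Quot.CatQuot
import Groth.Agent.H12AlgSp.DecentClosed
import Groth.Agent.H12AlgSp.QSPullback

/-!
# Rational points of a good moduli space and closures of rational points of the stack
-/

set_option autoImplicit false
set_option backward.isDefEq.respectTransparency false
set_option backward.isDefEq.respectTransparency.types false

universe u

open CategoryTheory CategoryTheory.Limits AlgebraicGeometry Opposite TopologicalSpace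

noncomputable section

namespace Groth.Agent.H14CohBC

open H14Fib H14AlgSt H14Stk H14QCoh

variable {S : Scheme.{u}} {𝒳 : AlgSt.Cat S} {M : AlgSp.Sp S} {π : 𝒳 ⥤ᵇ AlgSt.ofSp M}

/-- Disjoint closed sets have disjoint images. -/
theorem GoodSetup.map_ne_of_disjoint (G : GoodSetup π) {C₁ C₂ : Set (AlgSt.Points 𝒳)} (h₁ : IsClosed C₁)
    (h₂ : IsClosed C₂) (hd : Disjoint C₁ C₂) {x₁ x₂ : AlgSt.Points 𝒳} (hx₁ : x₁ ∈ C₁) (hx₂ : x₂ ∈ C₂) :
    AlgSt.Points.map π x₁ ≠ AlgSt.Points.map π x₂ := by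
  intro he
  obtain ⟨p, hp⟩ := AlgSt.Points.mk_surjective (AlgSt.Points.map π x₁)
  let T₀ : Over S := Over.mk p.str
  have hb : p.obj.base = T₀ := p.lies
  haveI : IsAffine T₀.left := inferInstanceAs (IsAffine (Spec _))
  haveI : Subsingleton T₀.left := inferInstanceAs (Subsingleton (PrimeSpectrum p.K))
  let s : M.obj.obj (op T₀) := M.obj.map (eqToHom hb.symm).op p.obj.sec
  let y₀ : (AlgSp.yon S).obj T₀ ⟶ M := (AlgSp.J S).uliftYonedaEquiv.symm s
  let p₀ : AlgSt.FPt (AlgSt.ofSch T₀) := ⟨p.K, p.str, ⟨T₀, ⟨𝟙 T₀⟩⟩, rfl⟩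
  have hp₀ : AlgSt.Points.map (AlgSt.ofSpMap y₀) (AlgSt.Points.mk p₀) = AlgSt.Points.mk p := by
    rw [AlgSt.Points.map_mk]
    refine mk_eq_of_hom (p := p₀.map (AlgSt.ofSpMap y₀)) (q := p) ⟨eqToHom hb.symm, ?_⟩
    change s = (AlgSp.J S).uliftYonedaEquiv y₀
    rw [Equiv.apply_symm_apply]
  have hT := isAlgStack_ofSp ⟨(AlgSp.yon S).obj T₀, AlgSp.IsAlgSpace.yon_obj T₀⟩
  have hM := isAlgStack_ofSp ⟨M, G.hM⟩
  have hpre := continuous_points_map G.h𝒳 (FibCat.fpSnd (AlgSt.ofSpMap y₀) π)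
  obtain ⟨r, r₁, r₂⟩ := exists_separating_fibre y₀ G _ _ (h₁.preimage hpre) (h₂.preimage hpre)
    (hd.preimage _)
  obtain ⟨w₁, -, hw₁⟩ := exists_points_fp hT.isStack.1 G.h𝒳.isStack.1 hM.isStack.1
    (F := AlgSt.ofSpMap y₀) (G := π) (hp₀.trans hp)
  obtain ⟨w₂, -, hw₂⟩ := exists_points_fp hT.isStack.1 G.h𝒳.isStack.1 hM.isStack.1
    (F := AlgSt.ofSpMap y₀) (G := π) (hp₀.trans (hp.trans he))
  rcases mem_basicOpen_or r (tImg π y₀ w₁) with h | h
  · exact r₁ w₁ (show _ ∈ C₁ from hw₁ ▸ hx₁) h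
  · exact r₂ w₂ (show _ ∈ C₂ from hw₂ ▸ hx₂) (Subsingleton.elim (tImg π y₀ w₁) (tImg π y₀ w₂) ▸ h)

/-- Rational points of a space over a field with the same image are equal. -/
theorem eq_of_ofPt_eq {k : Type u} [Field k] {X : AlgSp.Sp (Spec (CommRingCat.of k))} (hX : AlgSp.IsAlgSpace X)
    (g₁ g₂ : (AlgSp.yon (Spec (CommRingCat.of k))).obj (Over.mk (𝟙 (Spec (CommRingCat.of k)))) ⟶ X)
    (t : Spec (CommRingCat.of k)) (e : AlgSp.Points.ofPt g₁ t = AlgSp.Points.ofPt g₂ t) : g₁ = g₂ := by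
  let B := Spec (CommRingCat.of k)
  have ht : IsTerminal ((AlgSp.yon B).obj (Over.mk (𝟙 B))) :=
    IsTerminal.isTerminalObj (AlgSp.yon B) _ Over.mkIdTerminal
  let p₁ : AlgSp.FieldPt X := H12AlgSp.fieldPtOfHom g₁
  let p₂ : AlgSp.FieldPt X := H12AlgSp.fieldPtOfHom g₂
  have h₁ : p₁.toHom = g₁ := (AlgSp.J B).uliftYonedaEquiv.symm_apply_apply g₁
  have h₂ : p₂.toHom = g₂ := (AlgSp.J B).uliftYonedaEquiv.symm_apply_apply g₂
  have hm : Mono p₁.toHom := h₁ ▸ ⟨fun a b _ => ht.hom_ext a b⟩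
  have hp : AlgSp.Points.mk p₁ = AlgSp.Points.mk p₂ := by
    have i₁ := AlgSp.Points.ofPt_toHom p₁ t
    have i₂ := AlgSp.Points.ofPt_toHom p₂ t
    rw [h₁] at i₁
    rw [h₂] at i₂
    exact i₁.symm.trans (e.trans i₂)
  obtain ⟨c, hc, -⟩ := H12AlgSp.exists_factor_of_mk_eq hX p₁ p₂ hm hp
  have : c = 𝟙 _ := Over.mkIdTerminal.hom_ext _ _
  subst this
  rw [CategoryTheory.Functor.map_id, Category.id_comp, h₁, h₂] at hc
  exact hc

variable {k : Type u} [Field k]

local notation "B" => Spec (CommRingCat.of k)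
local notation "pt" => Over.mk (𝟙 (Spec (CommRingCat.of k)))

/-- The image of a rational point of the stack is closed and determines the composite. -/
theorem exists_ratPt {M : AlgSp.Space (Spec (CommRingCat.of k))} (x : FibCat.overCat pt ⥤ᵇ AlgSt.ofSp M.obj)
    (t : Spec (CommRingCat.of k)) :
    ∃ g : (AlgSp.yon B).obj pt ⟶ M.obj,
      x = BasedFunctor.comp (AlgSt.ofOverCat pt) (AlgSt.ofSpMap g) ∧
      AlgSt.Points.ofChart x t = spEquiv M.obj (AlgSp.Points.ofPt g t) := by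
  let g : (AlgSp.yon B).obj pt ⟶ M.obj :=
    ObjectProperty.homMk (mapOfFun (BasedFunctor.comp (AlgSt.toOverCat pt) x))
  let i : x ≅ BasedFunctor.comp (AlgSt.ofOverCat pt) (AlgSt.ofSpMap g) :=
    (Stk.restr (AlgSt.ofOverCat pt) _).mapIso (isoOfPshMap (BasedFunctor.comp (AlgSt.toOverCat pt) x))
  exact ⟨g, H14Quot.eq_of_iso_ofSp i, (ofChart_iso i t).trans (spEquiv_ofPt g t).symm⟩

theorem isClosed_ratPt {M : AlgSp.Space (Spec (CommRingCat.of k))} (hM : AlgSp.IsQuasiSeparatedSp M.obj)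
    (x : FibCat.overCat pt ⥤ᵇ AlgSt.ofSp M.obj) (t : Spec (CommRingCat.of k)) :
    IsClosed ({AlgSt.Points.ofChart x t} : Set (AlgSt.Points (AlgSt.ofSp M.obj))) := by
  obtain ⟨g, -, hg⟩ := exists_ratPt x t
  obtain ⟨f, c, hc, hcl⟩ := H12AlgSp.exists_toBase_comp g
  have hi : IsIntegralHom c.left := by
    rw [hcl]
    exact inferInstanceAs (IsIntegralHom (𝟙 B))
  have h := H12AlgSp.isClosed_point_of_integral M.property
    (H12AlgSp.isDecent_of_isQuasiSeparatedSp M.property hM) g f c hc hi t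
  rw [hg]
  have e : ({spEquiv M.obj (AlgSp.Points.ofPt g t)} : Set (AlgSt.Points (AlgSt.ofSp M.obj))) =
      spHomeo M '' {AlgSp.Points.ofPt g t} := by
    rw [Set.image_singleton]
    rfl
  rw [e]
  exact (spHomeo M).isClosedMap _ h

/-- Rational points of the stack have the same image iff their closures meet. -/
theorem comp_eq_iff_closure_inter {𝒳 : AlgSt.Cat (Spec (CommRingCat.of k))}
    {M : AlgSp.Space (Spec (CommRingCat.of k))} (hM : AlgSp.IsQuasiSeparatedSp M.obj)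
    {π : 𝒳 ⥤ᵇ AlgSt.ofSp M.obj} (G : GoodSetup π) (x₁ x₂ : FibCat.overCat pt ⥤ᵇ 𝒳)
    (t : Spec (CommRingCat.of k)) :
    BasedFunctor.comp x₁ π = BasedFunctor.comp x₂ π ↔
      (closure {AlgSt.Points.ofChart x₁ t} ∩ closure {AlgSt.Points.ofChart x₂ t}).Nonempty := by
  refine ⟨fun h => ?_, fun ⟨z, hz₁, hz₂⟩ => ?_⟩
  · by_contra hne
    refine G.map_ne_of_disjoint isClosed_closure isClosed_closure
      (Set.disjoint_iff_inter_eq_empty.2 (Set.not_nonempty_iff_eq_empty.1 hne))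
      (subset_closure rfl) (subset_closure rfl) ?_
    rw [← ofChart_comp, ← ofChart_comp, h]
  · have hc := continuous_points_map (isAlgStack_ofSp M) π
    have key : ∀ x : FibCat.overCat pt ⥤ᵇ 𝒳, z ∈ closure {AlgSt.Points.ofChart x t} →
        AlgSt.Points.map π z = AlgSt.Points.ofChart (BasedFunctor.comp x π) t := fun x hz => by
      have hcl := (isClosed_ratPt hM (BasedFunctor.comp x π) t).preimage hc
      exact closure_minimal (t := AlgSt.Points.map π ⁻¹' {AlgSt.Points.ofChart (BasedFunctor.comp x π) t})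
        (Set.singleton_subset_iff.2 (Set.mem_singleton_iff.2 (ofChart_comp x π t).symm)) hcl hz
    obtain ⟨g₁, h₁, e₁⟩ := exists_ratPt (BasedFunctor.comp x₁ π) t
    obtain ⟨g₂, h₂, e₂⟩ := exists_ratPt (BasedFunctor.comp x₂ π) t
    have : g₁ = g₂ := eq_of_ofPt_eq M.property g₁ g₂ t
      ((spEquiv M.obj).injective (e₁.symm.trans ((key x₁ hz₁).symm.trans ((key x₂ hz₂).trans e₂))))
    rw [h₁, h₂, this]

end Groth.Agent.H14CohBC
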