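import Groth.Agent.H14CohBC.GoodNoeth
import Groth.Agent.H14AlgSt.LocQ2
import Groth.Agent.H14AlgSt.Diag
import Groth.Agent.H14AlgSt.SmoothTot
import Groth.Agent.H14QCoh.SectDescent
import Groth.Agent.H10Coh.FinType2
import Groth.Prelude.Def_StMod3

/-!
# Direct images of coherent modules along good moduli spaces are coherent
-/

set_option autoImplicit false
set_option linter.style.haveILetI false
set_option backward.isDefEq.respectTransparency false
set_option backward.isDefEq.respectTransparency.types false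

universe u v w

open CategoryTheory CategoryTheory.Limits AlgebraicGeometry Opposite TopologicalSpace

noncomputable section

namespace Groth.Agent.H14CohBC

open H14Fib H14AlgSt H14Stk H14QCoh

variable {S : Scheme.{u}}

section Values

variable {𝒵 : BasedCategory.{v, w} (Over S)} {A : Type u} [CommRing A]
  (φ : ∀ D : AObj 𝒵, A →+* Fn 𝒵 D.1)
  (hφ : ∀ {D' D : AObj 𝒵} (d : D'.1 ⟶ D.1) (a : A), fnMap d (φ D a) = φ D' a)
  (G : StMod.QCoh 𝒵) (𝔸 : AtlasF 𝒵)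

theorem exists_secθ (D : AObj 𝒵) {i : (oneAtlasI 𝔸).ι} (γ : D.1 ⟶ (oneAtlasI 𝔸).x i) :
    ∃ l : BC (Sec G ((oneAtlasI 𝔸).x i)) γ →ₗ[Fn 𝒵 D.1] Sec G D.1,
      ∀ m, l (gen (Sec G ((oneAtlasI 𝔸).x i)) γ m) = G.obj.mapTop γ m :=
  letI := Module.compHom (Sec G D.1) (fnMap γ)
  (isBC_gen (Sec G ((oneAtlasI 𝔸).x i)) γ).exists_lift (AddMonoidHom.mk' (G.obj.mapTop γ) (G.obj.mapTop_add γ))
    fun a m => G.obj.mapTop_smul γ a m

/-- The comparison of a module with the extension from the chart. -/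
def secθ (D : AObj 𝒵) {i : (oneAtlasI 𝔸).ι} (γ : D.1 ⟶ (oneAtlasI 𝔸).x i) :
    BC (Sec G ((oneAtlasI 𝔸).x i)) γ →ₗ[Fn 𝒵 D.1] Sec G D.1 :=
  (exists_secθ G 𝔸 D γ).choose

lemma secθ_gen (D : AObj 𝒵) {i : (oneAtlasI 𝔸).ι} (γ : D.1 ⟶ (oneAtlasI 𝔸).x i)
    (m : Sec G ((oneAtlasI 𝔸).x i)) :
    secθ G 𝔸 D γ (gen (Sec G ((oneAtlasI 𝔸).x i)) γ m) = G.obj.mapTop γ m :=
  (exists_secθ G 𝔸 D γ).choose_spec m

/-- The system of sections of a module. -/
def secSys : SysI.{u} (oneAtlasI 𝔸) fun i => Sec G ((oneAtlasI 𝔸).x i) where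
  Hd D := Sec G D.1
  hr d := AddMonoidHom.mk' (G.obj.mapTop d) (G.obj.mapTop_add d)
  θ D _ γ := (secθ G 𝔸 D γ).toAddMonoidHom
  θ_smul D _ γ c u := (secθ G 𝔸 D γ).map_smul c u
  θ_bij D i γ _ := bijective_of_isBC (isBC_gen _ γ)
    (AtlasI.isBC_of_mapTop G γ D.2 ((oneAtlasI 𝔸).affx i)) (secθ G 𝔸 D γ) (secθ_gen G 𝔸 D γ)
  θ_nat {D' D} d {i} γ γ' e u := by
    subst e
    refine (isBC_gen (Sec G ((oneAtlasI 𝔸).x i)) γ).induction (P := fun u =>
      G.obj.mapTop d (secθ G 𝔸 D γ u) = secθ G 𝔸 D' (d ≫ γ) (push d rfl u)) u ?_ ?_ ?_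
    · simp only [map_zero]
      exact map_zero (AddMonoidHom.mk' (G.obj.mapTop d) (G.obj.mapTop_add d))
    · intro a b ha hb
      simp only [map_add, G.obj.mapTop_add, ha, hb]
    · intro c m
      rw [push_smul, push_gen, LinearMap.map_smul, LinearMap.map_smul, secθ_gen, secθ_gen,
        G.obj.mapTop_comp]
      exact G.obj.mapTop_smul d c _

lemma secSys_sep : (secSys G 𝔸).Sep := fun D' D d hd => by
  haveI := D.2
  exact injective_mapTop_cov (F := G) hd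

variable {P : Type u} [AddCommGroup P] [Module A P] (ev : P →+ G.obj.GlobSect)
  (hev : ∀ (a : A) (p : P) (D : AObj 𝒵), (ev (a • p)).1 D.1 = φ D a • (ev p).1 D.1)

include hev in
theorem exists_evalT (D : AObj 𝒵) :
    ∃ l : TW φ P D →ₗ[Fn 𝒵 D.1] Sec G D.1, ∀ p, l (genT φ P D p) = (ev p).1 D.1 :=
  letI := Module.compHom (Sec G D.1) (φ D)
  (isBC_genT φ P D).exists_lift (AddMonoidHom.mk' (fun p => (ev p).1 D.1) fun p q => by
    rw [map_add]; rfl) fun a p => hev a p D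

/-- Evaluation of a family of sections. -/
def evalT (D : AObj 𝒵) : TW φ P D →ₗ[Fn 𝒵 D.1] Sec G D.1 := (exists_evalT φ G ev hev D).choose

lemma evalT_genT (D : AObj 𝒵) (p : P) : evalT φ G ev hev D (genT φ P D p) = (ev p).1 D.1 :=
  (exists_evalT φ G ev hev D).choose_spec p

/-- The family of evaluations. -/
def evalHom : SysI.HomI (tensSys φ P hφ 𝔸) (secSys G 𝔸) where
  f := evalT φ G ev hev
  nat D' D d h := by
    refine (isBC_genT φ P D).induction (P := fun h =>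
      G.obj.mapTop d (evalT φ G ev hev D h) = evalT φ G ev hev D' (pushT φ hφ d h)) h ?_ ?_ ?_
    · simp only [map_zero]
      exact map_zero (AddMonoidHom.mk' (G.obj.mapTop d) (G.obj.mapTop_add d))
    · intro a b ha hb
      simp only [map_add, G.obj.mapTop_add, ha, hb]
    · intro c p
      rw [LinearMap.map_smul, pushT_smul, pushT_genT, LinearMap.map_smul, evalT_genT, evalT_genT,
        ← (ev p).2 d]
      exact G.obj.mapTop_smul d c _

variable (hp : FibCat.IsFibGrpd 𝒵.p)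
  (hex : ∀ {F G : StMod.QCoh 𝒵} (v : F.obj ⟶ G.obj), StMod.Mod.IsSurj v →
    Function.Surjective (StMod.Mod.globSectMap v))

include hφ hev hp hex in
/-- A section which is a combination of a family on the chart belongs to the family. -/
theorem exists_of_mem_span (hinj : Function.Injective (φ 𝔸.X))
    (hO : ∀ t : Fn 𝒵 𝔸.x, fnMap 𝔸.a t = fnMap 𝔸.b t → ∃ r, φ 𝔸.X r = t) (T : G.obj.GlobSect)
    (hT : T.1 𝔸.x ∈ Submodule.span (Fn 𝒵 𝔸.x) (Set.range fun p => (ev p).1 𝔸.x)) :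
    ∃ p, (ev p).1 𝔸.x = T.1 𝔸.x := by
  let H := evalHom φ hφ G 𝔸 ev hev
  have hsmul : ∀ ⦃D' D : AObj 𝒵⦄ (d : D'.1 ⟶ D.1) (c : Fn 𝒵 D.1) (h : (secSys G 𝔸).Hd D),
      (secSys G 𝔸).hr d (c • h) = fnMap d c • (secSys G 𝔸).hr d h := fun D' D d c h => G.obj.mapTop_smul d c h
  letI := instModuleTW φ P 𝔸.X
  have hmem : T.1 𝔸.x ∈ LinearMap.range (evalT φ G ev hev 𝔸.X) := by
    refine Submodule.span_le.2 ?_ hT
    rintro _ ⟨p, rfl⟩
    exact ⟨genT φ P 𝔸.X p, evalT_genT φ G ev hev 𝔸.X p⟩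
  obtain ⟨z, hz, hz'⟩ := exists_lift_sys 𝔸 hp hex (H.toImage hsmul) (tensSys_sep φ hφ 𝔸)
    (H.image_sep hsmul (secSys_sep G 𝔸)) (fun _ => H.toImage_surjective hsmul _) ⟨T.1 𝔸.x, hmem⟩
    (Subtype.ext ((T.2 𝔸.a).trans (T.2 𝔸.b).symm))
  obtain ⟨p, hp'⟩ := (exists_of_pushT_eq φ P hφ 𝔸 hp hex hinj hO).2 z hz
  refine ⟨p, ?_⟩
  rw [← evalT_genT φ G ev hev 𝔸.X p, hp']
  exact congrArg Subtype.val hz'

include hφ hp hex in
/-- Constants with faithful evaluation in a Noetherian module are Noetherian. -/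
theorem isNoetherian_of_values {N : Type u} [AddCommGroup N] [Module A N] (gl : N →+ G.obj.GlobSect)
    (hgl : ∀ (a : A) (n : N) (D : AObj 𝒵), (gl (a • n)).1 D.1 = φ D a • (gl n).1 D.1)
    (hinj : Function.Injective (φ 𝔸.X))
    (hO : ∀ t : Fn 𝒵 𝔸.x, fnMap 𝔸.a t = fnMap 𝔸.b t → ∃ r, φ 𝔸.X r = t)
    (hgi : ∀ n m : N, (gl n).1 𝔸.x = (gl m).1 𝔸.x → n = m)
    [IsNoetherian (Fn 𝒵 𝔸.x) (Sec G 𝔸.x)] : IsNoetherian A N := by
  let J : Submodule A N → Submodule (Fn 𝒵 𝔸.x) (Sec G 𝔸.x) := fun P =>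
    Submodule.span (Fn 𝒵 𝔸.x) (Set.range fun p : P => (gl p.1).1 𝔸.x)
  have key : ∀ (P : Submodule A N) (n : N), (gl n).1 𝔸.x ∈ J P → n ∈ P := fun P n hn => by
    obtain ⟨p, hp'⟩ := exists_of_mem_span φ hφ G 𝔸 (P := P)
      (gl.comp P.subtype.toAddMonoidHom) (fun a p D => hgl a p.1 D) hp hex hinj hO (gl n) hn
    exact hgi p.1 n hp' ▸ p.2
  rw [isNoetherian_iff']
  have hm : StrictMono J := by
    intro P Q hPQ
    refine lt_of_le_not_ge (Submodule.span_mono ?_) fun hle => hPQ.not_ge fun q hq => key P q ?_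
    · rintro _ ⟨p, rfl⟩
      exact ⟨⟨p.1, hPQ.le p.2⟩, rfl⟩
    · exact hle (Submodule.subset_span ⟨⟨q, hq⟩, rfl⟩)
  exact ⟨RelHomClass.wellFounded (⟨J, fun hIJ => hm hIJ⟩ :
    (GT.gt : Submodule A N → Submodule A N → Prop) →r
      (GT.gt : Submodule (Fn 𝒵 𝔸.x) (Sec G 𝔸.x) → _ → Prop)) wellFounded_gt⟩

include hφ hp hex in
/-- The Noetherian property in any universe. -/
theorem isNoetherian_of_values' {N : Type (u + 1)} [AddCommGroup N] [Module A N] (gl : N →+ G.obj.GlobSect)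
    (hgl : ∀ (a : A) (n : N) (D : AObj 𝒵), (gl (a • n)).1 D.1 = φ D a • (gl n).1 D.1)
    (hinj : Function.Injective (φ 𝔸.X))
    (hO : ∀ t : Fn 𝒵 𝔸.x, fnMap 𝔸.a t = fnMap 𝔸.b t → ∃ r, φ 𝔸.X r = t)
    (hgi : ∀ n m : N, (gl n).1 𝔸.x = (gl m).1 𝔸.x → n = m)
    [IsNoetherian (Fn 𝒵 𝔸.x) (Sec G 𝔸.x)] : IsNoetherian A N := by
  haveI : Small.{u} N := small_of_injective (f := fun n => (gl n).1 𝔸.x) fun n m e => hgi n m e
  let e : Shrink.{u} N ≃ₗ[A] N := Shrink.linearEquiv A N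
  haveI : IsNoetherian A (Shrink.{u} N) := isNoetherian_of_values φ hφ G 𝔸 hp hex
    (gl.comp e.toLinearMap.toAddMonoidHom) (fun a n D => by
      change (gl (e (a • n))).1 D.1 = φ D a • (gl (e n)).1 D.1
      rw [map_smul, hgl]) hinj hO (fun n m h => e.injective (hgi _ _ h))
  exact isNoetherian_of_linearEquiv e

end Values

variable {𝒳 : AlgSt.Cat S} {M : AlgSp.Sp S} {π : 𝒳 ⥤ᵇ AlgSt.ofSp M}

/-- Sections of the direct image of a coherent module over an affine etale chart form a Noetherian module. -/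
theorem GoodSetup.isNoetherian_relSect (G : GoodSetup π)
    (hN : AlgSt.SmoothLocally (fun T => IsLocallyNoetherian T) 𝒳) (F : StMod.QCoh 𝒳) (hF : F.obj.IsFinType)
    (E : AlgSp.EtOver M) (hE : IsAffine E.obj.left.left) :
    IsNoetherian Γ(StMod.sch (AlgSt.ofSp M) (StMod.etaOf E), ⊤) (StMod.Mod.RelSect π F.obj (StMod.etaOf E)) := by
  let η := StMod.etaOf E
  let N := StMod.Mod.RelSect π F.obj η
  let A : Type u := Fn (AlgSt.ofSp M) η
  change IsNoetherian A N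
  have hp : FibCat.IsFibGrpd (StMod.fibCat π η).p := (isAlgStack_fibEta π G.h𝒳 G.hM E).isStack.1
  obtain ⟨𝔸, hx⟩ := G.exists_smooth_atlasF E hE (P := fun U => IsLocallyNoetherian U.left) hN
  obtain ⟨hinj, hO⟩ := cst_equalizer π hp (G.unit E) 𝔸.toAtlas
  haveI : IsLocallyNoetherian (StMod.sch (StMod.fibCat π η) 𝔸.x) := hx
  haveI := 𝔸.affx
  haveI hB : IsNoetherianRing (Fn (StMod.fibCat π η) 𝔸.x) :=
    IsLocallyNoetherian.component_noetherian ⟨⊤, isAffineOpen_top _⟩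
  let FQ := fibQ π η F
  haveI : Module.Finite (Fn (StMod.fibCat π η) 𝔸.x) (Sec FQ 𝔸.x) := by
    haveI : IsAffine (StMod.sch 𝒳 𝔸.x.left) := 𝔸.affx
    haveI : (F.obj.obj 𝔸.x.left).IsQuasicoherent := F.property.2 𝔸.x.left
    exact H10Coh.finite_sections (F.obj.obj 𝔸.x.left) (hF 𝔸.x.left) (isAffineOpen_top _)
  haveI : IsNoetherian (Fn (StMod.fibCat π η) 𝔸.x) (Sec FQ 𝔸.x) := isNoetherian_of_isNoetherianRing_of_finite _ _
  let gl : N →+ FQ.obj.GlobSect := AddMonoidHom.mk' (toGlob π) fun s t => StMod.Mod.GlobSect.ext fun x => rfl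
  have hgl : ∀ (a : A) (n : N) (D : AObj (StMod.fibCat π η)),
      (gl (a • n)).1 D.1 = cst π η D a • (gl n).1 D.1 := fun a n D => by
    change (StMod.baseOver π D.1.left D.1.hom).left.appTop a • n.1 D.1.left D.1.hom = _
    rw [baseOver_eq_pr π D.1]
    rfl
  have hinj' : ∀ n m : N, (gl n).1 𝔸.x = (gl m).1 𝔸.x → n = m := fun n m e => by
    have h := globSect_ext hp 𝔸.toAtlas (gl n) (gl m) e
    exact (ofGlob_toGlob π n).symm.trans ((congrArg (ofGlob π) h).trans (ofGlob_toGlob π m))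
  exact isNoetherian_of_values' (A := A) (N := N) (cst π η) (fun d r => cst_nat π d r) FQ 𝔸 hp
    (fun v hv => surjective_globSectMap_eta π G.h𝒳 G.hM G.hqc G.hqs G.hqcM G.coh E hE v hv)
    gl hgl hinj hO hinj'

/-- The direct image of a coherent module along a good moduli space is coherent. -/
theorem GoodSetup.finite_relSect (G : GoodSetup π)
    (hN : AlgSt.SmoothLocally (fun T => IsLocallyNoetherian T) 𝒳) (F : StMod.QCoh 𝒳) (hF : F.obj.IsFinType)
    (E : AlgSp.EtOver M) (hE : IsAffine E.obj.left.left) :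
    Module.Finite Γ(StMod.sch (AlgSt.ofSp M) (StMod.etaOf E), ⊤) (StMod.Mod.RelSect π F.obj (StMod.etaOf E)) :=
  haveI := G.isNoetherian_relSect hN F hF E hE
  ⟨IsNoetherian.noetherian ⊤⟩

/-- A stack locally of finite type over a locally Noetherian scheme is locally Noetherian. -/
theorem smoothLocally_noetherian_of_locQ [IsLocallyNoetherian S]
    (hft : AlgSt.LocQ (AlgSp.LocP @LocallyOfFiniteType) (FibCat.toSelf 𝒳)) :
    AlgSt.SmoothLocally (fun T => IsLocallyNoetherian T) 𝒳 := by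
  intro U x hx
  let T : Over S := baseObj S
  let y' : FibCat.overCat T ⥤ᵇ FibCat.selfOver (Over S) := FibCat.toSelf (FibCat.overCat T)
  obtain ⟨⟨_, _⟩, hs⟩ := (isEquivOver_iff _).1 (toSelf_overCat_base_isEquivOver (S := S))
  let W : FibCat.fp (FibCat.toSelf 𝒳) y' ⥤ᵇ FibCat.fp (FibCat.toSelf 𝒳) (BasedFunctor.id (FibCat.selfOver (Over S))) :=
    fpMap (F := FibCat.toSelf 𝒳) (G := BasedFunctor.id (FibCat.selfOver (Over S))) (BasedFunctor.id 𝒳) y'
      (BasedFunctor.id (FibCat.selfOver (Over S))) (Iso.refl _) (Iso.refl _)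
  have hW : FibCat.IsEquivOver W := fpMap_isEquivOver _ _ _ _ _ (essSurjOver_id _) hs
  obtain ⟨E, hi, hj⟩ := isEquivOver_comp hW (fpFst_id_isEquivOver (FibCat.toSelf 𝒳))
  have hE : FibCat.IsEquivOver E := ⟨_, hj, hi⟩
  obtain ⟨h', ⟨j⟩⟩ := exists_overMap_iso
    (BasedFunctor.comp (BasedFunctor.comp x E) (FibCat.fpSnd (FibCat.toSelf 𝒳) y'))
  have hf : LocallyOfFiniteType h'.left := (locP_yon_iff H12AlgSp.etLocal_lft h').1
    (prop_of_locQ smLocal_lft hft repWith_toSelf_base.1 (BasedFunctor.comp x E)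
      ((repWith_comp_equiv_iff hE).2 hx) j)
  exact LocallyOfFiniteType.isLocallyNoetherian (Y := S) h'.left

end Groth.Agent.H14CohBC
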