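import Groth.Agent.H14CohBC.TensSys
import Groth.Agent.H14CohBC.CohAffBC
import Groth.Agent.H14QCoh.UnitGlue

/-!
# Base change of the bijectivity of the unit of a cohomologically affine morphism
-/

set_option autoImplicit false
set_option linter.style.haveILetI false
set_option backward.isDefEq.respectTransparency false
set_option backward.isDefEq.respectTransparency.types false

universe u

open CategoryTheory CategoryTheory.Limits AlgebraicGeometry Opposite TopologicalSpace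

noncomputable section

namespace Groth.Agent.H14CohBC

open H14Fib H14AlgSt H14Stk H14QCoh

variable {S : Scheme.{u}}

section Sect

variable {𝒳 𝒴 : AlgSt.Cat S} (π : 𝒳 ⥤ᵇ 𝒴) {η : 𝒴.obj}

/-- The constants of the category over an object. -/
def cst (η : 𝒴.obj) (D : AObj (StMod.fibCat π η)) : Fn 𝒴 η →+* Fn (StMod.fibCat π η) D.1 :=
  (pr π D.1).appTop.hom

lemma cst_nat {D' D : AObj (StMod.fibCat π η)} (d : D'.1 ⟶ D.1) (r : Fn 𝒴 η) :
    fnMap d (cst π η D r) = cst π η D' r :=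
  congr($(congrArg Scheme.Hom.appTop (bmap_pr π d)) r)

/-- A section of the direct image of the structure sheaf as a function on the category over the object. -/
def toFib (n : StMod.Mod.RelSect π (StMod.O 𝒳) η) : (StMod.OQ (StMod.fibCat π η)).obj.GlobSect :=
  ⟨fun z => n.1 z.left z.hom, fun z' z φ => by
    have h := n.2 φ.left z.hom
    rw [CostructuredArrow.w φ] at h
    exact h⟩

/-- A function on the category over an object as a section of the direct image of the structure sheaf. -/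
def ofFib (T : (StMod.OQ (StMod.fibCat π η)).obj.GlobSect) : StMod.Mod.RelSect π (StMod.O 𝒳) η :=
  ⟨fun ξ α => T.1 (CostructuredArrow.mk α), fun ξ' ξ φ α =>
    T.2 (CostructuredArrow.homMk φ rfl : CostructuredArrow.mk (π.map φ ≫ α) ⟶ CostructuredArrow.mk α)⟩

lemma toFib_unit (r : Fn 𝒴 η) (z : (StMod.fibCat π η).obj) :
    (toFib π (StMod.unitSect π η r)).1 z = (pr π z).appTop r :=
  congr($(congrArg Scheme.Hom.appTop (baseOver_eq_pr π z)) r)

/-- The unit identifies the constants with the equalizer on an atlas. -/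
theorem cst_equalizer (hp : FibCat.IsFibGrpd (StMod.fibCat π η).p) (h : Function.Bijective (StMod.unitSect π η))
    (𝔸 : Atlas (StMod.fibCat π η)) :
    Function.Injective (cst π η 𝔸.X) ∧
      ∀ t : Fn (StMod.fibCat π η) 𝔸.x, fnMap 𝔸.a t = fnMap 𝔸.b t → ∃ r, cst π η 𝔸.X r = t := by
  refine ⟨fun r r' e => h.1 ?_, fun t ht => ?_⟩
  · have e' : toFib π (StMod.unitSect π η r) = toFib π (StMod.unitSect π η r') :=
      globSect_ext hp 𝔸 _ _ ((toFib_unit π r 𝔸.x).trans (e.trans (toFib_unit π r' 𝔸.x).symm))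
    exact StMod.Mod.RelSect.ext _ _ _ fun ξ α =>
      congrArg (fun T : (StMod.OQ (StMod.fibCat π η)).obj.GlobSect => T.1 (CostructuredArrow.mk α)) e'
  · obtain ⟨T, hT⟩ := exists_globSect hp 𝔸 (StMod.OQ (StMod.fibCat π η)) t ht
    obtain ⟨r, hr⟩ := h.2 (ofFib π T)
    refine ⟨r, (toFib_unit π r 𝔸.x).symm.trans (Eq.trans ?_ hT)⟩
    rw [hr]
    change T.1 (CostructuredArrow.mk 𝔸.x.hom) = T.1 𝔸.x
    obtain ⟨ξ, ⟨⟨⟩⟩, α⟩ := 𝔸.x
    rfl

/-- Bijectivity of the unit passes along an arrow of affine objects from a category with exact sections. -/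
theorem bijective_unitSect_of_arrow {η' : 𝒴.obj} (c : η' ⟶ η) (hp : FibCat.IsFibGrpd 𝒳.p)
    (hq : FibCat.IsFibGrpd 𝒴.p) (hη' : IsAffine (StMod.sch 𝒴 η')) (hη : IsAffine (StMod.sch 𝒴 η))
    (𝔸 : AtlasF (StMod.fibCat π η))
    (hex : ∀ {F G : StMod.QCoh (StMod.fibCat π η)} (v : F.obj ⟶ G.obj), StMod.Mod.IsSurj v →
      Function.Surjective (StMod.Mod.globSectMap v))
    (h : Function.Bijective (StMod.unitSect π η)) : Function.Bijective (StMod.unitSect π η') := by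
  have hpf : FibCat.IsFibGrpd (StMod.fibCat π η).p := fibCat_fibGrpd π η hp
  let R := bcAffRep π c hp hq hη' hη
  let eR : ∀ ξ : (StMod.fibCat π η).obj, Fn (StMod.fibCat π η) ξ →+* Fn (StMod.fibCat π η') (R.z ξ) :=
    fun ξ => fnMap (R.e ξ)
  letI := Module.compHom (Fn 𝒴 η') (fnMap c)
  obtain ⟨hinj, hO⟩ := cst_equalizer π hpf h 𝔸.toAtlas
  obtain ⟨hinj', hO'⟩ := exists_of_pushT_eq (cst π η) (Fn 𝒴 η') (fun d r => cst_nat π d r) 𝔸 hpf hex hinj hO
  -- the comparison on an affine object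
  have hΨ : ∀ D : AObj (StMod.fibCat π η), ∃ Ψ : TW (cst π η) (Fn 𝒴 η') D → Fn (StMod.fibCat π η') (R.z D.1),
      Function.Bijective Ψ ∧ (∀ u v, Ψ (u + v) = Ψ u + Ψ v) ∧
      (∀ (r : Fn (StMod.fibCat π η) D.1) u, Ψ (r • u) = eR D.1 r * Ψ u) ∧
      ∀ a, Ψ (genT (cst π η) (Fn 𝒴 η') D a) = (pr π (R.z D.1)).appTop a := by
    intro D
    haveI := D.2
    haveI := hη
    haveI := hη'
    let σ : Fn 𝒴 η' →+* Fn (StMod.fibCat π η) ((bcFun π c).obj (R.z D.1)) := (pr π (R.z D.1)).appTop.hom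
    have hself : IsBC σ σ.toAddMonoidHom := by
      letI := σ.toAlgebra
      refine isBC_of_tensor (fun a m => map_mul σ a m) ⟨(Algebra.TensorProduct.rid (Fn 𝒴 η')
        (Fn (StMod.fibCat π η) ((bcFun π c).obj (R.z D.1))) (Fn (StMod.fibCat π η) ((bcFun π c).obj (R.z D.1)))).toLinearMap,
        (Algebra.TensorProduct.rid (Fn 𝒴 η') (Fn (StMod.fibCat π η) ((bcFun π c).obj (R.z D.1)))
          (Fn (StMod.fibCat π η) ((bcFun π c).obj (R.z D.1)))).bijective, fun m => ?_⟩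
      change m • (1 : Fn (StMod.fibCat π η) ((bcFun π c).obj (R.z D.1))) = σ m
      rw [Algebra.smul_def, mul_one]
      rfl
    have hsq := IsBC.sq (push_aux π c (R.e D.1) (exists_bc π c hp hq D.1).choose_spec.choose_spec.1 σ rfl).flip hself
    letI := Module.compHom (Fn (StMod.fibCat π η) ((bcFun π c).obj (R.z D.1))) (fnMap (R.e D.1))
    obtain ⟨l, hl⟩ := (isBC_genT (cst π η) (Fn 𝒴 η') D).exists_lift _ hsq.smul
    exact ⟨l, bijective_of_isBC (isBC_genT (cst π η) (Fn 𝒴 η') D) hsq l hl, map_add l, fun r u => l.map_smul r u, hl⟩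
  choose Ψ hΨb hΨadd hΨs hΨg using hΨ
  have hΨ0 : ∀ D, Ψ D 0 = 0 := fun D => by
    have e := hΨadd D 0 0
    rw [add_zero] at e
    exact add_eq_left.1 e.symm
  have hnat : ∀ (D' D : AObj (StMod.fibCat π η)) (d : D'.1 ⟶ D.1) (u : TW (cst π η) (Fn 𝒴 η') D),
      Ψ D' (pushT (cst π η) (fun d r => cst_nat π d r) d u) = fnMap (R.c d) (Ψ D u) := by
    intro D' D d u
    refine (isBC_genT (cst π η) (Fn 𝒴 η') D).induction (P := fun u =>
      Ψ D' (pushT (cst π η) (fun d r => cst_nat π d r) d u) = fnMap (R.c d) (Ψ D u)) u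
      (by rw [map_zero, hΨ0, hΨ0, map_zero]) (fun a b ha hb => by rw [map_add, hΨadd, hΨadd, map_add, ha, hb]) ?_
    intro r w
    rw [pushT_smul, pushT_genT, hΨs, hΨs, hΨg, hΨg, map_mul]
    refine congrArg₂ (· * ·) ?_ (congr($(congrArg Scheme.Hom.appTop (bmap_pr π (R.c d))) w)).symm
    change fnMap (R.e D'.1) (fnMap d r) = fnMap ((bcFun π c).map (R.c d)) (fnMap (R.e D.1) r)
    rw [← fnMap_comp, ← fnMap_comp, R.c_spec]
  -- functions on the category over `η'` are determined at the chart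
  have hext : ∀ s s' : (StMod.OQ (StMod.fibCat π η')).obj.GlobSect,
      s.1 (R.z 𝔸.x) = s'.1 (R.z 𝔸.x) → s = s' := by
    intro s s' e
    have hpush := globSect_ext hpf 𝔸.toAtlas (pushGlob R s) (pushGlob R s') e
    refine StMod.Mod.GlobSect.ext fun ζ => ?_
    rw [← s.2 (R.sect ζ), ← s'.2 (R.sect ζ)]
    exact congrArg (fun t : (R.push _).obj.GlobSect =>
      (StMod.OQ (StMod.fibCat π η')).obj.mapTop (R.sect ζ) (R.sec _ _ (t.1 ((bcFun π c).obj ζ)))) hpush
  refine ⟨(injective_iff_map_eq_zero _).2 fun r hr => ?_, fun n => ?_⟩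
  · refine hinj' ((hΨb 𝔸.X).1 ?_)
    rw [map_zero, hΨ0, hΨg, ← toFib_unit π r (R.z 𝔸.x)]
    rw [hr]
    rfl
  · obtain ⟨t, ht⟩ := (hΨb 𝔸.X).2 ((toFib π n).1 (R.z 𝔸.x))
    obtain ⟨r, hr⟩ := hO' t ((hΨb 𝔸.Y).1 (by
      rw [hnat 𝔸.Y 𝔸.X 𝔸.a, hnat 𝔸.Y 𝔸.X 𝔸.b, ht]
      exact ((toFib π n).2 (R.c 𝔸.a)).trans ((toFib π n).2 (R.c 𝔸.b)).symm))
    refine ⟨r, ?_⟩
    have e : toFib π (StMod.unitSect π η' r) = toFib π n := hext _ _ (by
      rw [toFib_unit]
      exact (hΨg 𝔸.X r).symm.trans ((congrArg (Ψ 𝔸.X) hr).trans ht))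
    exact StMod.Mod.RelSect.ext _ _ _ fun ξ α =>
      congrArg (fun T : (StMod.OQ (StMod.fibCat π η')).obj.GlobSect => T.1 (CostructuredArrow.mk α)) e

end Sect

section Space

variable {𝒳 : AlgSt.Cat S} {M M' : AlgSp.Sp S} (g : M' ⟶ M) (π : 𝒳 ⥤ᵇ AlgSt.ofSp M) (θ : (AlgSt.ofSp M').obj)

local notation "π'" => FibCat.fpFst (AlgSt.ofSpMap g) π
local notation "pr₂" => FibCat.fpSnd (AlgSt.ofSpMap g) π

/-- Bijectivity of the unit passes to the base change over an object. -/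
theorem bijective_unitSect_fpFst (h : Function.Bijective (StMod.unitSect π ((AlgSt.ofSpMap g).obj θ))) :
    Function.Bijective (StMod.unitSect π' θ) := by
  refine ⟨fun r r' e => h.1 (StMod.Mod.RelSect.ext _ _ _ fun ξ α => ?_), fun n => ?_⟩
  · refine (toFn pr₂ (spPt g π θ α)).injective ?_
    have h1 := congrArg (fun t : StMod.Mod.RelSect π' (StMod.O _) θ => t.1 (spPt g π θ α) (spArr g π θ α)) e
    dsimp only at h1
    rw [← toFn_unit, ← toFn_unit, sndArr_spArr] at h1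
    exact h1
  · let n₀ : StMod.Mod.RelSect π (StMod.O 𝒳) ((AlgSt.ofSpMap g).obj θ) :=
      ⟨fun ξ α => (toFn pr₂ (spPt g π θ α)).symm (n.1 (spPt g π θ α) (spArr g π θ α)), fun ξ' ξ φ α => by
        refine (toFn pr₂ (spPt g π θ (π.map φ ≫ α))).injective (Eq.trans ?_ (RingEquiv.apply_symm_apply _ _).symm)
        change toFn pr₂ (spPt g π θ (π.map φ ≫ α)) (fnMap ((pr₂).map (spPtMap g π θ φ α)) _) = _
        rw [toFn_fnMap, RingEquiv.apply_symm_apply]
        exact (n.2 (spPtMap g π θ φ α) _).trans (congrArg (n.1 _) (spPtMap_arr g π θ φ α))⟩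
    obtain ⟨r, hr⟩ := h.2 n₀
    refine ⟨r, StMod.Mod.RelSect.ext _ _ _ fun ω γ => ?_⟩
    rw [← toFn_unit, hr]
    let p := spPt g π θ (sndArr g π θ γ)
    let w : Fn (FibCat.fp (AlgSt.ofSpMap g) π) p := n.1 p (spArr g π θ (sndArr g π θ γ))
    refine Eq.trans ?_ ((n.2 (spUnit γ) (spArr g π θ (sndArr g π θ γ))).trans (congrArg (n.1 ω) (spUnit_arr γ)))
    change toFn pr₂ ω ((toFn pr₂ p).symm w) = fnMap (spUnit γ) w
    have e := toFn_fnMap pr₂ (spUnit γ) ((toFn pr₂ p).symm w)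
    refine Eq.trans (congrArg (toFn pr₂ ω) ?_) (e.trans (congrArg (fnMap (spUnit γ)) ((toFn pr₂ p).apply_symm_apply w)))
    exact (fnMap_id ω.obj.snd ((toFn pr₂ p).symm w)).symm

theorem nonempty_atlasF_fibEta (h𝒳 : AlgSt.IsAlgStack Scheme.fppfPrecoverage 𝒳) (hM : AlgSp.IsAlgSpace M)
    (hqc : AlgSt.IsQuasiCompactMor Scheme.fppfPrecoverage π) (hqs : AlgSt.IsQuasiSeparatedMor π)
    (E : AlgSp.EtOver M) (hE : IsAffine E.obj.left.left) :
    Nonempty (AtlasF (StMod.fibCat π (StMod.etaOf E))) := by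
  let η := StMod.etaOf E
  have hη : IsAffine (StMod.sch (AlgSt.ofSp M) η) := hE
  have h' := isAlgStack_fibEta π h𝒳 hM E
  obtain ⟨U, x, hU, hx, hxs, hR⟩ := exists_qc_chart_fibCat h𝒳 (isAlgStack_ofSp ⟨M, hM⟩) π hqc hqs η hη
  obtain ⟨y, a, b, hy, hfa, hfb, hc₂, hc₃⟩ := exists_pair_chart h'.isStack.1 hx hx hR
  have hsU : StMod.sch (StMod.fibCat π η) (x.obj (topObj U)) = U.left :=
    congrArg (fun t => t.left) (x.w_obj (topObj U))
  exact ⟨{ x := x.obj (topObj U)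
           y := y
           a := a
           b := b
           affx := hsU ▸ hU
           affy := hy
           cov := fun ξ hξ => exists_cov_lift h'.isStack.1 hx hxs ξ hξ
           cov₂ := hc₂
           flata := hfa
           flatb := hfb
           cov₃ := hc₃ }⟩

/-- The unit stays an isomorphism under base change. -/
theorem unitIsIso_fpFst (h𝒳 : AlgSt.IsAlgStack Scheme.fppfPrecoverage 𝒳) (hM : AlgSp.IsAlgSpace M)
    (hM' : AlgSp.IsAlgSpace M') (hqc : AlgSt.IsQuasiCompactMor Scheme.fppfPrecoverage π)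
    (hqs : AlgSt.IsQuasiSeparatedMor π)
    (hqcM : ∀ (U : Over S), IsAffine U.left → ∀ z : FibCat.overCat U ⥤ᵇ AlgSt.ofSp M,
      AlgSt.IsQuasiCompactMor Scheme.fppfPrecoverage z)
    (h : StMod.IsCohAffine π) (hu : StMod.UnitIsIso π) : StMod.UnitIsIso π' := by
  have hY := isAlgStack_ofSp ⟨M, hM⟩
  have hY' := isAlgStack_ofSp ⟨M', hM'⟩
  have h' := isAlgStack_fp' hY' h𝒳 hY (AlgSt.ofSpMap g) π
  refine unitIsIso_of_affine π' h'.isStack.1 fun E' hE' => ?_
  obtain ⟨κ, θ, E, β, hθ, hE, hfl, hc, hs⟩ := exists_chart_family hM g E'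
  haveI : ∀ k, IsAffine (StMod.sch (AlgSt.ofSp M') (θ k)) := hθ
  refine bijective_unitSect_of_family π' h' hY'
    (isQCMor_fpFst h𝒳 hY hY' (AlgSt.ofSpMap g) hqc) (repWith_diag_fpFst _ hqs) hE' β hfl hs fun k => ?_
  obtain ⟨c⟩ := hc k
  obtain ⟨𝔸⟩ := nonempty_atlasF_fibEta π h𝒳 hM hqc hqs (E k) (hE k)
  exact bijective_unitSect_fpFst g π (θ k) (bijective_unitSect_of_arrow π c h𝒳.isStack.1 hY.isStack.1 (hθ k) (hE k)
    𝔸 (fun v hv => surjective_globSectMap_eta π h𝒳 hM hqc hqs hqcM h (E k) (hE k) v hv) (hu (E k)))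

end Space

end Groth.Agent.H14CohBC
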