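import Groth.Agent.H14CohBC.Sep
import Groth.Agent.H14CohBC.UnitBC
import Groth.Agent.H14CohBC.QCTarget

/-!
# Sections and separation of points on affine base changes of good moduli spaces
-/

set_option autoImplicit false
set_option linter.style.haveILetI false
set_option backward.isDefEq.respectTransparency false
set_option backward.isDefEq.respectTransparency.types false

universe u

open CategoryTheory CategoryTheory.Limits AlgebraicGeometry Opposite TopologicalSpace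

noncomputable section

namespace Groth.Agent.H14CohBC

open H14Fib H14AlgSt H14Stk H14QCoh

variable {S : Scheme.{u}} {T : Over S}

/-- A scheme as an etale chart of itself. -/
def selfChart (T : Over S) : AlgSp.EtOver ((AlgSp.yon S).obj T) :=
  AlgSp.EtOver.mk ((AlgSp.yon S).map (𝟙 T)) ((AlgSp.repWith_yon_map_iff _ _).2 (inferInstanceAs (Etale (𝟙 T.left))))

lemma selfChart_sec (T : Over S) : (StMod.etaOf (selfChart T)).sec.down = 𝟙 T := by
  exact Category.id_comp (𝟙 T)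

/-- The arrow to the chart of the whole scheme. -/
def toSelf (θ : (AlgSt.ofSch T).obj) : θ ⟶ StMod.etaOf (selfChart T) :=
  ⟨θ.sec.down, ULift.ext _ _ (by
    change θ.sec.down ≫ (StMod.etaOf (selfChart T)).sec.down = θ.sec.down
    rw [selfChart_sec]; exact Category.comp_id _)⟩

lemma toSelf_unique {θ : (AlgSt.ofSch T).obj} (α : θ ⟶ StMod.etaOf (selfChart T)) : α = toSelf θ :=
  Stk.EltObj.hom_ext (by
    have h := congrArg ULift.down α.map_sec
    change α.hom ≫ (StMod.etaOf (selfChart T)).sec.down = θ.sec.down at h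
    rw [selfChart_sec] at h
    exact (Category.comp_id α.hom).symm.trans h)

variable {𝒳 : AlgSt.Cat S} {M : AlgSp.Sp S} (π : 𝒳 ⥤ᵇ AlgSt.ofSp M) (y : (AlgSp.yon S).obj T ⟶ M)

local notation "π'" => FibCat.fpFst (AlgSt.ofSpMap y) π
local notation "𝒵" => FibCat.fp (AlgSt.ofSpMap y) π

/-- The image in the base of a point. -/
def tImg (q : AlgSt.Points 𝒵) : T.left :=
  chartPoint (AlgSt.Points.map (AlgSt.toOverCat T) (AlgSt.Points.map π' q))

/-- The standing hypotheses on a good moduli space. -/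
structure GoodSetup : Prop where
  h𝒳 : AlgSt.IsAlgStack Scheme.fppfPrecoverage 𝒳
  hM : AlgSp.IsAlgSpace M
  hqc : AlgSt.IsQuasiCompactMor Scheme.fppfPrecoverage π
  hqs : AlgSt.IsQuasiSeparatedMor π
  hqcM : ∀ (U : Over S), IsAffine U.left → ∀ z : FibCat.overCat U ⥤ᵇ AlgSt.ofSp M,
    AlgSt.IsQuasiCompactMor Scheme.fppfPrecoverage z
  coh : StMod.IsCohAffine π
  unit : StMod.UnitIsIso π

variable {π} (G : GoodSetup π) [IsAffine T.left]

include G in
theorem isAlgStack_fibre : AlgSt.IsAlgStack Scheme.fppfPrecoverage 𝒵 :=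
  isAlgStack_fp' (isAlgStack_ofSp ⟨(AlgSp.yon S).obj T, AlgSp.IsAlgSpace.yon_obj T⟩) G.h𝒳
    (isAlgStack_ofSp ⟨M, G.hM⟩) (AlgSt.ofSpMap y) π

include G in
/-- Global sections on an affine base change are exact. -/
theorem surjective_globSectMap_fibre {F H : StMod.QCoh 𝒵} (v : F.obj ⟶ H.obj) (hv : StMod.Mod.IsSurj v) :
    Function.Surjective (StMod.Mod.globSectMap v) := by
  intro s
  let n : StMod.Mod.RelSect π' H.obj (StMod.etaOf (selfChart T)) :=
    ⟨fun ξ _ => s.1 ξ, fun ξ' ξ φ _ => s.2 φ⟩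
  obtain ⟨m, hm⟩ := isCohAffine_fpFst π y G.h𝒳 G.hM (AlgSp.IsAlgSpace.yon_obj T) G.hqc G.hqs G.hqcM G.coh
    (F := F) (G := H) (ObjectProperty.homMk v) hv (selfChart T) ‹IsAffine T.left› n
  refine ⟨⟨fun ξ => m.1 ξ (toSelf ((π').obj ξ)), fun ξ' ξ φ => ?_⟩, StMod.Mod.GlobSect.ext fun ξ =>
    congrArg (fun r : StMod.Mod.RelSect π' H.obj (StMod.etaOf (selfChart T)) => r.1 ξ (toSelf ((π').obj ξ))) hm⟩
  rw [m.2 φ]
  exact congrArg (m.1 ξ') (toSelf_unique _)

include G in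
/-- Global functions on an affine base change are those of the base. -/
theorem exists_globFn_fibre (t : (StMod.OQ 𝒵).obj.GlobSect) :
    ∃ r : Γ(T.left, ⊤), ∀ ξ, t.1 ξ = ((StMod.baseOver π' ξ (toSelf ((π').obj ξ))).left.appTop r : Fn 𝒵 ξ) := by
  obtain ⟨r, hr⟩ := (unitIsIso_fpFst y π G.h𝒳 G.hM (AlgSp.IsAlgSpace.yon_obj T) G.hqc G.hqs G.hqcM G.coh G.unit
    (selfChart T)).2 ⟨fun ξ _ => t.1 ξ, fun ξ' ξ φ _ => t.2 φ⟩
  exact ⟨r, fun ξ => (congrArg (fun n : StMod.Mod.RelSect π' (StMod.O 𝒵) (StMod.etaOf (selfChart T)) =>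
    n.1 ξ (toSelf ((π').obj ξ))) hr).symm⟩

omit [IsAffine T.left] in
lemma tImg_mk (r : AlgSt.FPt 𝒵) :
    tImg π y (AlgSt.Points.mk r) =
      (eqToHom r.lies.symm ≫ StMod.baseOver π' r.obj (toSelf ((π').obj r.obj))).left (IsLocalRing.closedPoint r.K) := by
  change chartPt _ = _
  simp [chartPt, chartHom, StMod.baseOver, toSelf, AlgSt.FPt.map, AlgSt.toOverCat]
  rfl

include G in
/-- Disjoint closed sets of points of an affine base change are separated by a function on the base. -/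
theorem exists_separating_fibre (T₁ T₂ : Set (AlgSt.Points 𝒵)) (h₁ : IsClosed T₁) (h₂ : IsClosed T₂)
    (hd : Disjoint T₁ T₂) :
    ∃ r : Γ(T.left, ⊤), (∀ q ∈ T₁, tImg π y q ∉ T.left.basicOpen (r - 1)) ∧
      ∀ q ∈ T₂, tImg π y q ∉ T.left.basicOpen r := by
  obtain ⟨t, ht⟩ := exists_separating (isAlgStack_fibre y G)
    (fun v hv => surjective_globSectMap_fibre y G v hv) T₁ T₂ h₁ h₂ hd
  obtain ⟨r, hr⟩ := exists_globFn_fibre y G t
  have key : ∀ (p : AlgSt.FPt 𝒵) (a : Γ(T.left, ⊤)),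
      ((StMod.baseOver π' p.obj (toSelf ((π').obj p.obj))).left.appTop a : Fn 𝒵 p.obj) = 0 →
      tImg π y (AlgSt.Points.mk p) ∉ T.left.basicOpen a := by
    intro p a ha hmem
    rw [tImg_mk] at hmem
    let f : ((𝒵).p.obj p.obj).left ⟶ T.left := (StMod.baseOver π' p.obj (toSelf ((π').obj p.obj))).left
    let c := (eqToHom p.lies.symm).left (IsLocalRing.closedPoint p.K)
    have h : c ∈ f ⁻¹ᵁ T.left.basicOpen a := hmem
    rw [Scheme.preimage_basicOpen_top, show f.appTop a = 0 from ha, Scheme.basicOpen_zero] at h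
    exact h.elim
  refine ⟨r, fun q hq => ?_, fun q hq => ?_⟩
  all_goals obtain ⟨p, rfl⟩ := AlgSt.Points.mk_surjective q
  · refine key p _ ?_
    have h1 : ((StMod.baseOver π' p.obj (toSelf ((π').obj p.obj))).left.appTop r : Fn 𝒵 p.obj) = (1 : Fn 𝒵 p.obj) :=
      (hr p.obj).symm.trans ((ht p).1 hq)
    exact (map_sub _ r 1).trans (sub_eq_zero.2 (h1.trans (map_one _).symm))
  · exact key p _ ((hr p.obj).symm.trans ((ht p).2 hq))

include G in
/-- An affine base change over a nonempty scheme has a point. -/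
theorem nonempty_points_fibre [Nonempty T.left] : Nonempty (AlgSt.Points 𝒵) := by
  by_contra hne
  have h' := isAlgStack_fibre y G
  have hempty : ∀ ξ : (𝒵).obj, IsEmpty (StMod.sch 𝒵 ξ) := fun ξ => ⟨fun t => by
    obtain ⟨p, -, -⟩ := exists_pt h'.isStack.1 ξ t
    exact hne ⟨AlgSt.Points.mk p⟩⟩
  have hz : ∀ (ξ : (𝒵).obj) (a b : Fn 𝒵 ξ), a = b := fun ξ a b =>
    TopCat.Presheaf.section_ext (StMod.sch 𝒵 ξ).sheaf _ a b fun t _ => ((hempty ξ).false t).elim
  have h := (unitIsIso_fpFst y π G.h𝒳 G.hM (AlgSp.IsAlgSpace.yon_obj T) G.hqc G.hqs G.hqcM G.coh G.unit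
    (selfChart T)).1 (a₁ := (1 : Γ(T.left, ⊤))) (a₂ := (0 : Γ(T.left, ⊤)))
    (StMod.Mod.RelSect.ext _ _ _ fun ξ α => hz ξ _ _)
  have hb : T.left.basicOpen (1 : Γ(T.left, ⊤)) = ⊥ := by rw [h, Scheme.basicOpen_zero]
  rw [Scheme.basicOpen_of_isUnit _ isUnit_one] at hb
  obtain ⟨p⟩ := ‹Nonempty T.left›
  exact (hb.le (show p ∈ (⊤ : T.left.Opens) from trivial)).elim

end Groth.Agent.H14CohBC
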