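import Groth.Agent.H14CohBC.GoodPoints
import Groth.Agent.H14AlgSt.PointsMor
import Groth.Agent.H14Quot.CatQuot
import Groth.Agent.H14FinQuot.LocalCat
import Groth.Agent.H12AlgSp.Presentation
import Groth.Agent.H12AlgSp.SchImage

/-!
# A good moduli space is universal for morphisms to schemes
-/

set_option autoImplicit false
set_option linter.style.haveILetI false
set_option backward.isDefEq.respectTransparency false
set_option backward.isDefEq.respectTransparency.types false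

universe u

open CategoryTheory CategoryTheory.Limits AlgebraicGeometry Opposite TopologicalSpace
open AlgSp (yon J Sp RepWith IsAlgSpace)

noncomputable section

namespace Groth.Agent.H14CohBC

open H14Fib H14AlgSt H14Stk H14QCoh

variable {S : Scheme.{u}} {𝒳 : AlgSt.Cat S} {M : Sp S} (π : 𝒳 ⥤ᵇ AlgSt.ofSp M) {T : Over S}

/-- The object of a morphism to the space. -/
def etaT (a : (yon S).obj T ⟶ M) : (AlgSt.ofSp M).obj := ⟨T, (J S).uliftYonedaEquiv a⟩

lemma app_up (a : (yon S).obj T ⟶ M) {T' : Over S} (v : T' ⟶ T) :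
    a.hom.app (op T') (ULift.up v) = M.obj.map v.op ((J S).uliftYonedaEquiv a) := by
  rw [H14Quot.equiv_map, GrothendieckTopology.uliftYonedaEquiv_comp]
  exact congrArg (a.hom.app (op T')) (ULift.ext _ _ (Category.id_comp v).symm)

variable {π}

/-- The morphism to the chart of an arrow. -/
def bo (a : (yon S).obj T ⟶ M) {ξ : 𝒳.obj} (α : π.obj ξ ⟶ etaT a) : 𝒳.p.obj ξ ⟶ T :=
  eqToHom (π.w_obj ξ).symm ≫ α.hom

lemma bo_eq (a : (yon S).obj T ⟶ M) {ξ : 𝒳.obj} (α : π.obj ξ ⟶ etaT a) :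
    bo a α = bo _ α := rfl

lemma map_bo (a : (yon S).obj T ⟶ M) {ξ' ξ : 𝒳.obj} (φ : ξ' ⟶ ξ) (α : π.obj ξ ⟶ etaT a) :
    𝒳.p.map φ ≫ bo a α = bo a (π.map φ ≫ α) :=
  StMod.map_comp_baseOver π φ α

/-- An arrow to the object of a morphism gives a factorisation. -/
lemma secMor_eq_of_arrow (a : (yon S).obj T ⟶ M) {ξ : 𝒳.obj} (α : π.obj ξ ⟶ etaT a) :
    H14LocalCat.secMor π ξ = (yon S).map (bo a α) ≫ a := by
  apply (J S).uliftYonedaEquiv.injective
  rw [← H14Quot.equiv_map, H14LocalCat.secMor, Equiv.apply_symm_apply, H14Stk.secAt, ← α.map_sec,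
    H14Stk.pmap_comp]
  rfl

/-- A factorisation gives an arrow to the object of a morphism. -/
lemma exists_arrow (a : (yon S).obj T ⟶ M) {ξ : 𝒳.obj} (v : 𝒳.p.obj ξ ⟶ T)
    (hv : (yon S).map v ≫ a = H14LocalCat.secMor π ξ) :
    ∃ α : π.obj ξ ⟶ etaT a, bo a α = v := by
  have h := congrArg (J S).uliftYonedaEquiv hv
  rw [← H14Quot.equiv_map, H14LocalCat.secMor, Equiv.apply_symm_apply] at h
  refine ⟨⟨eqToHom (H14Stk.baseEq π ξ) ≫ v, ?_⟩, ?_⟩
  · rw [H14Stk.sec_eq π ξ, ← h, H14Stk.pmap_comp]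
    rfl
  · change eqToHom _ ≫ eqToHom _ ≫ v = v
    rw [eqToHom_trans_assoc, eqToHom_refl, Category.id_comp]

/-- Arrows push forward along morphisms of charts. -/
lemma exists_arrow_comp (a : (yon S).obj T ⟶ M) {T' : Over S} (j : T' ⟶ T) {ξ : 𝒳.obj}
    (α : π.obj ξ ⟶ etaT ((yon S).map j ≫ a)) :
    ∃ α' : π.obj ξ ⟶ etaT a, bo a α' = bo _ α ≫ j :=
  exists_arrow a _ (by rw [Functor.map_comp, Category.assoc]; exact (secMor_eq_of_arrow _ α).symm)

lemma inv_hom_eq {a : (yon S).obj T ⟶ M} (o : (FibCat.fp (AlgSt.ofSpMap a) π).obj) :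
    o.obj.iso.inv.hom =
      eqToHom ((π.w_obj o.obj.snd).trans ((FibCat.fpSnd (AlgSt.ofSpMap a) π).w_obj o)) := by
  haveI : (AlgSt.ofSp M).p.IsHomLift (𝟙 ((AlgSt.ofSch T).p.obj o.obj.fst)) o.obj.iso.hom := o.property
  have h1 : o.obj.iso.hom.hom = _ :=
    IsHomLift.fac' (AlgSt.ofSp M).p (𝟙 ((AlgSt.ofSch T).p.obj o.obj.fst)) o.obj.iso.hom
  have h2 : o.obj.iso.inv.hom ≫ o.obj.iso.hom.hom = 𝟙 _ := congrArg Stk.EltObj.Hom.hom o.obj.iso.inv_hom_id
  rw [h1] at h2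
  simp only [Category.id_comp, eqToHom_trans] at h2
  have h3 := (comp_eqToHom_iff _ _ _).1 h2
  rw [h3, Category.id_comp]

/-- Every point of an affine chart lies under an object. -/
theorem GoodSetup.exists_obj_through (G : GoodSetup π) (a : (yon S).obj T ⟶ M) [IsAffine T.left] (e : T.left) :
    ∃ (ξ : 𝒳.obj) (α : π.obj ξ ⟶ etaT a) (x : StMod.sch 𝒳 ξ), (bo a α).left x = e := by
  obtain ⟨q, rfl⟩ := G.surjective_tImg a e
  obtain ⟨r, rfl⟩ := AlgSt.Points.mk_surjective q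
  rw [tImg_mk]
  let θ : (AlgSt.ofSch T).obj := r.obj.obj.fst
  let β : (AlgSt.ofSpMap a).obj θ ⟶ etaT a := ⟨θ.sec.down, (app_up a θ.sec.down).symm⟩
  let w : 𝒳.p.obj r.obj.obj.snd = θ.base := (FibCat.fpSnd (AlgSt.ofSpMap a) π).w_obj r.obj
  refine ⟨r.obj.obj.snd, r.obj.obj.iso.inv ≫ β,
    (eqToHom (r.lies.symm.trans w.symm)).left (IsLocalRing.closedPoint r.K), ?_⟩
  have h : eqToHom (r.lies.symm.trans w.symm) ≫ bo a (r.obj.obj.iso.inv ≫ β) =
      eqToHom r.lies.symm ≫ θ.sec.down := by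
    change eqToHom _ ≫ eqToHom _ ≫ r.obj.obj.iso.inv.hom ≫ θ.sec.down = _
    rw [inv_hom_eq r.obj]
    erw [eqToHom_trans_assoc, eqToHom_trans_assoc, eqToHom_trans_assoc]
    rfl
  have h' : StMod.baseOver (FibCat.fpFst (AlgSt.ofSpMap a) π) r.obj
      (toSelf ((FibCat.fpFst (AlgSt.ofSpMap a) π).obj r.obj)) = θ.sec.down := by
    simp [StMod.baseOver, toSelf, θ]
    rfl
  rw [h']
  exact congrArg (fun m : Over.mk r.str ⟶ T => m.left (IsLocalRing.closedPoint r.K)) h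

/-- Restriction of an etale chart along an etale morphism. -/
def restrictChart (E : AlgSp.EtOver M) {T' : Over S} (j : T' ⟶ E.obj.left) (hj : Etale j.left) : AlgSp.EtOver M :=
  ⟨CostructuredArrow.mk ((yon S).map j ≫ E.obj.hom),
    H12AlgSp.repWith_comp ((AlgSp.repWith_yon_map_iff @Etale j).2 hj) E.property⟩

/-- The open subscheme as an object over the base. -/
abbrev openObj (O : T.left.Opens) : Over S := Over.mk (O.ι ≫ T.hom)

/-- Its inclusion. -/
abbrev openHom (O : T.left.Opens) : openObj O ⟶ T := Over.homMk O.ι rfl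

lemma etale_openHom (O : T.left.Opens) : Etale (openHom O).left := inferInstanceAs (Etale O.ι)

/-- Morphisms from an etale chart are determined by the objects over it. -/
theorem GoodSetup.ext_of_baseOver (G : GoodSetup π) (E : AlgSp.EtOver M) {Y : Scheme.{u}}
    (k k' : E.obj.left.left ⟶ Y)
    (h : ∀ (ξ : 𝒳.obj) (α : π.obj ξ ⟶ etaT E.obj.hom),
      (bo _ α).left ≫ k = (bo _ α).left ≫ k') : k = k' := by
  have heq : ∀ e, k e = k' e := fun e => by
    obtain ⟨(A : E.obj.left.left.Opens), (hA : IsAffineOpen A), hmem, -⟩ :=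
      TopologicalSpace.Opens.isBasis_iff_nbhd.mp E.obj.left.left.isBasis_affineOpens
        (TopologicalSpace.Opens.mem_top e)
    haveI : IsAffine (openObj A).left := hA
    obtain ⟨ξ, α, x, hx⟩ := G.exists_obj_through ((yon S).map (openHom A) ≫ E.obj.hom)
      (⟨e, hmem⟩ : (openObj A).left)
    obtain ⟨α', hα'⟩ := exists_arrow_comp E.obj.hom (openHom A) α
    have := congrArg (fun m : StMod.sch 𝒳 ξ ⟶ Y => m x) (h ξ α')
    have hx' : (bo _ α').left x = e := by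
      rw [hα']
      exact congrArg A.ι hx
    exact (congrArg k hx').symm.trans (this.trans (congrArg k' hx'))
  choose V hV hVm using fun e : E.obj.left.left =>
    let ⟨V, hV, hVm, _⟩ := TopologicalSpace.Opens.isBasis_iff_nbhd.mp Y.isBasis_affineOpens
      (TopologicalSpace.Opens.mem_top (k e))
    (⟨V, hV, hVm⟩ : ∃ V : Y.Opens, IsAffineOpen V ∧ k e ∈ V)
  choose O hO hOm hOV using fun e : E.obj.left.left =>
    let ⟨O, hO, hOm, hle⟩ := TopologicalSpace.Opens.isBasis_iff_nbhd.mp E.obj.left.left.isBasis_affineOpens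
      (show e ∈ k ⁻¹ᵁ V e from hVm e)
    (⟨O, hO, hOm, hle⟩ : ∃ O : E.obj.left.left.Opens, IsAffineOpen O ∧ e ∈ O ∧ O ≤ k ⁻¹ᵁ V e)
  refine Scheme.Cover.hom_ext (E.obj.left.left.openCoverOfIsOpenCover O
    (eq_top_iff.2 fun e _ => TopologicalSpace.Opens.mem_iSup.2 ⟨e, hOm e⟩)) _ _ fun e => ?_
  change (O e).ι ≫ k = (O e).ι ≫ k'
  have hOV' : O e ≤ k' ⁻¹ᵁ V e := fun z hz => show k' z ∈ V e from heq z ▸ hOV e hz
  rw [← Scheme.Hom.resLE_comp_ι k (hOV e), ← Scheme.Hom.resLE_comp_ι k' hOV']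
  refine congrArg (· ≫ (V e).ι) ?_
  haveI : IsAffine (V e).toScheme := hV e
  refine ext_of_isAffine (CommRingCat.hom_ext (RingHom.ext fun r => ?_))
  let E' := restrictChart E (openHom (O e)) (etale_openHom (O e))
  refine (G.unit E').1 (StMod.Mod.RelSect.ext _ _ _ fun ξ α => ?_)
  obtain ⟨α', hα'⟩ := exists_arrow_comp E.obj.hom (openHom (O e)) α
  have h' := h ξ α'
  rw [hα', Over.comp_left, Category.assoc, Category.assoc] at h'
  change (bo _ α).left ≫ (O e).ι ≫ k = (bo _ α).left ≫ (O e).ι ≫ k' at h'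
  rw [← Scheme.Hom.resLE_comp_ι k (hOV e), ← Scheme.Hom.resLE_comp_ι k' hOV'] at h'
  simp only [← Category.assoc] at h'
  have := (cancel_mono (V e).ι).1 h'
  exact congr($(congrArg Scheme.Hom.appTop this) r)

variable (π) {Z : Over S} (ψ : 𝒳 ⥤ᵇ AlgSt.ofSch Z)

/-- The morphism to the scheme at an object. -/
def psiHom (ξ : 𝒳.obj) : 𝒳.p.obj ξ ⟶ Z := (H14Stk.secAt ψ ξ).down

lemma psiHom_eq (ξ : 𝒳.obj) : psiHom ψ ξ = eqToHom (H14Stk.baseEq ψ ξ).symm ≫ (ψ.obj ξ).sec.down := rfl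

lemma map_psiHom {ξ' ξ : 𝒳.obj} (φ : ξ' ⟶ ξ) : 𝒳.p.map φ ≫ psiHom ψ ξ = psiHom ψ ξ' :=
  congrArg ULift.down (H14Stk.secAt_natural ψ φ)

lemma yon_map_psiHom (ξ : 𝒳.obj) : (yon S).map (psiHom ψ ξ) = H14LocalCat.secMor ψ ξ := by
  apply (J S).uliftYonedaEquiv.injective
  rw [H14LocalCat.secMor, Equiv.apply_symm_apply]
  exact ULift.ext _ _ (Category.id_comp (psiHom ψ ξ))

variable {π}

/-- The image in a scheme of a point. -/
lemma chartPoint_map_mk {𝒲 : AlgSt.Cat S} (Φ : 𝒲 ⥤ᵇ AlgSt.ofSch Z) (r : AlgSt.FPt 𝒲) :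
    chartPoint (AlgSt.Points.map (AlgSt.toOverCat Z) (AlgSt.Points.map Φ (AlgSt.Points.mk r))) =
      (eqToHom r.lies.symm ≫ psiHom Φ r.obj).left (IsLocalRing.closedPoint r.K) := by
  change chartPt _ = _
  rw [psiHom_eq]
  simp [chartPt, chartHom, AlgSt.FPt.map, AlgSt.toOverCat]
  rfl

/-- The object of the fibre product of an arrow. -/
lemma exists_fibObj (a : (yon S).obj T ⟶ M) {ξ : 𝒳.obj} (α : π.obj ξ ⟶ etaT a) :
    ∃ o : (FibCat.fp (AlgSt.ofSpMap a) π).obj, ∃ (he : o.obj.snd = ξ)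
      (hb : (FibCat.fp (AlgSt.ofSpMap a) π).p.obj o = 𝒳.p.obj ξ),
      StMod.baseOver (FibCat.fpFst (AlgSt.ofSpMap a) π) o (toSelf ((FibCat.fpFst (AlgSt.ofSpMap a) π).obj o)) =
        eqToHom hb ≫ bo a α := by
  let f : (AlgSt.ofSch T).obj := ⟨𝒳.p.obj ξ, ⟨bo _ α⟩⟩
  have h : M.obj.map (eqToHom (π.w_obj ξ).symm).op (π.obj ξ).sec = ((AlgSt.ofSpMap a).obj f).sec := by
    change _ = a.hom.app _ (ULift.up (bo _ α))
    refine Eq.trans ?_ (app_up a (bo a α)).symm
    exact (congrArg _ α.map_sec.symm).trans (H14Stk.pmap_comp _ _ _)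
  have h' : M.obj.map (eqToHom (π.w_obj ξ)).op ((AlgSt.ofSpMap a).obj f).sec = (π.obj ξ).sec := by
    rw [← h, H14Stk.pmap_comp, eqToHom_trans, eqToHom_refl, H14Stk.pmap_id]
  let i : (AlgSt.ofSpMap a).obj f ≅ π.obj ξ :=
    ⟨⟨eqToHom (π.w_obj ξ).symm, h⟩, ⟨eqToHom (π.w_obj ξ), h'⟩,
      Stk.EltObj.hom_ext ((eqToHom_trans (π.w_obj ξ).symm (π.w_obj ξ)).trans (eqToHom_refl _ _)),
      Stk.EltObj.hom_ext ((eqToHom_trans (π.w_obj ξ) (π.w_obj ξ).symm).trans (eqToHom_refl _ _))⟩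
  refine ⟨⟨{ fst := f, snd := ξ, iso := i }, IsHomLift.of_fac' _ _ _ rfl (π.w_obj ξ) (by simp; rfl)⟩,
    rfl, rfl, ?_⟩
  change eqToHom _ ≫ bo _ α = _
  rfl

/-- Near every point of an affine etale chart the morphism lands in an affine open. -/
theorem GoodSetup.exists_affine_nbhd (G : GoodSetup π) (a : (yon S).obj T ⟶ M) [IsAffine T.left] (e : T.left) :
    ∃ (V : Z.left.Opens) (O : T.left.Opens), IsAffineOpen V ∧ e ∈ O ∧
      ∀ (ξ : 𝒳.obj) (α : π.obj ξ ⟶ etaT a) (x : StMod.sch 𝒳 ξ),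
        (bo _ α).left x ∈ O → (psiHom ψ ξ).left x ∈ V := by
  have h𝒵 := isAlgStack_fibre a G
  let G₁ := GoodSetup.fibre G a
  have hT := isAlgStack_ofSp ⟨(yon S).obj T, AlgSp.IsAlgSpace.yon_obj T⟩
  let Φ := BasedFunctor.comp (FibCat.fpSnd (AlgSt.ofSpMap a) π) ψ
  let Ψ : AlgSt.Points (FibCat.fp (AlgSt.ofSpMap a) π) → Z.left := fun q =>
    chartPoint (AlgSt.Points.map (AlgSt.toOverCat Z) (AlgSt.Points.map Φ q))
  have hΨ : Continuous Ψ := continuous_chartPoint.comp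
    ((continuous_points_map (isAlgStack_overCat Z) (AlgSt.toOverCat Z)).comp
      (continuous_points_map (isAlgStack_ofSp ⟨(yon S).obj Z, AlgSp.IsAlgSpace.yon_obj Z⟩) Φ))
  let C : Z.left.affineOpens → Set (AlgSt.Points (FibCat.fp (AlgSt.ofSpMap a) π)) := fun V =>
    Ψ ⁻¹' (V.1 : Set Z.left)ᶜ
  have hC : ∀ V, IsClosed (C V) := fun V => (V.1.isOpen.isClosed_compl).preimage hΨ
  suffices ∃ V, e ∉ tImg π a '' C V by
    obtain ⟨V, hV⟩ := this
    refine ⟨V.1, ⟨(tImg π a '' C V)ᶜ, (G.isClosed_image a (hC V)).isOpen_compl⟩, V.2, hV, fun ξ α x hx => ?_⟩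
    obtain ⟨o, he, hb, ho⟩ := exists_fibObj a α
    subst he
    by_contra hVx
    obtain ⟨r, χ, hχ⟩ := exists_pt h𝒵.isStack.1 o ((eqToHom hb.symm).left x)
    refine hx ⟨AlgSt.Points.mk r, ?_, ?_⟩
    · change Ψ _ ∉ (V.1 : Set Z.left)
      intro hin
      refine hVx (cast (congrArg (· ∈ V.1) ?_) hin)
      change chartPoint _ = _
      rw [chartPoint_map_mk]
      have h1 : eqToHom r.lies.symm ≫ psiHom Φ r.obj =
          (eqToHom r.lies.symm ≫ (FibCat.fp (AlgSt.ofSpMap a) π).p.map χ) ≫ psiHom Φ o := by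
        rw [Category.assoc, map_psiHom]
      have h2 : psiHom Φ o = eqToHom hb ≫ psiHom ψ o.obj.snd := by
        rw [psiHom_eq, psiHom_eq]
        exact (eqToHom_trans_assoc _ _ _).symm
      rw [h1, h2, Over.comp_left, Over.comp_left]
      change (psiHom ψ o.obj.snd).left ((eqToHom hb).left (imPt χ)) = _
      rw [hχ]
      exact congrArg (psiHom ψ o.obj.snd).left
        (congr($(congrArg CommaMorphism.left (eqToHom_trans hb.symm hb)) x))
    · rw [tImg_mk]
      have h1 : eqToHom r.lies.symm ≫ StMod.baseOver _ r.obj (toSelf ((FibCat.fpFst (AlgSt.ofSpMap a) π).obj r.obj)) =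
          (eqToHom r.lies.symm ≫ (FibCat.fp (AlgSt.ofSpMap a) π).p.map χ) ≫
            eqToHom hb ≫ bo a α := by
        rw [Category.assoc, ← ho, StMod.map_comp_baseOver]
        exact congrArg (fun t => eqToHom r.lies.symm ≫ StMod.baseOver (FibCat.fpFst (AlgSt.ofSpMap a) π) r.obj t)
          (toSelf_unique _).symm
      rw [h1, Over.comp_left, Over.comp_left]
      change (bo a α).left ((eqToHom hb).left (imPt χ)) = _
      rw [hχ]
      exact congrArg (bo a α).left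
        (congr($(congrArg CommaMorphism.left (eqToHom_trans hb.symm hb)) x))
  by_contra hall
  push Not at hall
  let T' : Over S := Over.mk (T.left.fromSpecResidueField e ≫ T.hom)
  let h : T' ⟶ T := Over.homMk (T.left.fromSpecResidueField e) rfl
  haveI : IsAffine T'.left := inferInstanceAs (IsAffine (Spec _))
  haveI : Subsingleton T'.left := inferInstanceAs (Subsingleton (PrimeSpectrum (T.left.residueField e)))
  let y' : (yon S).obj T' ⟶ (yon S).obj T := (yon S).map h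
  let π' := FibCat.fpFst (AlgSt.ofSpMap a) π
  let sd := FibCat.fpSnd (AlgSt.ofSpMap y') π'
  have hT' := isAlgStack_ofSp ⟨(yon S).obj T', AlgSp.IsAlgSpace.yon_obj T'⟩
  have hP := isAlgStack_fibre y' G₁
  haveI : Subsingleton (AlgSt.Points (AlgSt.ofSch T')) := (bij_toOverCat (T := T')).1.subsingleton
  haveI : CompactSpace (AlgSt.Points (FibCat.fp (AlgSt.ofSpMap y') π')) :=
    compactSpace_points hP (G₁.hqc _ hT' (isQuasiCompact_of_compactSpace hT' inferInstance) (AlgSt.ofSpMap y'))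
  have hmeet : ∀ C' : Set (AlgSt.Points (FibCat.fp (AlgSt.ofSpMap a) π)), e ∈ tImg π a '' C' →
      (AlgSt.Points.map sd ⁻¹' C').Nonempty := by
    rintro C' ⟨w, hw, hwe⟩
    obtain ⟨q₀, hq₀⟩ := (bij_toOverCat (T := T')).2 (IsLocalRing.closedPoint (T.left.residueField e))
    have heq : AlgSt.Points.map (AlgSt.ofSpMap y') q₀ = AlgSt.Points.map π' w := by
      refine bij_toOverCat.1 ?_
      refine Eq.trans ?_ hwe.symm
      rw [show e = h.left (IsLocalRing.closedPoint (T.left.residueField e)) from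
        (Scheme.fromSpecResidueField_apply e _).symm, ← hq₀, ← chartPoint_overMap]
      dsimp only
      rw [← points_map_comp, ← points_map_comp (AlgSt.toOverCat T')]
      rfl
    obtain ⟨w', -, hw'⟩ := exists_points_fp hT'.isStack.1 G₁.h𝒳.isStack.1 hT.isStack.1
      (F := AlgSt.ofSpMap y') (G := π') heq
    exact ⟨w', show _ ∈ C' from hw'.symm ▸ hw⟩
  have hpair : ∀ C₁ C₂ : Set (AlgSt.Points (FibCat.fp (AlgSt.ofSpMap y') π')), IsClosed C₁ → IsClosed C₂ →
      C₁.Nonempty → C₂.Nonempty → (C₁ ∩ C₂).Nonempty := by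
    rintro C₁ C₂ h₁ h₂ ⟨w₁, hw₁⟩ ⟨w₂, hw₂⟩
    by_contra hd
    obtain ⟨r, r₁, r₂⟩ := exists_separating_fibre y' G₁ C₁ C₂ h₁ h₂
      (Set.disjoint_iff_inter_eq_empty.2 (Set.not_nonempty_iff_eq_empty.1 hd))
    rcases mem_basicOpen_or r (tImg π' y' w₁) with hr | hr
    · exact r₁ w₁ hw₁ hr
    · exact r₂ w₂ hw₂ (Subsingleton.elim (tImg π' y' w₁) (tImg π' y' w₂) ▸ hr)
  have hcl : ∀ V, IsClosed (AlgSt.Points.map sd ⁻¹' C V) := fun V =>
    (hC V).preimage (continuous_points_map h𝒵 sd)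
  classical
  have hfin : ∀ F : Finset Z.left.affineOpens,
      IsClosed (⋂ V ∈ F, AlgSt.Points.map sd ⁻¹' C V) ∧ (⋂ V ∈ F, AlgSt.Points.map sd ⁻¹' C V).Nonempty := by
    intro F
    induction F using Finset.induction_on with
    | empty =>
      obtain ⟨w, -⟩ : (AlgSt.Points.map sd ⁻¹' Set.univ).Nonempty := hmeet Set.univ
        (by rw [Set.image_univ, (G.surjective_tImg a).range_eq]; trivial)
      simp only [Finset.notMem_empty, Set.iInter_of_empty, Set.iInter_univ]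
      exact ⟨isClosed_univ, ⟨w, trivial⟩⟩
    | insert V F _ ih =>
      simp only [Finset.set_biInter_insert]
      exact ⟨(hcl V).inter ih.1, hpair _ _ (hcl V) ih.1 (hmeet _ (hall V)) ih.2⟩
  obtain ⟨w, hw⟩ : (⋂ V, AlgSt.Points.map sd ⁻¹' C V).Nonempty := by
    by_contra hne
    obtain ⟨F, hF⟩ := isCompact_univ.elim_finite_subfamily_closed _ hcl
      (by rw [Set.univ_inter]; exact Set.not_nonempty_iff_eq_empty.1 hne)
    rw [Set.univ_inter] at hF
    exact (hfin F).2.ne_empty hF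
  obtain ⟨(V : Z.left.Opens), (hV : IsAffineOpen V), hm, -⟩ :=
    TopologicalSpace.Opens.isBasis_iff_nbhd.mp Z.left.isBasis_affineOpens
      (TopologicalSpace.Opens.mem_top (Ψ (AlgSt.Points.map sd w)))
  exact Set.mem_iInter.1 hw ⟨V, hV⟩ hm

/-- On an affine etale chart a morphism into an affine open factors. -/
theorem GoodSetup.exists_factor_affine (G : GoodSetup π) (E : AlgSp.EtOver M) (hE : IsAffine E.obj.left.left)
    {V : Z.left.Opens} (hV : IsAffineOpen V)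
    (hr : ∀ (ξ : 𝒳.obj) (α : π.obj ξ ⟶ etaT E.obj.hom) (x : StMod.sch 𝒳 ξ), (psiHom ψ ξ).left x ∈ V) :
    ∃ h : E.obj.left ⟶ Z, ∀ (ξ : 𝒳.obj) (α : π.obj ξ ⟶ etaT E.obj.hom),
      bo _ α ≫ h = psiHom ψ ξ := by
  haveI := hE
  haveI : IsAffine V.toScheme := hV
  let g : ∀ (ξ : 𝒳.obj), (π.obj ξ ⟶ etaT E.obj.hom) → (StMod.sch 𝒳 ξ ⟶ V.toScheme) := fun ξ α =>
    IsOpenImmersion.lift V.ι (psiHom ψ ξ).left (by
      rw [Scheme.Opens.range_ι]
      rintro _ ⟨x, rfl⟩
      exact hr ξ α x)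
  have hg : ∀ ξ α, g ξ α ≫ V.ι = (psiHom ψ ξ).left := fun ξ α => IsOpenImmersion.lift_fac _ _ _
  have hgn : ∀ {ξ' ξ : 𝒳.obj} (φ : ξ' ⟶ ξ) (α : π.obj ξ ⟶ etaT E.obj.hom),
      StMod.bmap 𝒳 φ ≫ g ξ α = g ξ' (π.map φ ≫ α) := fun {ξ' ξ} φ α => by
    rw [← cancel_mono V.ι, Category.assoc, hg ξ α, hg ξ' (π.map φ ≫ α), ← map_psiHom ψ φ]
    rfl
  have hex : ∀ r : Γ(V.toScheme, ⊤), ∃ c : Γ(E.obj.left.left, ⊤), ∀ ξ α,
      (bo _ α).left.appTop c = (g ξ α).appTop r := fun r => by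
    obtain ⟨c, hc⟩ := (G.unit E).2 ⟨fun ξ α => (g ξ α).appTop r, fun ξ' ξ φ α => by
      rw [StMod.O_mapTop]
      change (StMod.bmap 𝒳 φ).appTop ((g ξ α).appTop r) = (g ξ' (π.map φ ≫ α)).appTop r
      rw [← hgn φ α, Scheme.Hom.comp_appTop]
      rfl⟩
    exact ⟨c, fun ξ α => congrArg
      (fun n : StMod.Mod.RelSect π (StMod.O 𝒳) (StMod.etaOf E) => n.1 ξ α) hc⟩
  choose c hc using hex
  have hu : ∀ (x y : Γ(E.obj.left.left, ⊤)), (∀ ξ (α : π.obj ξ ⟶ etaT E.obj.hom),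
      (bo _ α).left.appTop x = (bo _ α).left.appTop y) → x = y :=
    fun x y e => (G.unit E).1 (StMod.Mod.RelSect.ext _ _ _ e)
  let f : Γ(V.toScheme, ⊤) →+* Γ(E.obj.left.left, ⊤) :=
    { toFun := c
      map_one' := hu _ _ fun ξ α => by rw [hc, map_one, map_one]
      map_mul' := fun x y => hu _ _ fun ξ α => by rw [hc, map_mul, map_mul, hc, hc]
      map_zero' := hu _ _ fun ξ α => by rw [hc, map_zero, map_zero]
      map_add' := fun x y => hu _ _ fun ξ α => by rw [hc, map_add, map_add, hc, hc] }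
  let h₀ : E.obj.left.left ⟶ V.toScheme :=
    E.obj.left.left.isoSpec.hom ≫ Spec.map (CommRingCat.ofHom f) ≫ V.toScheme.isoSpec.inv
  have h0 : ∀ ξ α, (bo _ α).left ≫ h₀ = g ξ α := fun ξ α => by
    rw [← cancel_mono V.toScheme.isoSpec.hom]
    simp only [h₀, Category.assoc, Iso.inv_hom_id, Category.comp_id]
    rw [Scheme.isoSpec_hom, Scheme.isoSpec_hom, Scheme.toSpecΓ_naturality_assoc, Scheme.toSpecΓ_naturality]
    refine congrArg ((StMod.sch 𝒳 ξ).toSpecΓ ≫ ·) ?_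
    exact (Spec.map_comp _ _).symm.trans
      (congrArg Spec.map (CommRingCat.hom_ext (RingHom.ext fun r => hc r ξ α)))
  refine ⟨Over.homMk (h₀ ≫ V.ι) (G.ext_of_baseOver E _ _ fun ξ α => ?_), fun ξ α => Over.OverMorphism.ext ?_⟩
  · rw [← Category.assoc, ← Category.assoc, h0 ξ α, hg ξ α]
    exact (Over.w (psiHom ψ ξ)).trans (Over.w (bo _ α)).symm
  · change (bo _ α).left ≫ h₀ ≫ V.ι = _
    rw [← Category.assoc, h0 ξ α, hg ξ α]

/-- On any etale chart the morphism factors. -/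
theorem GoodSetup.exists_factor (G : GoodSetup π) (E : AlgSp.EtOver M) :
    ∃ h : E.obj.left ⟶ Z, ∀ (ξ : 𝒳.obj) (α : π.obj ξ ⟶ etaT E.obj.hom),
      bo _ α ≫ h = psiHom ψ ξ := by
  let U := E.obj.left
  have hloc : ∀ e : U.left, ∃ O : U.left.Opens, e ∈ O ∧ ∃ h : openObj O ⟶ Z,
      ∀ (ξ : 𝒳.obj) (α : π.obj ξ ⟶ etaT ((yon S).map (openHom O) ≫ E.obj.hom)),
        bo _ α ≫ h = psiHom ψ ξ := by
    intro e
    obtain ⟨(A : U.left.Opens), (hA : IsAffineOpen A), hmem, -⟩ :=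
      TopologicalSpace.Opens.isBasis_iff_nbhd.mp U.left.isBasis_affineOpens (TopologicalSpace.Opens.mem_top e)
    haveI : IsAffine (openObj A).left := hA
    obtain ⟨V, W, hV, hW, hVW⟩ := G.exists_affine_nbhd ψ ((yon S).map (openHom A) ≫ E.obj.hom)
      (⟨e, hmem⟩ : (openObj A).left)
    obtain ⟨(O : U.left.Opens), (hO : IsAffineOpen O), hOe, hle⟩ :=
      TopologicalSpace.Opens.isBasis_iff_nbhd.mp U.left.isBasis_affineOpens
        (show e ∈ A.ι ''ᵁ W from ⟨⟨e, hmem⟩, hW, rfl⟩)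
    refine ⟨O, hOe, ?_⟩
    refine G.exists_factor_affine ψ (restrictChart E (openHom O) (etale_openHom O)) hO hV fun ξ α x => ?_
    have hOA : O ≤ A := hle.trans (fun z hz => by obtain ⟨z', -, rfl⟩ := hz; exact z'.2)
    let i : openObj O ⟶ openObj A := Over.homMk (U.left.homOfLE hOA) (by simp)
    have hi : i ≫ openHom A = openHom O := Over.OverMorphism.ext (Scheme.homOfLE_ι _ hOA)
    obtain ⟨α', hα'⟩ := exists_arrow ((yon S).map (openHom A) ≫ E.obj.hom) (bo _ α ≫ i) (by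
      rw [← Category.assoc, ← Functor.map_comp, Category.assoc, hi, Functor.map_comp, Category.assoc]
      exact (secMor_eq_of_arrow _ α).symm)
    refine hVW ξ α' x ?_
    rw [hα']
    obtain ⟨z, hz, hzx⟩ := hle ((bo _ α).left x).2
    have : z = (U.left.homOfLE hOA) ((bo _ α).left x) := Subtype.ext (hzx.trans (Scheme.homOfLE_apply (hOA) _).symm)
    exact this ▸ hz
  choose O hO h hh using hloc
  let 𝒰 := U.left.openCoverOfIsOpenCover O (eq_top_iff.2 fun e _ => TopologicalSpace.Opens.mem_iSup.2 ⟨e, hO e⟩)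
  have hcompat : ∀ x y, pullback.fst (𝒰.f x) (𝒰.f y) ≫ (h x).left = pullback.snd (𝒰.f x) (𝒰.f y) ≫ (h y).left := by
    intro x y
    let P : Over S := Over.mk (pullback.fst (𝒰.f x) (𝒰.f y) ≫ 𝒰.f x ≫ U.hom)
    let jp : P ⟶ U := Over.homMk (pullback.fst (𝒰.f x) (𝒰.f y) ≫ 𝒰.f x) (Category.assoc _ _ _)
    let px : P ⟶ openObj (O x) := Over.homMk (pullback.fst (𝒰.f x) (𝒰.f y)) rfl
    let py : P ⟶ openObj (O y) := Over.homMk (pullback.snd (𝒰.f x) (𝒰.f y))
      ((pullback.condition_assoc (U.hom)).symm)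
    haveI : IsOpenImmersion jp.left :=
      inferInstanceAs (IsOpenImmersion (pullback.fst (𝒰.f x) (𝒰.f y) ≫ 𝒰.f x))
    refine G.ext_of_baseOver (restrictChart E jp (inferInstanceAs (Etale (pullback.fst (𝒰.f x) (𝒰.f y) ≫ 𝒰.f x)))) _ _ fun ξ α => ?_
    obtain ⟨αx, hx⟩ := exists_arrow ((yon S).map (openHom (O x)) ≫ E.obj.hom) (bo _ α ≫ px) (by
      rw [← Category.assoc, ← Functor.map_comp, Category.assoc,
        show px ≫ openHom (O x) = jp from Over.OverMorphism.ext rfl, Functor.map_comp, Category.assoc]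
      exact (secMor_eq_of_arrow _ α).symm)
    obtain ⟨αy, hy⟩ := exists_arrow ((yon S).map (openHom (O y)) ≫ E.obj.hom) (bo _ α ≫ py) (by
      rw [← Category.assoc, ← Functor.map_comp, Category.assoc,
        show py ≫ openHom (O y) = jp from Over.OverMorphism.ext pullback.condition.symm, Functor.map_comp,
        Category.assoc]
      exact (secMor_eq_of_arrow _ α).symm)
    have hx' := hh x ξ αx
    have hy' := hh y ξ αy
    rw [hx, Category.assoc] at hx'
    rw [hy, Category.assoc] at hy'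
    exact congrArg CommaMorphism.left (hx'.trans hy'.symm)
  let k := 𝒰.glueMorphisms (fun x => (h x).left) hcompat
  refine ⟨Over.homMk k (𝒰.hom_ext _ _ fun x => ?_), fun ξ α => ?_⟩
  · rw [Scheme.Cover.ι_glueMorphisms_assoc]
    exact Over.w (h x)
  · refine Over.OverMorphism.ext (Scheme.Cover.hom_ext
      ((𝒳.p.obj ξ).left.openCoverOfIsOpenCover (fun x => (bo _ α).left ⁻¹ᵁ O x)
        (eq_top_iff.2 fun z _ => TopologicalSpace.Opens.mem_iSup.2 ⟨_, hO _⟩)) _ _ fun x => ?_)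
    let W : (𝒳.p.obj ξ).left.Opens := (bo _ α).left ⁻¹ᵁ O x
    let q : openObj W ⟶ openObj (O x) := Over.homMk ((bo _ α).left.resLE (O x) W le_rfl) (by
      simp [Scheme.Hom.resLE_comp_ι_assoc]
      exact congrArg (W.ι ≫ ·) (Over.w (bo _ α)))
    obtain ⟨ξ', φ, hφ⟩ := G.h𝒳.isStack.1.exists_lift (x := ξ) (openHom W)
    have hd : 𝒳.p.obj ξ' = openObj W := IsHomLift.domain_eq 𝒳.p (openHom W) φ
    have hmap : 𝒳.p.map φ = eqToHom hd ≫ openHom W := by
      have e := IsHomLift.fac' 𝒳.p (openHom W) φ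
      simpa using e
    obtain ⟨α', hα'⟩ := exists_arrow ((yon S).map (openHom (O x)) ≫ E.obj.hom) (ξ := ξ') (eqToHom hd ≫ q) (by
      rw [← H14LocalCat.secMor_natural π φ, secMor_eq_of_arrow _ α, ← Category.assoc, ← Category.assoc,
        ← Functor.map_comp, ← Functor.map_comp, Category.assoc, hmap, Category.assoc]
      exact congrArg (fun t => (yon S).map (eqToHom hd ≫ t) ≫ E.obj.hom)
        (Over.OverMorphism.ext (Scheme.Hom.resLE_comp_ι _ _)))
    have h' := hh x ξ' α'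
    rw [hα', ← map_psiHom ψ φ, hmap, Category.assoc, Category.assoc, cancel_epi] at h'
    have h'' := congrArg CommaMorphism.left h'
    change W.ι ≫ (bo _ α).left ≫ k = W.ι ≫ (psiHom ψ ξ).left
    rw [← Scheme.Hom.resLE_comp_ι_assoc (bo _ α).left le_rfl,
      show (O x).ι ≫ k = (h x).left from Scheme.Cover.ι_glueMorphisms 𝒰 _ hcompat x]
    exact h''

/-- A good moduli space is universal for morphisms to schemes. -/
theorem GoodSetup.existsUnique_factor (G : GoodSetup π) :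
    ∃! g : M ⟶ (yon S).obj Z, BasedFunctor.comp π (AlgSt.ofSpMap g) = ψ := by
  obtain ⟨U, p, hp, hps⟩ := G.hM.atlas
  let E : AlgSp.EtOver M := ⟨CostructuredArrow.mk p, hp⟩
  obtain ⟨h, hh⟩ := G.exists_factor ψ E
  replace hh : ∀ (ξ : 𝒳.obj) (α : π.obj ξ ⟶ etaT p), bo p α ≫ h = psiHom ψ ξ := hh
  obtain ⟨R, s, t, hs, ht, sq⟩ := H12AlgSp.exists_kernelPair hp
  have hst : t ≫ h = s ≫ h := by
    refine Over.OverMorphism.ext (G.ext_of_baseOver (restrictChart E s hs) _ _ fun ξ α => ?_)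
    have hcomp := (secMor_eq_of_arrow _ α).symm
    obtain ⟨αs, hαs⟩ := exists_arrow p (bo _ α ≫ s) (by
      rw [Functor.map_comp, Category.assoc]; exact hcomp)
    obtain ⟨αt, hαt⟩ := exists_arrow p (bo _ α ≫ t) (by
      rw [Functor.map_comp, Category.assoc, sq.w]; exact hcomp)
    have h1 := hh ξ αs
    have h2 := hh ξ αt
    rw [hαs, Category.assoc] at h1
    rw [hαt, Category.assoc] at h2
    exact congrArg CommaMorphism.left (h2.trans h1.symm)
  obtain ⟨hcol⟩ := H12AlgSp.nonempty_isColimit_of_atlas hp hps sq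
  obtain ⟨g, hg⟩ := Cofork.IsColimit.desc' hcol ((yon S).map h)
    (by rw [← Functor.map_comp, ← Functor.map_comp, hst])
  replace hg : p ≫ g = (yon S).map h := hg
  haveI := H12AlgSp.epi_of_etale_surjective hp hps
  refine ⟨g, ?_, fun g' hg' => ?_⟩
  · obtain ⟨i⟩ := H14LocalCat.nonempty_iso (φ := BasedFunctor.comp π (AlgSt.ofSpMap g)) (ψ := ψ) fun ξ => by
      rw [H14LocalCat.secMor_ofSpMap, ← yon_map_psiHom]
      obtain ⟨W, w, k', sqW⟩ := hp.rep (H14LocalCat.secMor π ξ)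
      obtain ⟨k, rfl⟩ := (yon S).map_surjective k'
      have hwe : RepWith @Etale ((yon S).map w) :=
        (AlgSp.repWith_yon_map_iff _ w).2 (hp.property _ _ w sqW)
      have hws : RepWith @Surjective ((yon S).map w) :=
        (AlgSp.repWith_yon_map_iff _ w).2 (hps.property _ _ w sqW)
      haveI := H12AlgSp.epi_of_etale_surjective hwe hws
      rw [← cancel_epi ((yon S).map w), ← Category.assoc, ← sqW.w, Category.assoc, hg, ← Functor.map_comp,
        ← Functor.map_comp]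
      refine congrArg (yon S).map ?_
      obtain ⟨ξ', φ, hφ⟩ := G.h𝒳.isStack.1.exists_lift (x := ξ) w
      have hd : 𝒳.p.obj ξ' = W := IsHomLift.domain_eq 𝒳.p w φ
      have hmap : 𝒳.p.map φ = eqToHom hd ≫ w := by
        have e := IsHomLift.fac' 𝒳.p w φ
        simpa using e
      obtain ⟨α, hα⟩ := exists_arrow p (ξ := ξ') (eqToHom hd ≫ k) (by
        rw [← H14LocalCat.secMor_natural π φ, hmap, Functor.map_comp, Functor.map_comp, Category.assoc,
          Category.assoc, sqW.w])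
      have h1 := hh ξ' α
      rw [hα, ← map_psiHom ψ φ, hmap, Category.assoc, Category.assoc, cancel_epi] at h1
      exact h1
    exact H14Quot.eq_of_iso_ofSp i
  · obtain ⟨h', hh'⟩ := (yon S).map_surjective (p ≫ g')
    have key : ∀ (ξ : 𝒳.obj) (α : π.obj ξ ⟶ etaT E.obj.hom), bo _ α ≫ h' = psiHom ψ ξ := fun ξ α => by
      refine (yon S).map_injective ?_
      rw [Functor.map_comp, hh', ← Category.assoc, yon_map_psiHom, ← hg',
        H14LocalCat.secMor_ofSpMap, secMor_eq_of_arrow p α]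
      rfl
    have hu : h' = h := Over.OverMorphism.ext (G.ext_of_baseOver E _ _ fun ξ α =>
      congrArg CommaMorphism.left ((key ξ α).trans (hh ξ α).symm))
    rw [← cancel_epi p, hg, ← hh', hu]

end Groth.Agent.H14CohBC
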