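import Groth.Agent.H14CohBC.GoodClosedPoint
import Groth.Agent.H14CohBC.GoodUniversal
import Groth.Agent.H14Gerbe.Singleton
import Groth.Agent.H14AlgSt.LocQ5
import Groth.Agent.H14AlgSt.CoverCriterion
import Groth.Agent.S16870
import Groth.Agent.S10350
import Groth.Agent.S10356

/-!
# Lifting field-valued points of a good moduli space after a finite extension
-/

set_option autoImplicit false
set_option linter.style.haveILetI false
set_option backward.isDefEq.respectTransparency false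
set_option backward.isDefEq.respectTransparency.types false

universe u

open CategoryTheory CategoryTheory.Limits AlgebraicGeometry Opposite TopologicalSpace

noncomputable section

namespace Groth.Agent.H14CohBC

open H14Fib H14AlgSt H14Stk H14QCoh

variable {S : Scheme.{u}}

local notation "K₀" => Scheme.fppfPrecoverage

section Lift

variable {𝒵 : AlgSt.Cat S}

/-- A global function on a closed substack extends when sections are exact. -/
theorem exists_globFn_lift (h𝒵 : AlgSt.IsAlgStack K₀ 𝒵)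
    (hex : ∀ {F G : StMod.QCoh 𝒵} (v : F.obj ⟶ G.obj), StMod.Mod.IsSurj v →
      Function.Surjective (StMod.Mod.globSectMap v))
    {Q : 𝒵.obj → Prop} (hQc : AlgSt.IsClosedSubstack 𝒵 Q K₀)
    (eG : (StMod.OQ (AlgSt.fullSub 𝒵 Q)).obj.GlobSect) :
    ∃ T : (StMod.OQ 𝒵).obj.GlobSect, ∀ s : (AlgSt.fullSub 𝒵 Q).obj,
      IsAffine (StMod.sch 𝒵 s.obj) → T.1 s.obj = (eG.1 s : Fn 𝒵 s.obj) := by
  obtain ⟨hc, hQs, hcl⟩ := hQc
  have hX := h𝒵.isStack.1
  have hQ := hQs.isStack.1
  have haff : AlgSt.RepByAlgSpWith AlgSp.IsAffineMor (AlgSt.subIncl 𝒵 Q) := repWith_mono (fun _ _ f hf => by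
    refine H13AlgSp.isAffineMor_iff.2 ⟨hf.1, fun {W Z} g fst snd sq => ?_⟩
    haveI : IsClosedImmersion snd.left := hf.2 g fst snd sq
    exact (inferInstance : IsAffineHom snd.left)) hcl
  let R := affRepOf haff hQ hX
  let G := R.push (StMod.OQ (AlgSt.fullSub 𝒵 Q))
  let f : AffFam (StMod.OQ 𝒵) G := fun ξ _ =>
    { toFun := fun r => ((R.g ξ).appTop r : Fn (AlgSt.fullSub 𝒵 Q) (R.z ξ))
      map_add' := fun a b => map_add (R.g ξ).appTop.hom a b
      map_smul' := fun a b => map_mul (R.g ξ).appTop.hom a b }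
  obtain ⟨v, hv⟩ := H14QCoh.exists_hom hX f (fun ξ' ξ φ hξ' hξ r => by
    refine Eq.trans ?_ (R.sec_mapTop (StMod.OQ (AlgSt.fullSub 𝒵 Q)) φ _).symm
    exact (congr($(congrArg Scheme.Hom.appTop (R.g_bmap φ)) r)).symm)
  have hsurj : StMod.Mod.IsSurj v := fun ξ hξ => by
    haveI := hξ
    haveI := isClosedImmersion_e hX hc hcl R ξ
    haveI : IsClosedImmersion (R.g ξ) := inferInstanceAs (IsClosedImmersion (eqToHom _ ≫ StMod.bmap 𝒵 (R.e ξ)))
    intro y
    obtain ⟨r, hr⟩ := (IsClosedImmersion.isAffine_surjective_of_isAffine (R.g ξ)).2 y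
    exact ⟨r, (hv ξ hξ r).trans hr⟩
  obtain ⟨T, hT⟩ := hex v hsurj (pushGlob R eG)
  refine ⟨T, fun s hs => ?_⟩
  have h1 : ((R.g s.obj).appTop (T.1 s.obj) : Fn (AlgSt.fullSub 𝒵 Q) (R.z s.obj)) = eG.1 (R.z s.obj) :=
    (hv s.obj hs (T.1 s.obj)).symm.trans (congrArg (fun t : G.obj.GlobSect => t.1 s.obj) hT)
  have h2 : (StMod.bmap (AlgSt.fullSub 𝒵 Q) (R.sect s)).appTop ((R.g s.obj).appTop (T.1 s.obj)) = T.1 s.obj := by
    have h3 := congrArg Scheme.Hom.appTop (R.sect_g s)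
    refine (congr($(h3) (T.1 s.obj))).trans ?_
    rfl
  rw [← h2, h1]
  exact eG.2 (R.sect s)

/-- A reduced locally Noetherian stack with one point and quasi-compact diagonal maps by a morphism
locally of finite presentation to the spectrum of a field. -/
theorem exists_lfp_to_field (hZ : AlgSt.IsAlgStack K₀ 𝒵)
    (hred : AlgSt.SmoothLocally (fun T => IsReduced T) 𝒵)
    (hnoeth : AlgSt.SmoothLocally (fun T => IsLocallyNoetherian T) 𝒵)
    (hne : Nonempty (AlgSt.Points 𝒵)) (hsub : Subsingleton (AlgSt.Points 𝒵))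
    (hΔ : AlgSt.RepByAlgSpWith AlgSp.IsQuasiCompactMor (FibCat.diag (FibCat.toSelf 𝒵))) :
    ∃ (k : Type u) (_ : Field k) (str : Spec (CommRingCat.of k) ⟶ S)
      (ρ : 𝒵 ⥤ᵇ AlgSt.ofSch (Over.mk str)),
      AlgSt.LocQ (AlgSp.LocP @LocallyOfFinitePresentation) ρ := by
  obtain ⟨Z, π, hπ, hr, -, hn, hs⟩ := H14Gerbe.exists_gerbe_singleton hZ hred hnoeth hne hsub
  have hZs := isAlgStack_ofSp Z
  have hq : AlgSp.IsQuasiSeparatedSp Z.obj := by
    refine (isQuasiSeparatedSp_iff_toSelf Z).2 ?_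
    refine repWith_of_isQCMor hZs (isAlgStack_prod K₀ hZs hZs) (rep1_diag_of_algStack hZs isAlgStack_selfOver _) ?_
    exact S16870.result S 𝒵 (AlgSt.ofSp Z.obj) hZ hZs π hπ
      (isQCMor_of_repWith hZ (isAlgStack_prod K₀ hZ hZ) hΔ)
  obtain ⟨k, hk, str, ⟨i⟩⟩ := S10356.result Z (S10350.result Z hq) hr
  refine ⟨k, hk, str, BasedFunctor.comp π (AlgSt.ofSpMap i.inv), ?_⟩
  refine locQ_comp H12AlgSp.etLocal_lfp smLocal_lfp hZ hZs (isAlgStack_ofSp ⟨_, AlgSp.IsAlgSpace.yon_obj _⟩)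
    (H14Gerbe.locQ_lfp_gerbe hZ hZs hπ) ?_
  exact (locQ_ofSpMap_iff smLocal_lfp (F := Z) (G := ⟨_, AlgSp.IsAlgSpace.yon_obj _⟩) i.inv).2
    (H12AlgSp.locP_of_repWith H12AlgSp.etLocal_lfp (H12AlgSp.repWith_of_isIso i.inv))

end Lift

/-- A field extension with image in a field over which it is finite is finite. -/
lemma finite_of_range_le {k K L : Type u} [Field k] [Field K] [Field L] (j : k →+* L) (i : K →+* L)
    (hj : j.Finite) (h : ∀ a, ∃ r, i r = j a) : i.Finite := by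
  let := j.toAlgebra
  let := i.toAlgebra
  have : Module.Finite k L := hj
  obtain ⟨s, hs⟩ := (Module.Finite.fg_top : (⊤ : Submodule k L).FG)
  refine ⟨⟨s, eq_top_iff.2 fun x _ => ?_⟩⟩
  have hx : x ∈ Submodule.span k (s : Set L) := hs ▸ Submodule.mem_top
  clear * - h hx
  induction hx using Submodule.span_induction with
  | mem y hy => exact Submodule.subset_span hy
  | zero => exact zero_mem _
  | add y z _ _ hy hz => exact add_mem hy hz
  | smul a y _ hy =>
    obtain ⟨r, hr⟩ := h a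
    have : a • y = r • y := by
      change j a * y = i r * y
      rw [hr]
    rw [this]
    exact Submodule.smul_mem _ _ hy

lemma appTop_comp_left {X Y Z : Over S} (f : X ⟶ Y) (g : Y ⟶ Z) (r : Γ(Z.left, ⊤)) :
    (f ≫ g).left.appTop r = f.left.appTop (g.left.appTop r) := rfl

section Point

variable {𝒲 : AlgSt.Cat S}

/-- A stack with a morphism locally of finite type to a field has a finite point. -/
theorem exists_finite_obj (hW : AlgSt.IsAlgStack K₀ 𝒲) (hne : Nonempty (AlgSt.Points 𝒲)) {k : Type u}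
    [Field k] {str : Spec (CommRingCat.of k) ⟶ S} (ρ : 𝒲 ⥤ᵇ AlgSt.ofSch (Over.mk str))
    (hρ : AlgSt.LocQ (AlgSp.LocP @LocallyOfFiniteType) ρ) :
    ∃ (L : Type u) (_ : Field L) (strL : Spec (CommRingCat.of L) ⟶ S) (s : 𝒲.obj)
      (hs : 𝒲.p.obj s = Over.mk strL) (j : k →+* L), j.Finite ∧
        (eqToHom hs.symm ≫ psiHom ρ s).left = Spec.map (CommRingCat.ofHom j) := by
  let Z : Over S := Over.mk str
  have hZ := isAlgStack_ofSp (S := S) ⟨_, AlgSp.IsAlgSpace.yon_obj Z⟩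
  let y := AlgSt.ofOverCat Z
  have hy : AlgSt.RepByAlgSpWith (AlgSp.LocP @Smooth) y := by
    have hid : AlgSt.RepByAlgSpWith (AlgSp.LocP @Smooth) (BasedFunctor.id (AlgSt.ofSp ((AlgSp.yon S).obj Z))) := by
      have h := repWith_ofSpMap_of_representable (AlgSp.LocP @Smooth) (𝟙 ((AlgSp.yon S).obj Z))
        (AlgSp.representable_of_yon _) fun U V g fst v sq =>
        H12AlgSp.locP_of_isPullback H12AlgSp.etLocal_smooth sq (AlgSp.IsAlgSpace.yon_obj Z)
          (AlgSp.IsAlgSpace.yon_obj Z) (AlgSp.IsAlgSpace.yon_obj U)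
          (H12AlgSp.locP_of_repWith H12AlgSp.etLocal_smooth (AlgSp.repWith_id _ _))
      rwa [show AlgSt.ofSpMap (𝟙 ((AlgSp.yon S).obj Z)) = BasedFunctor.id _ from ofPshMap_id] at h
    exact (repWith_equiv_comp_iff (f := BasedFunctor.id (AlgSt.ofSp ((AlgSp.yon S).obj Z)))
      (ofOverCat_isEquivOver Z)).1 hid
  obtain ⟨A, a, h, ha, has, ⟨ja⟩⟩ := exists_atlas_fp hW hZ ρ y
  haveI : LocallyOfFiniteType h.left :=
    (locP_yon_iff H12AlgSp.etLocal_lft h).1 (prop_of_locQ smLocal_lft hρ hy a ha ja)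
  have hneF : Nonempty (AlgSt.Points (FibCat.fp ρ y)) := by
    obtain ⟨q⟩ := hne
    obtain ⟨v, hv⟩ : ∃ v, AlgSt.Points.map y v = AlgSt.Points.map ρ q :=
      (points_map_bijective (ofOverCat_isEquivOver Z)).2 _
    obtain ⟨w, -, -⟩ := exists_points_fp hW.isStack.1 (isAlgStack_overCat Z).isStack.1 hZ.isStack.1
      (F := ρ) (G := y) hv.symm
    exact ⟨w⟩
  haveI : Nonempty A.left := by
    obtain ⟨v, -⟩ := ofChart_surjective (fp_fibGrpd hW.isStack.1 (isAlgStack_overCat Z).isStack.1 hZ.isStack.1)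
      has hneF.some
    exact ⟨v⟩
  let f : A.left ⟶ Spec (CommRingCat.of k) := h.left
  haveI : LocallyOfFiniteType f := ‹LocallyOfFiniteType h.left›
  haveI : JacobsonSpace A.left := LocallyOfFiniteType.jacobsonSpace f
  obtain ⟨u, -, hu⟩ := nonempty_inter_closedPoints (X := A.left) (Z := Set.univ)
    ⟨Classical.arbitrary _, trivial⟩ isClosed_univ.isLocallyClosed
  have hu' : IsClosed ({u} : Set A.left) := hu
  haveI := isClosed_singleton_iff_isClosedImmersion.mp hu'
  have hfin : IsFinite (A.left.fromSpecResidueField u ≫ f) :=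
    isFinite_iff_locallyOfFiniteType_of_jacobsonSpace.mpr inferInstance
  let L := A.left.residueField u
  let strL : Spec (CommRingCat.of L) ⟶ S := A.left.fromSpecResidueField u ≫ A.hom
  let ι : Over.mk strL ⟶ A := Over.homMk (A.left.fromSpecResidueField u) rfl
  let x := BasedFunctor.comp a (FibCat.fpFst ρ y)
  let o : (FibCat.overCat A).obj := Over.mk ι
  let s : 𝒲.obj := x.obj o
  have hs : 𝒲.p.obj s = Over.mk strL := x.w_obj o
  let jh : BasedFunctor.comp x ρ ≅ BasedFunctor.comp (AlgSt.overMap h) y :=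
    (Stk.restr a _).mapIso (FibCat.fpIso ρ y) ≪≫ (post (FibCat.overCat A) y).mapIso ja
  have key : eqToHom hs.symm ≫ psiHom ρ s = ι ≫ h := by
    apply (AlgSp.yon S).map_injective
    rw [Functor.map_comp, yon_map_psiHom]
    refine ((H14LocalCat.secMor_comp x ρ o).symm.trans (H14LocalCat.secMor_eq_of_iso jh o)).trans ?_
    apply (AlgSp.J S).uliftYonedaEquiv.injective
    rw [H14LocalCat.secMor, Equiv.apply_symm_apply]
    refine ULift.ext _ _ ?_
    change eqToHom (rfl : Over.mk strL = Over.mk strL) ≫ (ι ≫ h) = 𝟙 (Over.mk strL) ≫ (ι ≫ h)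
    rw [eqToHom_refl]
  refine ⟨L, inferInstance, strL, s, hs, (Spec.preimage (ι ≫ h).left).hom, ?_, ?_⟩
  · refine (IsFinite.SpecMap_iff (Spec.preimage (ι ≫ h).left)).1 ?_
    rw [Spec.map_preimage]
    exact hfin
  · rw [key]
    exact (Spec.map_preimage _).symm

end Point

variable [QuasiSeparatedSpace S] {𝒳 : AlgSt.Cat S} {M : AlgSp.Sp S} {π : 𝒳 ⥤ᵇ AlgSt.ofSp M}

/-- A field-valued point, locally of finite type, of a good moduli space of a locally Noetherian
stack lifts after a finite extension. -/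
theorem GoodSetup.exists_lift_point (G : GoodSetup π)
    (hN : AlgSt.SmoothLocally (fun T => IsLocallyNoetherian T) 𝒳)
    {K : Type u} [Field K] (t : Spec (CommRingCat.of K) ⟶ S)
    (y : (AlgSp.yon S).obj (Over.mk t) ⟶ M) (hy : AlgSp.LocP @LocallyOfFiniteType y) :
    ∃ (K' : Type u) (_ : Field K') (i : K →+* K'), i.Finite ∧
      ∃ x : 𝒳.p.Fiber (Over.mk (Spec.map (CommRingCat.ofHom i) ≫ t)),
        AlgSt.fibSec π x =
          (AlgSp.J S).uliftYonedaEquiv
            ((AlgSp.yon S).map (Over.homMk (Spec.map (CommRingCat.ofHom i)) rfl :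
                Over.mk (Spec.map (CommRingCat.ofHom i) ≫ t) ⟶ Over.mk t) ≫ y) := by
  let T : Over S := Over.mk t
  haveI : IsAffine T.left := inferInstanceAs (IsAffine (Spec _))
  haveI : Nonempty T.left := ⟨IsLocalRing.closedPoint K⟩
  haveI : CompactSpace T.left := inferInstanceAs (CompactSpace (PrimeSpectrum K))
  let π' := FibCat.fpFst (AlgSt.ofSpMap y) π
  let sd := FibCat.fpSnd (AlgSt.ofSpMap y) π
  have h𝒵 := isAlgStack_fibre y G
  have hT := isAlgStack_ofSp (S := S) ⟨_, AlgSp.IsAlgSpace.yon_obj T⟩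
  have hM' := isAlgStack_ofSp ⟨M, G.hM⟩
  haveI := nonempty_points_fibre y G
  have G' := GoodSetup.fibre G y
  have hNZ : AlgSt.SmoothLocally (fun T => IsLocallyNoetherian T) (FibCat.fp (AlgSt.ofSpMap y) π) :=
    noetherian_of_locQ h𝒵 G.h𝒳 (j := sd) (locQ_of_repWith smLocal_lft h𝒵 G.h𝒳 (repWith_fpSnd π
      (repWith_ofSpMap_of_representable _ y (G.hM.representable_from_yon y) fun U V g fst v sq =>
        H12AlgSp.locP_of_isPullback H12AlgSp.etLocal_lft sq (AlgSp.IsAlgSpace.yon_obj T) G.hM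
          (AlgSp.IsAlgSpace.yon_obj U) hy))) hN
  have hTc : AlgSt.IsQuasiCompact (AlgSt.ofSp ((AlgSp.yon S).obj T)) :=
    (isQuasiCompact_ofSp_iff ⟨_, AlgSp.IsAlgSpace.yon_obj T⟩).2 (H12AlgSp.isQuasiCompactSp_yon_iff.2 inferInstance)
  have hΔ := repWith_qc_diag_of_mor h𝒵 hT G'.hqs (repWith_qc_diag_affine T)
  obtain ⟨ξ, hξ⟩ := exists_isClosed_point h𝒵 (isQuasiCompact_source h𝒵 hT G'.hqc hTc) hΔ
  obtain ⟨Q, hQc, hrange, hred⟩ := exists_reduced_substack h𝒵 {ξ} hξ
  let 𝒲 := AlgSt.fullSub (FibCat.fp (AlgSt.ofSpMap y) π) Q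
  let ι := AlgSt.subIncl (FibCat.fp (AlgSt.ofSpMap y) π) Q
  have hW : AlgSt.IsAlgStack K₀ 𝒲 := hQc.2.1
  have hι : AlgSt.IsImm ι := repWith_mono (fun _ _ _ h => H12AlgSp.repWith_le
    (fun _ _ g (_ : IsClosedImmersion g) => (inferInstance : IsImmersion g)) h) hQc.2.2
  have hne : Nonempty (AlgSt.Points 𝒲) := let ⟨w, _⟩ := hrange.ge (Set.mem_singleton ξ); ⟨w⟩
  haveI : ι.toFunctor.Full := inferInstanceAs (ObjectProperty.ι Q).Full
  have hinj : Function.Injective (AlgSt.Points.map ι) :=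
    points_map_injective_of_ff hW.isStack.1 h𝒵.isStack.1 ι
  have hsub : Subsingleton (AlgSt.Points 𝒲) := ⟨fun a b => hinj (by
    have ha : AlgSt.Points.map ι a ∈ ({ξ} : Set _) := hrange ▸ Set.mem_range_self a
    have hb : AlgSt.Points.map ι b ∈ ({ξ} : Set _) := hrange ▸ Set.mem_range_self b
    rw [Set.mem_singleton_iff.1 ha, Set.mem_singleton_iff.1 hb])⟩
  have hΔW : AlgSt.RepByAlgSpWith AlgSp.IsQuasiCompactMor (FibCat.diag (FibCat.toSelf 𝒲)) :=
    repWith_qc_diag_of_mor hW h𝒵 (f := ι) (qs_of_isImm hι) hΔ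
  obtain ⟨k, _, str, ρ, hρ⟩ := exists_lfp_to_field hW hred (noetherian_of_isImm hW h𝒵 hι hNZ) hne hsub hΔW
  obtain ⟨L, _, strL, s, hs, j, hj, hjs⟩ := exists_finite_obj hW hne ρ
    (let ⟨U, V, x, y, h, e, h₁, h₂, h₃, h₄⟩ := hρ
     ⟨U, V, x, y, h, e, h₁, h₂, h₃, H12AlgSp.locP_mono (fun _ _ f (_ : LocallyOfFinitePresentation f) =>
      (inferInstance : LocallyOfFiniteType f)) h₄⟩)
  let qK : Over.mk strL ⟶ T := eqToHom hs.symm ≫ psiHom π' s.obj
  let i : K →+* L := (Spec.preimage qK.left).hom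
  have hi : Spec.map (CommRingCat.ofHom i) = qK.left := Spec.map_preimage qK.left
  have hrange' : ∀ a : k, ∃ r : K, i r = j a := by
    intro a
    let eG : (StMod.OQ 𝒲).obj.GlobSect := ⟨fun z => ((psiHom ρ z).left.appTop
        ((Scheme.ΓSpecIso (CommRingCat.of k)).inv a) : Fn 𝒲 z), fun z' z φ => by
      change (StMod.bmap 𝒲 φ).appTop ((psiHom ρ z).left.appTop _) = _
      have hh := congrArg (fun e => e.left.appTop ((Scheme.ΓSpecIso (CommRingCat.of k)).inv a)) (map_psiHom ρ φ)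
      exact hh⟩
    obtain ⟨F, hF⟩ := exists_globFn_lift h𝒵 (fun v hv => surjective_globSectMap_fibre y G v hv) hQc eG
    obtain ⟨r, hr⟩ := exists_globFn_fibre y G F
    have haff : IsAffine (StMod.sch (FibCat.fp (AlgSt.ofSpMap y) π) s.obj) := by
      change IsAffine (𝒲.p.obj s).left
      rw [hs]
      exact inferInstanceAs (IsAffine (Spec _))
    have h1 : (psiHom π' s.obj).left.appTop r = (psiHom ρ s).left.appTop ((Scheme.ΓSpecIso (CommRingCat.of k)).inv a) := by
      refine Eq.trans ?_ ((hr s.obj).symm.trans (hF s haff))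
      rfl
    have h2 := congrArg (fun e => (eqToHom hs.symm).left.appTop e) h1
    refine ⟨(Scheme.ΓSpecIso (CommRingCat.of K)).hom r, ?_⟩
    have n1 := congr($(Scheme.ΓSpecIso_inv_naturality (CommRingCat.ofHom i)) ((Scheme.ΓSpecIso (CommRingCat.of K)).hom r))
    have n2 := congr($(Scheme.ΓSpecIso_inv_naturality (CommRingCat.ofHom j)) a)
    simp only [CommRingCat.comp_apply, Iso.hom_inv_id_apply] at n1
    simp only [CommRingCat.comp_apply] at n2
    apply (Scheme.ΓSpecIso (CommRingCat.of L)).commRingCatIsoToRingEquiv.symm.injective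
    refine n1.trans (Eq.trans ?_ n2.symm)
    rw [hi, ← hjs]
    refine (appTop_comp_left (eqToHom hs.symm) (psiHom π' s.obj) _).trans (Eq.trans ?_
      (h2.trans (appTop_comp_left (eqToHom hs.symm) (psiHom ρ s) _).symm))
    exact congrArg (fun v => (eqToHom hs.symm).left.appTop ((psiHom π' s.obj).left.appTop v))
      ((Scheme.ΓSpecIso (CommRingCat.of K)).commRingCatIsoToRingEquiv.symm_apply_apply r)
  refine ⟨L, inferInstance, i, finite_of_range_le j i hj hrange', ?_⟩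
  have hb : (Over.mk strL : Over S) = Over.mk (Spec.map (CommRingCat.ofHom i) ≫ t) := by
    rw [hi]
    exact congrArg Over.mk (Over.w qK).symm
  refine ⟨⟨sd.obj s.obj, (sd.w_obj s.obj).trans (hs.trans hb)⟩, ?_⟩
  have e1 : (AlgSp.yon S).map (eqToHom (sd.w_obj s.obj).symm) ≫ H14LocalCat.secMor π (sd.obj s.obj) =
      H14LocalCat.secMor π' s.obj ≫ y :=
    (H14LocalCat.secMor_comp sd π s.obj).symm.trans
      ((H14LocalCat.secMor_eq_of_iso (FibCat.fpIso (AlgSt.ofSpMap y) π) s.obj).symm.trans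
        (H14LocalCat.secMor_ofSpMap π' y s.obj))
  have e2 : H14LocalCat.secMor π (sd.obj s.obj) =
      (AlgSp.yon S).map (eqToHom (sd.w_obj s.obj)) ≫ H14LocalCat.secMor π' s.obj ≫ y := by
    rw [← e1, ← Category.assoc, ← Functor.map_comp, eqToHom_trans, eqToHom_refl,
      CategoryTheory.Functor.map_id, Category.id_comp]
  have e3 : (π.obj (sd.obj s.obj)).sec = M.obj.map (eqToHom (H14Stk.baseEq π (sd.obj s.obj))).op
      ((AlgSp.J S).uliftYonedaEquiv (H14LocalCat.secMor π (sd.obj s.obj))) := by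
    rw [H14LocalCat.secMor, Equiv.apply_symm_apply]
    exact H14Stk.sec_eq π (sd.obj s.obj)
  rw [AlgSt.fibSec]
  change M.obj.map _ (π.obj (sd.obj s.obj)).sec = _
  rw [e3]
  erw [H14Stk.pmap_comp]
  rw [eqToHom_trans, H14Quot.equiv_map, e2,
    ← yon_map_psiHom π' s.obj]
  refine congrArg _ ?_
  simp only [← Category.assoc, ← Functor.map_comp]
  refine congrArg (fun m => (AlgSp.yon S).map m ≫ y) (Over.OverMorphism.ext ?_)
  simp [qK, hi]

end Groth.Agent.H14CohBC
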