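import Groth.Agent.H14CohBC.GoodFlat
import Groth.Agent.H14CohBC.GoodCoherent
import Groth.Agent.H14Pure.Main
import Groth.Agent.H12AlgSp.QSApps
import Groth.Prelude.Def_AlgSp4

/-!
# A good moduli space of a stack of finite type is of finite type
-/

set_option autoImplicit false
set_option linter.style.haveILetI false
set_option backward.isDefEq.respectTransparency false
set_option backward.isDefEq.respectTransparency.types false

universe u

open CategoryTheory CategoryTheory.Limits AlgebraicGeometry Opposite TopologicalSpace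

noncomputable section

namespace Groth.Agent.H14CohBC

open H14Fib H14AlgSt H14Stk H14QCoh

variable {S : Scheme.{u}} {𝒳 : AlgSt.Cat S} {M : AlgSp.Sp S} {π : 𝒳 ⥤ᵇ AlgSt.ofSp M}

/-- Smooth charts of a stack locally of finite type are locally of finite type over the base. -/
theorem lft_chart (hft : AlgSt.LocQ (AlgSp.LocP @LocallyOfFiniteType) (FibCat.toSelf 𝒳)) (U : Over S)
    (x : FibCat.overCat U ⥤ᵇ 𝒳) (hx : AlgSt.RepByAlgSpWith (AlgSp.LocP @Smooth) x) :
    LocallyOfFiniteType U.hom := by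
  let T : Over S := baseObj S
  let y' : FibCat.overCat T ⥤ᵇ FibCat.selfOver (Over S) := FibCat.toSelf (FibCat.overCat T)
  obtain ⟨⟨_, _⟩, hs⟩ := (isEquivOver_iff _).1 (toSelf_overCat_base_isEquivOver (S := S))
  let W : FibCat.fp (FibCat.toSelf 𝒳) y' ⥤ᵇ FibCat.fp (FibCat.toSelf 𝒳) (BasedFunctor.id (FibCat.selfOver (Over S))) :=
    fpMap (F := FibCat.toSelf 𝒳) (G := BasedFunctor.id (FibCat.selfOver (Over S))) (BasedFunctor.id 𝒳) y'
      (BasedFunctor.id (FibCat.selfOver (Over S))) (Iso.refl _) (Iso.refl _)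
  have hW : FibCat.IsEquivOver W := fpMap_isEquivOver _ _ _ _ _ (essSurjOver_id _) hs
  obtain ⟨E, hi, hj⟩ := isEquivOver_comp hW (fpFst_id_isEquivOver (FibCat.toSelf 𝒳))
  have hE : FibCat.IsEquivOver E := ⟨_, hj, hi⟩
  obtain ⟨h', ⟨j⟩⟩ := exists_overMap_iso
    (BasedFunctor.comp (BasedFunctor.comp x E) (FibCat.fpSnd (FibCat.toSelf 𝒳) y'))
  have hf : LocallyOfFiniteType h'.left := (locP_yon_iff H12AlgSp.etLocal_lft h').1
    (prop_of_locQ smLocal_lft hft repWith_toSelf_base.1 (BasedFunctor.comp x E)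
      ((repWith_comp_equiv_iff hE).2 hx) j)
  have e : h'.left = U.hom := (Category.comp_id _).symm.trans (Over.w h')
  exact e ▸ hf

/-- An affine etale chart of a good moduli space of a stack locally of finite type is of finite type over an affine
open of the base. -/
theorem GoodSetup.lft_affine_chart [IsLocallyNoetherian S] (G : GoodSetup π)
    (hft : AlgSt.LocQ (AlgSp.LocP @LocallyOfFiniteType) (FibCat.toSelf 𝒳)) (E : AlgSp.EtOver M)
    (hE : IsAffine E.obj.left.left) {W : S.Opens} (hW : IsAffineOpen W) (g : E.obj.left.left ⟶ W.toScheme)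
    (hg : g ≫ W.ι = E.obj.left.hom) : LocallyOfFiniteType g := by
  haveI : IsAffine W.toScheme := hW
  haveI := hE
  let η := StMod.etaOf E
  have hp : FibCat.IsFibGrpd (StMod.fibCat π η).p := (isAlgStack_fibEta π G.h𝒳 G.hM E).isStack.1
  obtain ⟨𝔸, hx⟩ := G.exists_smooth_atlasF E hE (P := fun U => LocallyOfFiniteType U.hom) (lft_chart hft)
  haveI := 𝔸.affx
  obtain ⟨hinj, hO⟩ := cst_equalizer π hp (G.unit E) 𝔸.toAtlas
  let p : StMod.sch (StMod.fibCat π η) 𝔸.x ⟶ W.toScheme := pr π 𝔸.x ≫ g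
  have hpw : p ≫ W.ι = ((StMod.fibCat π η).p.obj 𝔸.x).hom := by
    rw [Category.assoc, hg]
    exact Eq.trans (congrArg (· ≫ _) (by simp [pr, StMod.baseOver, StMod.bmap])) (Over.w (StMod.baseOver π 𝔸.x.left 𝔸.x.hom))
  have hlft : (p.appTop.hom).FiniteType :=
    HasRingHomProperty.appTop (P := @LocallyOfFiniteType) p
      (haveI : LocallyOfFiniteType (p ≫ W.ι) := hpw ▸ hx
      locallyOfFiniteType_of_comp p W.ι)
  haveI : IsLocallyNoetherian W.toScheme := LocallyOfFiniteType.isLocallyNoetherian W.ι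
  haveI : IsNoetherianRing Γ(W.toScheme, ⊤) :=
    IsLocallyNoetherian.component_noetherian ⟨⊤, isAffineOpen_top _⟩
  haveI : IsNoetherianRing Γ(E.obj.left.left, ⊤) :=
    G.isNoetherianRing_chart (smoothLocally_noetherian_of_locQ hft) E hE
  rw [HasRingHomProperty.iff_of_isAffine (P := @LocallyOfFiniteType)]
  let φ : Γ(E.obj.left.left, ⊤) →+* Fn (StMod.fibCat π η) 𝔸.X.1 := cst π η 𝔸.X
  letI := g.appTop.hom.toAlgebra
  letI := φ.toAlgebra
  letI : Algebra Γ(W.toScheme, ⊤) (Fn (StMod.fibCat π η) 𝔸.X.1) := (φ.comp g.appTop.hom).toAlgebra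
  haveI : IsScalarTower Γ(W.toScheme, ⊤) Γ(E.obj.left.left, ⊤) (Fn (StMod.fibCat π η) 𝔸.X.1) :=
    .of_algebraMap_eq fun _ => rfl
  haveI : Algebra.FiniteType Γ(W.toScheme, ⊤) (Fn (StMod.fibCat π η) 𝔸.X.1) := hlft
  refine H14Pure.finiteType_of_isPureAlg (B := Fn (StMod.fibCat π η) 𝔸.X.1) ?_
  intro W' _ hW' m hm
  letI : Module (Fn (AlgSt.ofSp M) η) W' := hW'
  refine (exists_of_pushT_eq (cst π η) W' (fun d r => cst_nat π d r) 𝔸 hp
    (fun v hv => surjective_globSectMap_eta π G.h𝒳 G.hM G.hqc G.hqs G.hqcM G.coh E hE v hv) hinj hO).1 ?_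
  rw [map_zero]
  with_unfolding_all exact hm

/-- A good moduli space of a stack locally of finite type is locally of finite type. -/
theorem GoodSetup.locP_lft [IsLocallyNoetherian S] (G : GoodSetup π)
    (hft : AlgSt.LocQ (AlgSp.LocP @LocallyOfFiniteType) (FibCat.toSelf 𝒳))
    (q : M ⟶ (AlgSp.yon S).obj (Over.mk (𝟙 S))) : AlgSp.LocP @LocallyOfFiniteType q := by
  intro U V a b h ha hb _
  obtain ⟨v, hv⟩ := (AlgSp.yon S).map_surjective b
  have hv' : v.left = V.hom := (Category.comp_id _).symm.trans (Over.w v)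
  suffices LocallyOfFiniteType U.hom by
    haveI : LocallyOfFiniteType (h.left ≫ V.hom) := by rw [Over.w h]; exact this
    exact locallyOfFiniteType_of_comp h.left V.hom
  choose W hW hWu using fun u : U.left =>
    let ⟨W, hW, hWu, _⟩ := TopologicalSpace.Opens.isBasis_iff_nbhd.mp S.isBasis_affineOpens
      (TopologicalSpace.Opens.mem_top (U.hom u))
    (⟨W, hW, hWu⟩ : ∃ W : S.Opens, IsAffineOpen W ∧ U.hom u ∈ W)
  choose O hO hOu hOW using fun u : U.left =>
    let ⟨O, hO, hOu, hle⟩ := TopologicalSpace.Opens.isBasis_iff_nbhd.mp U.left.isBasis_affineOpens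
      (show u ∈ U.hom ⁻¹ᵁ W u from hWu u)
    (⟨O, hO, hOu, hle⟩ : ∃ O : U.left.Opens, IsAffineOpen O ∧ u ∈ O ∧ O ≤ U.hom ⁻¹ᵁ W u)
  refine (IsZariskiLocalAtSource.iff_of_iSup_eq_top (P := @LocallyOfFiniteType) O
    (eq_top_iff.2 fun u _ => TopologicalSpace.Opens.mem_iSup.2 ⟨u, hOu u⟩)).2 fun u => ?_
  let g := U.hom.resLE (W u) (O u) (hOW u)
  let V' : Over S := Over.mk ((O u).ι ≫ U.hom)
  let j : V' ⟶ U := Over.homMk (O u).ι rfl
  have hj : AlgSp.RepWith @Etale ((AlgSp.yon S).map j ≫ a) :=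
    H12AlgSp.repWith_comp ((AlgSp.repWith_yon_map_iff @Etale j).2 (inferInstanceAs (Etale (O u).ι))) ha
  have : LocallyOfFiniteType g := G.lft_affine_chart hft ⟨CostructuredArrow.mk ((AlgSp.yon S).map j ≫ a), hj⟩
    (hO u) (hW u) g (Scheme.Hom.resLE_comp_ι _ _)
  rw [← Scheme.Hom.resLE_comp_ι U.hom (hOW u)]
  infer_instance

/-- A good moduli space of a quasi-compact stack locally of finite type is of finite type. -/
theorem GoodSetup.isFiniteTypeMor [IsNoetherian S] (G : GoodSetup π)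
    (hft : AlgSt.LocQ (AlgSp.LocP @LocallyOfFiniteType) (FibCat.toSelf 𝒳)) (hq : AlgSt.IsQuasiCompact 𝒳)
    (q : M ⟶ (AlgSp.yon S).obj (Over.mk (𝟙 S))) : AlgSp.IsFiniteTypeMor q :=
  ⟨G.locP_lft hft q, H12AlgSp.isQuasiCompactMor_of_qc_qs G.hM (AlgSp.IsAlgSpace.yon_obj _) q
    (G.isQuasiCompactSp hq) ((AlgSp.repWith_diag_yon_iff @QuasiCompact (Over.mk (𝟙 S))).2 (inferInstanceAs (QuasiCompact (pullback.diagonal (𝟙 S)))))⟩

end Groth.Agent.H14CohBC
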