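import Groth.Agent.H14CohBC.GoodNoeth
import Groth.Agent.H14AlgSt.LocQ2
import Groth.Agent.H14AlgSt.Diag
import Groth.Agent.H14AlgSt.SmoothTot
import Mathlib.RingTheory.Flat.Tensor
import Mathlib.AlgebraicGeometry.Morphisms.Flat

/-!
# A good moduli space of a flat stack is flat
-/

set_option autoImplicit false
set_option linter.style.haveILetI false
set_option backward.isDefEq.respectTransparency false
set_option backward.isDefEq.respectTransparency.types false

universe u v w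

open CategoryTheory CategoryTheory.Limits AlgebraicGeometry Opposite TopologicalSpace
open scoped TensorProduct

noncomputable section

namespace Groth.Agent.H14CohBC

open H14Fib H14AlgSt H14Stk H14QCoh

/-- Flatness descends along a map of rings all of whose extensions of modules are injective. -/
theorem flat_of_injective_extension {R A B : Type u} [CommRing R] [CommRing A] [CommRing B] [Algebra R A]
    (φ : A →+* B) (hB : (φ.comp (algebraMap R A)).Flat)
    (h : ∀ (W : Type u) [AddCommGroup W] [Module A W], ∃ (T : Type u) (_ : AddCommGroup T) (_ : Module B T)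
      (g : W →+ T), Function.Injective g ∧ ∀ (a : A) (w : W), g (a • w) = φ a • g w) :
    Module.Flat R A := by
  letI : Algebra R B := (φ.comp (algebraMap R A)).toAlgebra
  have hB' : Module.Flat R B := hB
  refine Module.Flat.iff_lTensor_injective'.2 fun J => ?_
  obtain ⟨T, _, _, g, hg, hgs⟩ := h (A ⊗[R] J)
  letI : Module R T := Module.compHom T (algebraMap R B)
  haveI : IsScalarTower R B T := IsScalarTower.of_algebraMap_smul fun _ _ => rfl
  let jl : J →ₗ[R] T :=
    { toFun := fun j => g ((1 : A) ⊗ₜ[R] j)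
      map_add' := fun a b => by rw [TensorProduct.tmul_add, map_add]
      map_smul' := fun r j => by
        change g ((1 : A) ⊗ₜ[R] (r • j)) = φ (algebraMap R A r) • g ((1 : A) ⊗ₜ[R] j)
        rw [TensorProduct.tmul_smul, ← algebraMap_smul A r ((1 : A) ⊗ₜ[R] j)]
        exact hgs _ _ }
  let ψ : B ⊗[R] J →ₗ[R] T := TensorProduct.lift
    ((LinearMap.id : (J →ₗ[R] T) →ₗ[R] (J →ₗ[R] T)).comp
      ((LinearMap.lsmul B (J →ₗ[R] T)).flip jl |>.restrictScalars R))
  let φl : A →ₗ[R] B :=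
    { toFun := φ
      map_add' := φ.map_add
      map_smul' := fun r a => by
        rw [Algebra.smul_def, map_mul, RingHom.id_apply, Algebra.smul_def]
        rfl }
  have hfac : ∀ z : A ⊗[R] J, ψ (φl.rTensor J z) = g z := fun z => by
    induction z using TensorProduct.induction_on with
    | zero => simp
    | add a b ha hb => rw [map_add, map_add, ha, hb, map_add]
    | tmul a j =>
      rw [LinearMap.rTensor_tmul]
      refine Eq.trans ?_ ((hgs a ((1 : A) ⊗ₜ[R] j)).symm.trans (congrArg g ?_))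
      · rfl
      · rw [TensorProduct.smul_tmul', smul_eq_mul, mul_one]
  intro z z' e
  refine hg ?_
  rw [← hfac, ← hfac]
  refine congrArg ψ (Module.Flat.iff_lTensor_injective'.1 hB' J ?_)
  have hc : ∀ w, LinearMap.lTensor B J.subtype (φl.rTensor J w) = φl.rTensor R (LinearMap.lTensor A J.subtype w) :=
    fun w => by rw [← LinearMap.comp_apply, LinearMap.lTensor_comp_rTensor, ← LinearMap.rTensor_comp_lTensor]; rfl
  rw [hc, hc, e]

variable {S : Scheme.{u}} {𝒳 : AlgSt.Cat S} {M : AlgSp.Sp S} {π : 𝒳 ⥤ᵇ AlgSt.ofSp M}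

/-- Smooth charts of a flat stack are flat over the base. -/
theorem flat_chart (hfl : AlgSt.LocQ (AlgSp.LocP @Flat) (FibCat.toSelf 𝒳)) (U : Over S)
    (x : FibCat.overCat U ⥤ᵇ 𝒳) (hx : AlgSt.RepByAlgSpWith (AlgSp.LocP @Smooth) x) : Flat U.hom := by
  let T : Over S := baseObj S
  let y' : FibCat.overCat T ⥤ᵇ FibCat.selfOver (Over S) := FibCat.toSelf (FibCat.overCat T)
  have hy : FibCat.IsEquivOver y' := toSelf_overCat_base_isEquivOver
  have hys : AlgSt.RepByAlgSpWith (AlgSp.LocP @Smooth) y' := repWith_toSelf_base.1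
  obtain ⟨⟨_, _⟩, hs⟩ := (isEquivOver_iff _).1 hy
  let M : FibCat.fp (FibCat.toSelf 𝒳) y' ⥤ᵇ FibCat.fp (FibCat.toSelf 𝒳) (BasedFunctor.id (FibCat.selfOver (Over S))) :=
    fpMap (F := FibCat.toSelf 𝒳) (G := BasedFunctor.id (FibCat.selfOver (Over S))) (BasedFunctor.id 𝒳) y'
      (BasedFunctor.id (FibCat.selfOver (Over S))) (Iso.refl _) (Iso.refl _)
  have hM : FibCat.IsEquivOver M := fpMap_isEquivOver _ _ _ _ _ (essSurjOver_id _) hs
  obtain ⟨E, hi, hj⟩ := isEquivOver_comp hM (fpFst_id_isEquivOver (FibCat.toSelf 𝒳))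
  have hE : FibCat.IsEquivOver E := ⟨_, hj, hi⟩
  obtain ⟨h', ⟨j⟩⟩ := exists_overMap_iso
    (BasedFunctor.comp (BasedFunctor.comp x E) (FibCat.fpSnd (FibCat.toSelf 𝒳) y'))
  have hf : Flat h'.left := (locP_yon_iff H12AlgSp.etLocal_flat h').1
    (prop_of_locQ smLocal_flat hfl hys (BasedFunctor.comp x E) ((repWith_comp_equiv_iff hE).2 hx) j)
  have e : h'.left = U.hom := (Category.comp_id _).symm.trans (Over.w h')
  exact e ▸ hf

/-- An affine etale chart of a good moduli space of a flat stack is flat over an affine open of the base. -/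
theorem GoodSetup.flat_affine_chart (G : GoodSetup π)
    (hfl : AlgSt.LocQ (AlgSp.LocP @Flat) (FibCat.toSelf 𝒳)) (E : AlgSp.EtOver M) (hE : IsAffine E.obj.left.left)
    {W : S.Opens} (hW : IsAffineOpen W) (g : E.obj.left.left ⟶ W.toScheme) (hg : g ≫ W.ι = E.obj.left.hom) :
    Flat g := by
  haveI : IsAffine W.toScheme := hW
  haveI := hE
  let η := StMod.etaOf E
  have hp : FibCat.IsFibGrpd (StMod.fibCat π η).p := (isAlgStack_fibEta π G.h𝒳 G.hM E).isStack.1
  obtain ⟨𝔸, hx⟩ := G.exists_smooth_atlasF E hE (P := fun U => Flat U.hom) (flat_chart hfl)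
  haveI := 𝔸.affx
  obtain ⟨hinj, hO⟩ := cst_equalizer π hp (G.unit E) 𝔸.toAtlas
  let p : StMod.sch (StMod.fibCat π η) 𝔸.x ⟶ W.toScheme := pr π 𝔸.x ≫ g
  have hpw : p ≫ W.ι = ((StMod.fibCat π η).p.obj 𝔸.x).hom := by
    rw [Category.assoc, hg]
    exact Eq.trans (congrArg (· ≫ _) (by simp [pr, StMod.baseOver, StMod.bmap])) (Over.w (StMod.baseOver π 𝔸.x.left 𝔸.x.hom))
  have hflat : (p.appTop.hom).Flat :=
    HasRingHomProperty.appTop (P := @Flat) p
      (H12AlgSp.etLocal_flat.of_postcomp p W.ι inferInstance (hpw ▸ hx))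
  rw [HasRingHomProperty.iff_of_isAffine (P := @Flat)]
  letI := g.appTop.hom.toAlgebra
  let φ : Γ(E.obj.left.left, ⊤) →+* Fn (StMod.fibCat π η) 𝔸.X.1 := cst π η 𝔸.X
  refine flat_of_injective_extension (R := Γ(W.toScheme, ⊤)) φ hflat fun W' _ hW' => ?_
  letI : Module (Fn (AlgSt.ofSp M) η) W' := hW'
  letI := instModuleTW (cst π η) W' 𝔸.X
  exact ⟨TW (cst π η) W' 𝔸.X, inferInstance, instModuleTW (cst π η) W' 𝔸.X, genT (cst π η) W' 𝔸.X,
    (exists_of_pushT_eq (cst π η) W' (fun d r => cst_nat π d r) 𝔸 hp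
      (fun v hv => surjective_globSectMap_eta π G.h𝒳 G.hM G.hqc G.hqs G.hqcM G.coh E hE v hv) hinj hO).1,
    (isBC_genT (cst π η) W' 𝔸.X).smul⟩

/-- A good moduli space of a flat stack is flat. -/
theorem GoodSetup.locP_flat (G : GoodSetup π) (hfl : AlgSt.LocQ (AlgSp.LocP @Flat) (FibCat.toSelf 𝒳))
    (q : M ⟶ (AlgSp.yon S).obj (Over.mk (𝟙 S))) : AlgSp.LocP @Flat q := by
  intro U V a b h ha hb _
  obtain ⟨v, hv⟩ := (AlgSp.yon S).map_surjective b
  have he : Etale v.left := (AlgSp.repWith_yon_map_iff _ v).1 (hv ▸ hb)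
  have hv' : v.left = V.hom := (Category.comp_id _).symm.trans (Over.w v)
  refine H12AlgSp.etLocal_flat.of_postcomp h.left v.left he ?_
  rw [hv', Over.w h]
  choose W hW hWu using fun u : U.left =>
    let ⟨W, hW, hWu, _⟩ := TopologicalSpace.Opens.isBasis_iff_nbhd.mp S.isBasis_affineOpens
      (TopologicalSpace.Opens.mem_top (U.hom u))
    (⟨W, hW, hWu⟩ : ∃ W : S.Opens, IsAffineOpen W ∧ U.hom u ∈ W)
  choose O hO hOu hOW using fun u : U.left =>
    let ⟨O, hO, hOu, hle⟩ := TopologicalSpace.Opens.isBasis_iff_nbhd.mp U.left.isBasis_affineOpens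
      (show u ∈ U.hom ⁻¹ᵁ W u from hWu u)
    (⟨O, hO, hOu, hle⟩ : ∃ O : U.left.Opens, IsAffineOpen O ∧ u ∈ O ∧ O ≤ U.hom ⁻¹ᵁ W u)
  refine (IsZariskiLocalAtSource.iff_of_iSup_eq_top (P := @Flat) O
    (eq_top_iff.2 fun u _ => TopologicalSpace.Opens.mem_iSup.2 ⟨u, hOu u⟩)).2 fun u => ?_
  let g := U.hom.resLE (W u) (O u) (hOW u)
  let V' : Over S := Over.mk ((O u).ι ≫ U.hom)
  let j : V' ⟶ U := Over.homMk (O u).ι rfl
  have hj : AlgSp.RepWith @Etale ((AlgSp.yon S).map j ≫ a) :=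
    H12AlgSp.repWith_comp ((AlgSp.repWith_yon_map_iff @Etale j).2 (inferInstanceAs (Etale (O u).ι))) ha
  have : Flat g := G.flat_affine_chart hfl ⟨CostructuredArrow.mk ((AlgSp.yon S).map j ≫ a), hj⟩ (hO u) (hW u) g
    (Scheme.Hom.resLE_comp_ι _ _)
  rw [← Scheme.Hom.resLE_comp_ι U.hom (hOW u)]
  infer_instance

end Groth.Agent.H14CohBC
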