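import Groth.Agent.H14CohBC.GoodPoints
import Groth.Agent.H14AlgSt.PointsSpace
import Groth.Agent.H14AlgSt.PointsMor
import Groth.Agent.H12AlgSp.QC
import Groth.Prelude.Def_AlgSt3
import Groth.Prelude.Def_AlgSp2
import Mathlib.AlgebraicGeometry.Noetherian

/-!
# A good moduli space of a locally Noetherian stack is locally Noetherian
-/

set_option autoImplicit false
set_option linter.style.haveILetI false
set_option backward.isDefEq.respectTransparency false
set_option backward.isDefEq.respectTransparency.types false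

universe u v w

open CategoryTheory CategoryTheory.Limits AlgebraicGeometry Opposite TopologicalSpace

noncomputable section

namespace Groth.Agent.H14CohBC

open H14Fib H14AlgSt H14Stk H14QCoh

variable {S : Scheme.{u}}

section Ideals

variable {𝒵 : BasedCategory.{v, w} (Over S)} {A : Type u} [CommRing A]
  (φ : ∀ D : AObj 𝒵, A →+* Fn 𝒵 D.1)
  (hφ : ∀ {D' D : AObj 𝒵} (d : D'.1 ⟶ D.1) (a : A), fnMap d (φ D a) = φ D' a)
  (𝔸 : AtlasF 𝒵) (hp : FibCat.IsFibGrpd 𝒵.p)
  (hex : ∀ {F G : StMod.QCoh 𝒵} (v : F.obj ⟶ G.obj), StMod.Mod.IsSurj v →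
    Function.Surjective (StMod.Mod.globSectMap v))

include hφ hp hex in
/-- Every ideal of constants is contracted from the chart. -/
theorem comap_map_eq (hinj : Function.Injective (φ 𝔸.X))
    (hO : ∀ t : Fn 𝒵 𝔸.x, fnMap 𝔸.a t = fnMap 𝔸.b t → ∃ r, φ 𝔸.X r = t) (I : Ideal A) :
    (I.map (φ 𝔸.X)).comap (φ 𝔸.X) = I := by
  refine le_antisymm (fun a ha => ?_) Ideal.le_comap_map
  have hW := (exists_of_pushT_eq φ (A ⧸ I) hφ 𝔸 hp hex hinj hO).1
  letI := instModuleTW φ (A ⧸ I) 𝔸.X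
  let g : Fn 𝒵 𝔸.X.1 →ₗ[Fn 𝒵 𝔸.X.1] TW φ (A ⧸ I) 𝔸.X :=
    LinearMap.toSpanSingleton (Fn 𝒵 𝔸.X.1) (TW φ (A ⧸ I) 𝔸.X) (genT φ (A ⧸ I) 𝔸.X (Ideal.Quotient.mk I 1))
  have hg : ∀ r : A, g (φ 𝔸.X r) = genT φ (A ⧸ I) 𝔸.X (Ideal.Quotient.mk I r) := fun r => by
    refine ((isBC_genT φ (A ⧸ I) 𝔸.X).smul r (Ideal.Quotient.mk I 1)).symm.trans (congrArg _ ?_)
    change Ideal.Quotient.mk I (r • (1 : A)) = _
    rw [smul_eq_mul, mul_one]
  have hle : I.map (φ 𝔸.X) ≤ LinearMap.ker g := Ideal.map_le_iff_le_comap.2 fun r hr => by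
    change g (φ 𝔸.X r) = 0
    rw [hg, Ideal.Quotient.eq_zero_iff_mem.2 hr, map_zero]
  refine Ideal.Quotient.eq_zero_iff_mem.1 (hW ?_)
  rw [map_zero, ← hg]
  exact hle ha

end Ideals

theorem isNoetherianRing_of_comap_map {A B : Type u} [CommRing A] [CommRing B] [IsNoetherianRing B]
    (f : A →+* B) (h : ∀ I : Ideal A, (I.map f).comap f = I) : IsNoetherianRing A := by
  rw [isNoetherianRing_iff, isNoetherian_iff']
  have hm : StrictMono fun I : Ideal A => I.map f :=
    Monotone.strictMono_of_injective (fun I J hIJ => Ideal.map_mono hIJ)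
      (fun I J e => by rw [← h I, ← h J]; exact congrArg _ e)
  exact ⟨RelHomClass.wellFounded (⟨fun I : Ideal A => I.map f, fun hIJ => hm hIJ⟩ :
    (GT.gt : Ideal A → Ideal A → Prop) →r (GT.gt : Ideal B → Ideal B → Prop)) wellFounded_gt⟩

variable {𝒳 : AlgSt.Cat S} {M : AlgSp.Sp S} {π : 𝒳 ⥤ᵇ AlgSt.ofSp M}

/-- The category over an affine etale chart has an atlas whose chart is smooth over the stack. -/
theorem GoodSetup.exists_smooth_atlasF (G : GoodSetup π) (E : AlgSp.EtOver M) (hE : IsAffine E.obj.left.left)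
    {P : Over S → Prop}
    (hP : ∀ (U : Over S) (x : FibCat.overCat U ⥤ᵇ 𝒳), AlgSt.RepByAlgSpWith (AlgSp.LocP @Smooth) x → P U) :
    ∃ 𝔸 : AtlasF (StMod.fibCat π (StMod.etaOf E)),
      P ((StMod.fibCat π (StMod.etaOf E)).p.obj 𝔸.x) := by
  let η := StMod.etaOf E
  have hη : IsAffine (StMod.sch (AlgSt.ofSp M) η) := hE
  have h' := isAlgStack_fibEta π G.h𝒳 G.hM E
  obtain ⟨U, x, hU, hx, hxs, hR⟩ :=
    exists_qc_chart_fibCat G.h𝒳 (isAlgStack_ofSp ⟨M, G.hM⟩) π G.hqc G.hqs η hη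
  obtain ⟨y, a, b, hy, hfa, hfb, hc₂, hc₃⟩ := exists_pair_chart h'.isStack.1 hx hx hR
  have hsU : StMod.sch (StMod.fibCat π η) (x.obj (topObj U)) = U.left :=
    congrArg (fun t => t.left) (x.w_obj (topObj U))
  exact ⟨{ x := x.obj (topObj U)
           y := y
           a := a
           b := b
           affx := hsU ▸ hU
           affy := hy
           cov := fun ξ hξ => exists_cov_lift h'.isStack.1 hx hxs ξ hξ
           cov₂ := hc₂
           flata := hfa
           flatb := hfb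
           cov₃ := hc₃ }, cast (congrArg P (x.w_obj (topObj U)).symm) (hP U _ (repWith_locP_comp H12AlgSp.etLocal_smooth (fibGrpd_overCat U)
             h'.isStack.1 hx (props_fibFst π G.hM G.hqcM E hE).1))⟩

/-- The functions on an affine etale chart of a good moduli space of a locally Noetherian stack. -/
theorem GoodSetup.isNoetherianRing_chart (G : GoodSetup π)
    (hN : AlgSt.SmoothLocally (fun T => IsLocallyNoetherian T) 𝒳) (E : AlgSp.EtOver M)
    (hE : IsAffine E.obj.left.left) : IsNoetherianRing Γ(E.obj.left.left, ⊤) := by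
  have hp : FibCat.IsFibGrpd (StMod.fibCat π (StMod.etaOf E)).p := (isAlgStack_fibEta π G.h𝒳 G.hM E).isStack.1
  obtain ⟨𝔸, hx⟩ := G.exists_smooth_atlasF E hE (P := fun U => IsLocallyNoetherian U.left) hN
  obtain ⟨hinj, hO⟩ := cst_equalizer π hp (G.unit E) 𝔸.toAtlas
  haveI : IsLocallyNoetherian (StMod.sch (StMod.fibCat π (StMod.etaOf E)) 𝔸.x) := hx
  haveI := 𝔸.affx
  haveI hB : IsNoetherianRing (Fn (StMod.fibCat π (StMod.etaOf E)) 𝔸.x) :=
    IsLocallyNoetherian.component_noetherian ⟨⊤, isAffineOpen_top _⟩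
  exact isNoetherianRing_of_comap_map (cst π (StMod.etaOf E) 𝔸.X) (comap_map_eq (cst π (StMod.etaOf E))
    (fun d r => cst_nat π d r) 𝔸 hp (fun v hv => surjective_globSectMap_eta π G.h𝒳 G.hM G.hqc G.hqs G.hqcM G.coh E hE v hv)
    hinj hO)

/-- A good moduli space of a locally Noetherian stack is locally Noetherian. -/
theorem GoodSetup.isLocNoethSp (G : GoodSetup π)
    (hN : AlgSt.SmoothLocally (fun T => IsLocallyNoetherian T) 𝒳) : AlgSp.IsLocNoethSp M := by
  obtain ⟨U, p, hp, hps⟩ := G.hM.atlas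
  refine ⟨U, p, hp, hps, (isLocallyNoetherian_iff_of_affine_openCover U.left.affineCover).2 fun i => ?_⟩
  let V : Over S := Over.mk (U.left.affineCover.f i ≫ U.hom)
  let j : V ⟶ U := Over.homMk (U.left.affineCover.f i) rfl
  have hj : AlgSp.RepWith @Etale ((AlgSp.yon S).map j ≫ p) :=
    H12AlgSp.repWith_comp ((AlgSp.repWith_yon_map_iff @Etale j).2 (inferInstanceAs (Etale (U.left.affineCover.f i)))) hp
  exact G.isNoetherianRing_chart hN ⟨CostructuredArrow.mk ((AlgSp.yon S).map j ≫ p), hj⟩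
    (inferInstanceAs (IsAffine (U.left.affineCover.X i)))

/-- A good moduli space of a quasi-compact stack is quasi-compact. -/
theorem GoodSetup.isQuasiCompactSp (G : GoodSetup π) (hq : AlgSt.IsQuasiCompact 𝒳) : AlgSp.IsQuasiCompactSp M := by
  haveI : CompactSpace (AlgSt.Points 𝒳) := compactSpace_points G.h𝒳 hq
  haveI : CompactSpace (AlgSp.Points M) :=
    ((spHomeo ⟨M, G.hM⟩).symm.surjective.comp G.surjective).compactSpace
      ((spHomeo ⟨M, G.hM⟩).symm.continuous.comp (continuous_points_map (isAlgStack_ofSp ⟨M, G.hM⟩) π))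
  exact H12AlgSp.isQuasiCompactSp_of_compactSpace G.hM

end Groth.Agent.H14CohBC
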