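import Groth.Agent.H14CohBC.GoodFib
import Groth.Agent.H14AlgSt.Spectral

/-!
# Points of good moduli spaces: surjectivity, connected fibres, closedness
-/

set_option autoImplicit false
set_option linter.style.haveILetI false
set_option backward.isDefEq.respectTransparency false
set_option backward.isDefEq.respectTransparency.types false

universe u

open CategoryTheory CategoryTheory.Limits AlgebraicGeometry Opposite TopologicalSpace

noncomputable section

namespace Groth.Agent.H14CohBC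

open H14Fib H14AlgSt H14Stk H14QCoh

lemma mem_basicOpen_or {X : Scheme.{u}} (r : Γ(X, ⊤)) (t : X) :
    t ∈ X.basicOpen (r - 1) ∨ t ∈ X.basicOpen r := by
  rw [Scheme.mem_basicOpen_top, Scheme.mem_basicOpen_top, map_sub, map_one]
  rcases IsLocalRing.isUnit_or_isUnit_one_sub_self (X.presheaf.germ ⊤ t trivial r) with h | h
  · exact Or.inr h
  · exact Or.inl (by rw [← neg_sub]; exact h.neg)

/-- A closed subset of an affine scheme with image stable under specialization has closed image. -/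
theorem isClosed_image_of_stable {X Y : Scheme.{u}} [IsAffine X] [IsAffine Y] (f : X ⟶ Y) {Z : Set X}
    (hZ : IsClosed Z) (h : StableUnderSpecialization (f '' Z)) : IsClosed (f '' Z) := by
  have e : ∀ z, Y.isoSpec.hom (f z) = PrimeSpectrum.comap f.appTop.hom (X.isoSpec.hom z) := fun z => by
    rw [← Scheme.Hom.comp_apply, ← Scheme.isoSpec_hom_naturality f]
    rfl
  have himg : Y.isoSpec.hom '' (f '' Z) = PrimeSpectrum.comap f.appTop.hom '' (X.isoSpec.hom '' Z) := by
    rw [Set.image_image, Set.image_image]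
    exact Set.image_congr fun z _ => e z
  have hX : IsClosed (X.isoSpec.hom '' Z) := X.isoSpec.hom.homeomorph.isClosedMap _ hZ
  have hs : StableUnderSpecialization (PrimeSpectrum.comap f.appTop.hom '' (X.isoSpec.hom '' Z)) := by
    rw [← himg]
    exact h.image Y.isoSpec.hom.homeomorph.isClosedMap.specializingMap
  have := PrimeSpectrum.isClosed_image_of_stableUnderSpecialization _ _ hX hs
  rw [← himg] at this
  exact Y.isoSpec.hom.homeomorph.isClosed_image.1 this

variable {S : Scheme.{u}} {T : Over S} {𝒳 : AlgSt.Cat S} {M : AlgSp.Sp S} {π : 𝒳 ⥤ᵇ AlgSt.ofSp M}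
  (G : GoodSetup π) (y : (AlgSp.yon S).obj T ⟶ M) [IsAffine T.left]

local notation "π'" => FibCat.fpFst (AlgSt.ofSpMap y) π
local notation "𝒵" => FibCat.fp (AlgSt.ofSpMap y) π

include G in
/-- An affine base change of a good moduli space is one. -/
theorem GoodSetup.fibre : GoodSetup π' where
  h𝒳 := isAlgStack_fibre y G
  hM := AlgSp.IsAlgSpace.yon_obj T
  hqc := isQCMor_fpFst G.h𝒳 (isAlgStack_ofSp ⟨M, G.hM⟩)
    (isAlgStack_ofSp ⟨(AlgSp.yon S).obj T, AlgSp.IsAlgSpace.yon_obj T⟩) (AlgSt.ofSpMap y) G.hqc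
  hqs := repWith_diag_fpFst _ G.hqs
  hqcM := fun U hU z => isQCMor_of_qsSch T U hU z
  coh := isCohAffine_fpFst π y G.h𝒳 G.hM (AlgSp.IsAlgSpace.yon_obj T) G.hqc G.hqs G.hqcM G.coh
  unit := unitIsIso_fpFst y π G.h𝒳 G.hM (AlgSp.IsAlgSpace.yon_obj T) G.hqc G.hqs G.hqcM G.coh G.unit

omit [IsAffine T.left] in
lemma bij_toOverCat : Function.Bijective fun q : AlgSt.Points (AlgSt.ofSch T) =>
    chartPoint (AlgSt.Points.map (AlgSt.toOverCat T) q) :=
  Function.Bijective.comp (g := chartPoint) ⟨chartPoint_injective, fun t => ⟨_, chartPoint_ofChart t⟩⟩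
    (points_map_bijective (toOverCat_isEquivOver T))

include G in
omit [IsAffine T.left] in
/-- A good moduli space is surjective on points. -/
theorem GoodSetup.surjective : Function.Surjective (AlgSt.Points.map π) := by
  intro q
  obtain ⟨p, rfl⟩ := AlgSt.Points.mk_surjective q
  let T₀ : Over S := Over.mk p.str
  have hb : p.obj.base = T₀ := p.lies
  haveI : IsAffine T₀.left := inferInstanceAs (IsAffine (Spec _))
  haveI : Nonempty T₀.left := ⟨IsLocalRing.closedPoint p.K⟩
  let s : M.obj.obj (op T₀) := M.obj.map (eqToHom hb.symm).op p.obj.sec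
  let y₀ : (AlgSp.yon S).obj T₀ ⟶ M := (AlgSp.J S).uliftYonedaEquiv.symm s
  obtain ⟨w⟩ := nonempty_points_fibre y₀ G
  refine ⟨AlgSt.Points.map (FibCat.fpSnd (AlgSt.ofSpMap y₀) π) w, ?_⟩
  rw [← points_map_comp, ← points_map_iso (FibCat.fpIso (AlgSt.ofSpMap y₀) π), points_map_comp]
  let p₀ : AlgSt.FPt (AlgSt.ofSch T₀) := ⟨p.K, p.str, ⟨T₀, ⟨𝟙 T₀⟩⟩, rfl⟩
  haveI : Subsingleton T₀.left := inferInstanceAs (Subsingleton (PrimeSpectrum p.K))
  have huniq : AlgSt.Points.map (FibCat.fpFst (AlgSt.ofSpMap y₀) π) w = AlgSt.Points.mk p₀ :=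
    bij_toOverCat.1 (Subsingleton.elim _ _)
  rw [huniq, AlgSt.Points.map_mk]
  refine mk_eq_of_hom (p := p₀.map (AlgSt.ofSpMap y₀)) (q := p) ⟨eqToHom hb.symm, ?_⟩
  change s = (AlgSp.J S).uliftYonedaEquiv y₀
  rw [Equiv.apply_symm_apply]

omit [IsAffine T.left] in
lemma continuous_tImg (hT : AlgSt.IsAlgStack Scheme.fppfPrecoverage (AlgSt.ofSch T)) :
    Continuous (tImg π y) :=
  continuous_chartPoint.comp ((continuous_points_map (isAlgStack_overCat T) (AlgSt.toOverCat T)).comp
    (continuous_points_map hT π'))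

include G in
/-- Every point of an affine scheme over the moduli space has a point above it. -/
theorem GoodSetup.surjective_tImg : Function.Surjective (tImg π y) :=
  bij_toOverCat.2.comp (GoodSetup.fibre G y).surjective

include G in
/-- The fibres are connected. -/
theorem GoodSetup.connected_fibre [Nonempty T.left] [Subsingleton T.left] : ConnectedSpace (AlgSt.Points 𝒵) := by
  haveI := nonempty_points_fibre y G
  haveI : PreconnectedSpace (AlgSt.Points 𝒵) := preconnectedSpace_iff_clopen.2 fun C hC => by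
    by_contra hne
    simp only [not_or] at hne
    obtain ⟨r, h1, h0⟩ := exists_separating_fibre y G C Cᶜ hC.1 hC.2.isClosed_compl disjoint_compl_right
    obtain ⟨a, ha⟩ := Set.nonempty_iff_ne_empty.2 hne.1
    obtain ⟨b, hb⟩ := (Set.ne_univ_iff_exists_notMem C).1 hne.2
    rcases mem_basicOpen_or r (tImg π y a) with h | h
    · exact h1 a ha h
    · exact h0 b hb (Subsingleton.elim (tImg π y a) (tImg π y b) ▸ h)
  exact ⟨inferInstance⟩

include G in
omit [IsAffine T.left] in
/-- Two closed points with the same image coincide. -/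
theorem GoodSetup.eq_of_isClosed (x₁ x₂ : AlgSt.Points 𝒳) (h₁ : IsClosed ({x₁} : Set (AlgSt.Points 𝒳)))
    (h₂ : IsClosed ({x₂} : Set (AlgSt.Points 𝒳))) (he : AlgSt.Points.map π x₁ = AlgSt.Points.map π x₂) :
    x₁ = x₂ := by
  by_contra hne
  obtain ⟨p, hp⟩ := AlgSt.Points.mk_surjective (AlgSt.Points.map π x₁)
  let T₀ : Over S := Over.mk p.str
  have hb : p.obj.base = T₀ := p.lies
  haveI : IsAffine T₀.left := inferInstanceAs (IsAffine (Spec _))
  haveI : Subsingleton T₀.left := inferInstanceAs (Subsingleton (PrimeSpectrum p.K))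
  let s : M.obj.obj (op T₀) := M.obj.map (eqToHom hb.symm).op p.obj.sec
  let y₀ : (AlgSp.yon S).obj T₀ ⟶ M := (AlgSp.J S).uliftYonedaEquiv.symm s
  let p₀ : AlgSt.FPt (AlgSt.ofSch T₀) := ⟨p.K, p.str, ⟨T₀, ⟨𝟙 T₀⟩⟩, rfl⟩
  have hp₀ : AlgSt.Points.map (AlgSt.ofSpMap y₀) (AlgSt.Points.mk p₀) = AlgSt.Points.mk p := by
    rw [AlgSt.Points.map_mk]
    refine mk_eq_of_hom (p := p₀.map (AlgSt.ofSpMap y₀)) (q := p) ⟨eqToHom hb.symm, ?_⟩
    change s = (AlgSp.J S).uliftYonedaEquiv y₀
    rw [Equiv.apply_symm_apply]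
  have hT := isAlgStack_ofSp ⟨(AlgSp.yon S).obj T₀, AlgSp.IsAlgSpace.yon_obj T₀⟩
  have hM := isAlgStack_ofSp ⟨M, G.hM⟩
  have hpre := continuous_points_map G.h𝒳 (FibCat.fpSnd (AlgSt.ofSpMap y₀) π)
  obtain ⟨r, r₁, r₂⟩ := exists_separating_fibre y₀ G _ _ (h₁.preimage hpre) (h₂.preimage hpre)
    (Set.disjoint_left.2 fun w hw₁ hw₂ => hne ((Set.mem_singleton_iff.1 hw₁).symm.trans (Set.mem_singleton_iff.1 hw₂)))
  obtain ⟨w₁, -, hw₁⟩ := exists_points_fp hT.isStack.1 G.h𝒳.isStack.1 hM.isStack.1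
    (F := AlgSt.ofSpMap y₀) (G := π) (hp₀.trans hp)
  obtain ⟨w₂, -, hw₂⟩ := exists_points_fp hT.isStack.1 G.h𝒳.isStack.1 hM.isStack.1
    (F := AlgSt.ofSpMap y₀) (G := π) (hp₀.trans (hp.trans he))
  rcases mem_basicOpen_or r (tImg π y₀ w₁) with h | h
  · exact r₁ w₁ hw₁ h
  · exact r₂ w₂ hw₂ (Subsingleton.elim (tImg π y₀ w₁) (tImg π y₀ w₂) ▸ h)

include G in
/-- The image in the base of a closed set is stable under specialization. -/
theorem GoodSetup.stable_image {C : Set (AlgSt.Points 𝒵)} (hC : IsClosed C) :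
    StableUnderSpecialization (tImg π y '' C) := by
  rintro q p hqp ⟨w, hw, rfl⟩
  let T' : Over S := Over.mk (T.left.fromSpecStalk p ≫ T.hom)
  let h : T' ⟶ T := Over.homMk (T.left.fromSpecStalk p) rfl
  let y' : (AlgSp.yon S).obj T' ⟶ (AlgSp.yon S).obj T := (AlgSp.yon S).map h
  let G₁ := GoodSetup.fibre G y
  haveI : IsAffine T'.left := inferInstanceAs (IsAffine (Spec _))
  let sd := FibCat.fpSnd (AlgSt.ofSpMap y') π'
  have himg : ∀ w', tImg π y (AlgSt.Points.map sd w') = h.left (tImg π' y' w') := by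
    intro w'
    rw [tImg, tImg, ← chartPoint_overMap, ← points_map_comp sd π', ← points_map_iso (FibCat.fpIso (AlgSt.ofSpMap y') π'),
      points_map_comp]
    refine congrArg chartPoint ?_
    rw [← points_map_comp, ← points_map_comp (AlgSt.toOverCat T')]
    rfl
  let c : T'.left := IsLocalRing.closedPoint (T.left.presheaf.stalk p)
  have hc : h.left c = p := Scheme.fromSpecStalk_closedPoint
  have hF : IsClosed (tImg π' y' ⁻¹' {c}) :=
    (show IsClosed ({c} : Set T'.left) from IsLocalRing.isClosed_singleton_closedPoint _).preimage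
      (continuous_tImg y' (isAlgStack_ofSp ⟨(AlgSp.yon S).obj T', AlgSp.IsAlgSpace.yon_obj T'⟩))
  have hC' : IsClosed (AlgSt.Points.map sd ⁻¹' C) := hC.preimage (continuous_points_map G₁.h𝒳 sd)
  by_contra hp
  have hd : Disjoint (AlgSt.Points.map sd ⁻¹' C) (tImg π' y' ⁻¹' {c}) := Set.disjoint_left.2 fun w' h1 h2 =>
    hp ⟨_, h1, (himg w').trans ((congrArg h.left h2).trans hc)⟩
  obtain ⟨r, r₁, r₂⟩ := exists_separating_fibre y' G₁ _ _ hC' hF hd
  obtain ⟨v, hv⟩ := G₁.surjective_tImg y' c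
  have hc1 : c ∈ T'.left.basicOpen (r - 1) :=
    (mem_basicOpen_or r c).resolve_right fun h2 => r₂ v hv (hv.symm ▸ h2)
  obtain ⟨q', hq'⟩ : tImg π y w ∈ Set.range h.left := by
    change tImg π y w ∈ Set.range (T.left.fromSpecStalk p)
    rw [Scheme.range_fromSpecStalk]
    exact hqp
  obtain ⟨q₀, hq₀⟩ := bij_toOverCat.2 q'
  have heq : AlgSt.Points.map (AlgSt.ofSpMap y') q₀ = AlgSt.Points.map π' w := by
    refine bij_toOverCat.1 ?_
    refine Eq.trans ?_ (hq'.trans rfl)
    rw [← hq₀, ← chartPoint_overMap]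
    dsimp only
    rw [← points_map_comp, ← points_map_comp (AlgSt.toOverCat T')]
    rfl
  obtain ⟨w', hw'₁, hw'₂⟩ := exists_points_fp (isAlgStack_ofSp ⟨(AlgSp.yon S).obj T', AlgSp.IsAlgSpace.yon_obj T'⟩).isStack.1
    G₁.h𝒳.isStack.1 (isAlgStack_ofSp ⟨(AlgSp.yon S).obj T, AlgSp.IsAlgSpace.yon_obj T⟩).isStack.1
    (F := AlgSt.ofSpMap y') (G := π') heq
  refine r₁ w' (show AlgSt.Points.map sd w' ∈ C from hw'₂.symm ▸ hw) ?_
  have : tImg π' y' w' ⤳ c := IsLocalRing.specializes_closedPoint _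
  exact this.mem_open (T'.left.basicOpen (r - 1)).2 hc1

include G in
/-- The image in the base of a closed set of points of an affine base change is closed. -/
theorem GoodSetup.isClosed_image {C : Set (AlgSt.Points 𝒵)} (hC : IsClosed C) : IsClosed (tImg π y '' C) := by
  have h' := isAlgStack_fibre y G
  have hT := isAlgStack_ofSp ⟨(AlgSp.yon S).obj T, AlgSp.IsAlgSpace.yon_obj T⟩
  have hTc : AlgSt.IsQuasiCompact (AlgSt.ofSch T) := isQuasiCompact_of_surjective (isAlgStack_overCat T) hT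
    (isQuasiCompact_overCat T) (AlgSt.ofOverCat T) (points_map_bijective (ofOverCat_isEquivOver T)).2
  obtain ⟨U, x, hU, hx, hxs⟩ := G.hqc _ hT hTc (AlgSt.ofSpMap y)
  obtain ⟨f, ⟨j⟩⟩ := exists_overMap_iso (BasedFunctor.comp x (BasedFunctor.comp π' (AlgSt.toOverCat T)))
  have hcomp : ∀ t, tImg π y (AlgSt.Points.ofChart x t) = f.left t := by
    intro t
    rw [tImg, ofChart_eq_map, ← points_map_comp, ← points_map_comp, points_map_iso j, chartPoint_overMap,
      chartPoint_ofChart]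
  have himg : tImg π y '' C = f.left '' (AlgSt.Points.ofChart x ⁻¹' C) := by
    conv_lhs => rw [← Set.image_preimage_eq C (ofChart_surjective h'.isStack.1 hxs)]
    rw [Set.image_image]
    exact Set.image_congr fun t _ => hcomp t
  rw [himg]
  haveI : IsAffine U.left := hU
  exact isClosed_image_of_stable f.left (hC.preimage (continuous_ofChart h' x)) (himg ▸ G.stable_image y hC)

end Groth.Agent.H14CohBC
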