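import Groth.Agent.H14CohBC.GoodUniversal
import Groth.Agent.H14AlgSt.ClosedSub
import Groth.Agent.H14AlgSt.StackProps
import Groth.Agent.H14AlgSt.ReducedSub
import Groth.Agent.H06Desc.Geom
import Groth.Agent.S10192
import Groth.Agent.S10193
import Groth.Prelude.Def_StCoarse

/-!
# Categorical moduli spaces of reduced stacks are reduced
-/

set_option autoImplicit false
set_option linter.style.haveILetI false
set_option backward.isDefEq.respectTransparency false
set_option backward.isDefEq.respectTransparency.types false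

universe u

open CategoryTheory CategoryTheory.Limits AlgebraicGeometry Opposite TopologicalSpace

noncomputable section

namespace Groth.Agent.H14CohBC

open H14Fib H14AlgSt H14Stk

variable {S : Scheme.{u}} {𝒳 : AlgSt.Cat S}

/-- A closed immersion through which a flat surjection factors is an isomorphism. -/
lemma isIso_of_flat_surjective_factor {A X Y : Scheme.{u}} (v : X ⟶ Y) [IsClosedImmersion v]
    (c : A ⟶ Y) [Flat c] [Surjective c] (l : A ⟶ X) (hl : l ≫ v = c) : IsIso v := by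
  refine IsClosedImmersion.isIso_iff_ker_eq_bot.2
    (H06Desc.comap_injective_of_flat_surjective c ?_)
  change v.ker.comap c = (⊥ : Y.IdealSheafData).comap c
  rw [Scheme.IdealSheafData.comap_bot, comap_eq_bot_iff_factors]
  refine ⟨l ≫ v.toImage, ?_⟩
  rw [Category.assoc]
  exact (congrArg (l ≫ ·) v.toImage_imageι).trans hl

/-- The section over an object of a slice. -/
lemma secMor_slice_obj {M : AlgSp.Sp S} {U : Over S} (F : FibCat.overCat U ⥤ᵇ AlgSt.ofSp M)
    (o : (FibCat.overCat U).obj) :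
    H14LocalCat.secMor F o = (AlgSp.yon S).map o.hom ≫ H14LocalCat.secMor F (topObj U) :=
  (H14LocalCat.secMor_natural F (toTop o)).symm

/-- Isomorphic restrictions of two slices have equal sections. -/
lemma secMor_restr_eq {M : AlgSp.Sp S} {U V A : Over S} {π : 𝒳 ⥤ᵇ AlgSt.ofSp M}
    {z : FibCat.overCat V ⥤ᵇ 𝒳} {x : FibCat.overCat U ⥤ᵇ 𝒳} {c : A ⟶ V} {d : A ⟶ U}
    (j : BasedFunctor.comp (AlgSt.overMap c) z ≅ BasedFunctor.comp (AlgSt.overMap d) x) :
    (AlgSp.yon S).map c ≫ H14LocalCat.secMor (BasedFunctor.comp z π) (topObj V) =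
      (AlgSp.yon S).map d ≫ H14LocalCat.secMor (BasedFunctor.comp x π) (topObj U) := by
  have h := H14LocalCat.secMor_eq_of_iso ((post (FibCat.overCat A) π).mapIso j) (topObj A)
  have key : ∀ {W : Over S} (k : A ⟶ W) (w : FibCat.overCat W ⥤ᵇ 𝒳),
      H14LocalCat.secMor (BasedFunctor.comp (BasedFunctor.comp (AlgSt.overMap k) w) π) (topObj A) =
        (AlgSp.yon S).map k ≫ H14LocalCat.secMor (BasedFunctor.comp w π) (topObj W) := by
    intro W k w
    refine (H14LocalCat.secMor_comp (AlgSt.overMap k) (BasedFunctor.comp w π) (topObj A)).trans ?_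
    rw [secMor_slice_obj (BasedFunctor.comp w π) ((AlgSt.overMap k).obj (topObj A)), ← Category.assoc,
      ← Functor.map_comp]
    refine congrArg (fun m => (AlgSp.yon S).map m ≫ _) ?_
    change eqToHom (rfl : A = A) ≫ 𝟙 A ≫ k = k
    rw [eqToHom_refl, Category.id_comp, Category.id_comp]
  exact (key c z).symm.trans (h.trans (key d x))

/-- The space under a reduced stack is reduced. -/
theorem etaleLocally_isReduced_of_catModuli (h𝒳 : AlgSt.IsAlgStack Scheme.fppfPrecoverage 𝒳)
    (hred : AlgSt.SmoothLocally (fun X => AlgebraicGeometry.IsReduced X) 𝒳)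
    {M : AlgSp.Sp S} {π : 𝒳 ⥤ᵇ AlgSt.ofSp M} (hπ : AlgSt.IsCatModuli π) :
    AlgSp.EtaleLocally (fun U => AlgebraicGeometry.IsReduced U) M := by
  have hX := h𝒳.isStack.1
  obtain ⟨Z, i, hi, hrange, hZred⟩ := S10192.result ⟨M, hπ.1⟩ Set.univ isClosed_univ
  have hmono : Mono i.hom := H12AlgSp.mono_of_yon fun W a b e => by
    obtain ⟨A, p, q, sqA⟩ := hi.rep (a ≫ i.hom)
    have : IsClosedImmersion p.left := hi.property (a ≫ i.hom) q p sqA
    have : Mono p := (Over.forget S).mono_of_mono_map (inferInstanceAs (Mono p.left))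
    obtain ⟨k, hk⟩ := (AlgSp.yon S).map_surjective (sqA.lift a (𝟙 _) (by simp))
    obtain ⟨k', hk'⟩ := (AlgSp.yon S).map_surjective (sqA.lift b (𝟙 _) (by simp [← e]))
    have hkk : k = k' := by
      rw [← cancel_mono p]
      apply (AlgSp.yon S).map_injective
      rw [Functor.map_comp, Functor.map_comp, hk, hk', sqA.lift_snd, sqA.lift_snd]
    have h1 := sqA.lift_fst a (𝟙 _) (by simp)
    have h2 := sqA.lift_fst b (𝟙 _) (by simp [← e])
    rw [← h1, ← h2, ← hk, ← hk', hkk]
  obtain ⟨U, x, hx, hxs⟩ := h𝒳.atlas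
  have hU : AlgebraicGeometry.IsReduced U.left := hred U x hx
  obtain ⟨gU, hgU⟩ := (S10193.result (Y := ⟨_, AlgSp.IsAlgSpace.yon_obj U⟩) i hi (etaleLocally_yon hU)
    (ObjectProperty.homMk (H14LocalCat.secMor (BasedFunctor.comp x π) (topObj U)))).2 (hrange ▸ Set.subset_univ _)
  have hfac : ∀ ξ : 𝒳.obj, ∃ k, k ≫ i.hom = H14LocalCat.secMor π ξ := by
    intro ξ
    obtain ⟨z, ⟨ez⟩⟩ := exists_slice_through hX ξ
    obtain ⟨A, c, d, hcs, hcsj, ⟨j⟩⟩ := exists_lift_atlas hX hx hxs z
    obtain ⟨R, v, fst, sq⟩ := hi.rep (H14LocalCat.secMor π ξ)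
    have : IsClosedImmersion v.left := hi.property _ fst v sq
    let e' : 𝒳.p.obj ξ ⟶ 𝒳.p.obj ξ := eqToHom (z.w_obj (topObj _)).symm ≫ 𝒳.p.map ez.hom
    haveI : IsIso e' := inferInstance
    let c' : A ⟶ 𝒳.p.obj ξ := c ≫ e'
    have hcomm : (AlgSp.yon S).map c' ≫ H14LocalCat.secMor π ξ = ((AlgSp.yon S).map d ≫ gU.hom) ≫ i.hom := by
      have hg' : gU.hom ≫ i.hom = H14LocalCat.secMor (BasedFunctor.comp x π) (topObj U) :=
        congrArg (fun m => m.hom) hgU
      rw [Category.assoc, hg', ← secMor_restr_eq j, Functor.map_comp, Category.assoc]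
      refine congrArg (fun m => (AlgSp.yon S).map c ≫ m) ?_
      refine Eq.trans ?_ (H14LocalCat.secMor_comp z π (topObj _)).symm
      rw [Functor.map_comp, Category.assoc, H14LocalCat.secMor_natural π ez.hom]
    obtain ⟨l, hl⟩ := (AlgSp.yon S).map_surjective (sq.lift _ _ hcomm.symm)
    have hlv : l ≫ v = c' := (AlgSp.yon S).map_injective (by rw [Functor.map_comp, hl, sq.lift_snd])
    haveI : IsIso e'.left := inferInstanceAs (IsIso ((Over.forget S).map e'))
    haveI := hcs
    haveI := hcsj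
    haveI : Flat c.left := inferInstance
    haveI : Flat c'.left := inferInstanceAs (Flat (c.left ≫ e'.left))
    haveI : Surjective c'.left := inferInstanceAs (Surjective (c.left ≫ e'.left))
    haveI : IsIso v.left := isIso_of_flat_surjective_factor v.left c'.left l.left
      (by rw [← Over.comp_left, hlv])
    haveI : IsIso ((Over.forget S).map v) := ‹IsIso v.left›
    haveI : IsIso v := isIso_of_reflects_iso v (Over.forget S)
    refine ⟨(AlgSp.yon S).map (inv v) ≫ fst, ?_⟩
    rw [Category.assoc, sq.w, ← Category.assoc, ← Functor.map_comp, IsIso.inv_hom_id,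
      CategoryTheory.Functor.map_id, Category.id_comp]
  choose k hk using hfac
  let φ : 𝒳 ⥤ᵇ AlgSt.ofSp Z.obj := mkFun (fun ξ => (AlgSp.J S).uliftYonedaEquiv (k ξ)) (fun {a b} f => by
    rw [H14Quot.equiv_map]
    refine congrArg _ ((cancel_mono i.hom).1 ?_)
    rw [Category.assoc, hk, hk]
    exact H14LocalCat.secMor_natural π f)
  have hφ : ∀ ξ, H14LocalCat.secMor φ ξ = k ξ := fun ξ => by
    apply (AlgSp.J S).uliftYonedaEquiv.injective
    rw [H14LocalCat.secMor, Equiv.apply_symm_apply]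
    exact secAt_mkFun (fun ξ => (AlgSp.J S).uliftYonedaEquiv (k ξ)) _ ξ
  obtain ⟨g, ⟨e⟩, -⟩ := hπ.2 Z.obj Z.property φ
  have hid : g ≫ i.hom = 𝟙 M := by
    refine (hπ.2 M hπ.1 π).unique ?_ ?_
    · refine H14LocalCat.nonempty_iso fun ξ => ?_
      rw [H14LocalCat.secMor_ofSpMap, ← Category.assoc, ← H14LocalCat.secMor_ofSpMap,
        H14LocalCat.secMor_eq_of_iso e, hφ, hk]
    · refine H14LocalCat.nonempty_iso fun ξ => ?_
      rw [H14LocalCat.secMor_ofSpMap, Category.comp_id]
  haveI : IsSplitEpi i.hom := ⟨⟨⟨g, hid⟩⟩⟩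
  haveI : IsIso i.hom := isIso_of_mono_of_isSplitEpi i.hom
  obtain ⟨V, p, hp, hps, hV⟩ := hZred
  exact ⟨V, p ≫ i.hom, H12AlgSp.repWith_comp hp (H12AlgSp.repWith_of_isIso _),
    H12AlgSp.repWith_comp hps (H12AlgSp.repWith_of_isIso _), hV⟩

end Groth.Agent.H14CohBC
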