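import Groth.Agent.H14CohBC.GoodClosure
import Groth.Agent.H14CohBC.GoodUniversal
import Groth.Agent.H14CohBC.ReducedModuli
import Groth.Agent.H14QCoh.ToBase
import Groth.Agent.H12AlgSp.DecentClosed
import Groth.Agent.H12AlgSp.LimitDescendAffine
import Groth.Agent.H12AlgSp.QSPullback

/-!
# Geometric points with the same image in a good moduli space
-/

set_option autoImplicit false
set_option linter.style.haveILetI false
set_option backward.isDefEq.respectTransparency false
set_option backward.isDefEq.respectTransparency.types false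

universe u

open CategoryTheory CategoryTheory.Limits AlgebraicGeometry Opposite TopologicalSpace

noncomputable section

namespace Groth.Agent.H14CohBC

open H14Fib H14AlgSt H14Stk

variable {S : Scheme.{u}}

/-- The section of the tautological chart. -/
lemma secMor_ofOverCat (T : Over S) :
    H14LocalCat.secMor (AlgSt.ofOverCat T) (topObj T) = 𝟙 ((AlgSp.yon S).obj T) := by
  apply (AlgSp.J S).uliftYonedaEquiv.injective
  rw [H14LocalCat.secMor, Equiv.apply_symm_apply]
  exact H14Stk.pmap_id _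

/-- A functor from a slice to a space is given by its section. -/
lemma nonempty_iso_secMor {T : Over S} {N : AlgSp.Sp S} (F : FibCat.overCat T ⥤ᵇ AlgSt.ofSp N) :
    Nonempty (F ≅ BasedFunctor.comp (AlgSt.ofOverCat T) (AlgSt.ofSpMap (H14LocalCat.secMor F (topObj T)))) :=
  H14LocalCat.nonempty_iso fun o => by
    rw [secMor_slice_obj, secMor_slice_obj (BasedFunctor.comp (AlgSt.ofOverCat T) _),
      H14LocalCat.secMor_ofSpMap, secMor_ofOverCat]
    exact congrArg (fun m => _ ≫ m) (Category.id_comp _).symm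

variable [QuasiSeparatedSpace S] {𝒳 : AlgSt.Cat S} {M : AlgSp.Space S} {π : 𝒳 ⥤ᵇ AlgSt.ofSp M.obj}

/-- Field-valued points have the same image iff the closures of their rational points over the field meet. -/
theorem GoodSetup.comp_eq_iff (G : GoodSetup π) (hM : AlgSp.IsQuasiSeparatedSp M.obj)
    (τ : 𝒳 ⥤ᵇ AlgSt.ofSch (Over.mk (𝟙 S))) {k : Type u} [Field k] (str : Spec (CommRingCat.of k) ⟶ S)
    (c : Over.mk str ⟶ Over.mk (𝟙 S)) (x₁ x₂ : FibCat.overCat (Over.mk str) ⥤ᵇ 𝒳)
    (e₁ : BasedFunctor.comp x₁ τ ≅ BasedFunctor.comp (AlgSt.ofOverCat (Over.mk str)) (AlgSt.ofSpMap ((AlgSp.yon S).map c)))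
    (e₂ : BasedFunctor.comp x₂ τ ≅ BasedFunctor.comp (AlgSt.ofOverCat (Over.mk str)) (AlgSt.ofSpMap ((AlgSp.yon S).map c)))
    (t : Spec (CommRingCat.of k)) :
    BasedFunctor.comp x₁ π = BasedFunctor.comp x₂ π ↔
      (closure {AlgSt.Points.ofChart (FibCat.fpLift x₁ (AlgSt.ofOverCat (Over.mk str)) e₁) t} ∩
        closure {AlgSt.Points.ofChart (FibCat.fpLift x₂ (AlgSt.ofOverCat (Over.mk str)) e₂) t}).Nonempty := by
  let T : Over S := Over.mk str
  haveI : IsAffine T.left := inferInstanceAs (IsAffine (Spec _))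
  haveI : Subsingleton T.left := inferInstanceAs (Subsingleton (PrimeSpectrum k))
  haveI : AlgebraicGeometry.IsReduced T.left := inferInstanceAs (AlgebraicGeometry.IsReduced (Spec (CommRingCat.of k)))
  let b := AlgSt.ofSpMap ((AlgSp.yon S).map c)
  have hT := isAlgStack_ofSp (S := S) ⟨_, AlgSp.IsAlgSpace.yon_obj T⟩
  have hB := isAlgStack_ofSp (S := S) ⟨_, AlgSp.IsAlgSpace.yon_obj (Over.mk (𝟙 S))⟩
  have hP := isAlgStack_fp' G.h𝒳 hT hB τ b
  let L := fun (x : FibCat.overCat T ⥤ᵇ 𝒳) (e : BasedFunctor.comp x τ ≅ BasedFunctor.comp (AlgSt.ofOverCat T) b) =>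
    FibCat.fpLift (F := τ) (G := b) x (AlgSt.ofOverCat T) e
  refine ⟨fun h => ?_, fun ⟨z, hz₁, hz₂⟩ => ?_⟩
  · by_contra hne
    let y : (AlgSp.yon S).obj T ⟶ M.obj := H14LocalCat.secMor (BasedFunctor.comp x₁ π) (topObj T)
    let J : FibCat.fp (AlgSt.ofSpMap y) π ⥤ᵇ FibCat.fp τ b :=
      FibCat.fpLift (FibCat.fpSnd (AlgSt.ofSpMap y) π) (FibCat.fpFst (AlgSt.ofSpMap y) π)
        (eqToIso (H14QCoh.toBase_unique _ _))
    have hJ := continuous_points_map hP J
    obtain ⟨i₁⟩ := nonempty_iso_secMor (BasedFunctor.comp x₁ π)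
    obtain ⟨r, r₁, r₂⟩ := exists_separating_fibre y G _ _ (isClosed_closure.preimage hJ)
      (isClosed_closure.preimage hJ)
      ((Set.disjoint_iff_inter_eq_empty.2 (Set.not_nonempty_iff_eq_empty.1 hne)).preimage _)
    have key : ∀ (x : FibCat.overCat T ⥤ᵇ 𝒳) (e : BasedFunctor.comp x τ ≅ BasedFunctor.comp (AlgSt.ofOverCat T) b),
        BasedFunctor.comp x₁ π = BasedFunctor.comp x π → ∃ w : AlgSt.Points (FibCat.fp (AlgSt.ofSpMap y) π),
          AlgSt.Points.map J w = AlgSt.Points.ofChart (L x e) t := by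
      intro x e hx
      let Lf := FibCat.fpLift (F := AlgSt.ofSpMap y) (G := π) (AlgSt.ofOverCat T) x (i₁.symm ≪≫ eqToIso hx)
      refine ⟨AlgSt.Points.ofChart Lf t, ?_⟩
      rw [← ofChart_comp]
      refine ofChart_iso (show BasedFunctor.comp Lf J ≅ L x e from mkIso (fun o => fpIsoMk (Iso.refl _) (Iso.refl _) (Stk.EltObj.hom_ext ?_))
        (fun {_ _} _ => fp_hom_ext ((Category.comp_id _).trans (Category.id_comp _).symm)
          ((Category.comp_id _).trans (Category.id_comp _).symm))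
        (fun o => (fp_isHomLift_iff _ _).2 (IsHomLift.id (x.w_obj o)))) t
      have h1 := @IsHomLift.fac' _ _ _ _ (AlgSt.ofSch (Over.mk (𝟙 S))).p _ _ _ _ _ _
        ((BasedFunctor.comp Lf J).obj o).property
      have h2 := @IsHomLift.fac' _ _ _ _ (AlgSt.ofSch (Over.mk (𝟙 S))).p _ _ _ _ _ _
        ((L x e).obj o).property
      change (τ.map (𝟙 _)).hom ≫ ((L x e).obj o).obj.iso.hom.hom =
        ((BasedFunctor.comp Lf J).obj o).obj.iso.hom.hom ≫ (b.map (𝟙 _)).hom
      erw [τ.toFunctor.map_id, b.toFunctor.map_id, Category.id_comp, Category.comp_id]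
      exact h2.trans (Eq.trans (by simp) h1.symm)
    obtain ⟨w₁, hw₁⟩ := key x₁ e₁ rfl
    obtain ⟨w₂, hw₂⟩ := key x₂ e₂ h
    rcases mem_basicOpen_or r (tImg π y w₁) with h' | h'
    · exact r₁ w₁ (show _ ∈ closure _ from hw₁ ▸ subset_closure rfl) h'
    · exact r₂ w₂ (show _ ∈ closure _ from hw₂ ▸ subset_closure rfl) (Subsingleton.elim (tImg π y w₁) (tImg π y w₂) ▸ h')
  · let T' : AlgSp.Sp S := M.obj ⨯ (AlgSp.yon S).obj T
    let ht : IsTerminal ((AlgSp.yon S).obj (Over.mk (𝟙 S))) := IsTerminal.isTerminalObj (AlgSp.yon S) _ Over.mkIdTerminal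
    have hP' : AlgSp.IsAlgSpace T' := H12AlgSp.isAlgSpace_of_isPullback
      (AlgSp.IsAlgSpace.yon_obj (Over.mk (𝟙 S))).diag M.property (AlgSp.IsAlgSpace.yon_obj T)
      (show IsPullback (prod.fst : T' ⟶ M.obj) prod.snd (ht.from _) (ht.from _) from
        IsPullback.of_is_product (prodIsProd M.obj _) ht)
    have hqs : AlgSp.IsQuasiSeparatedSp T' := H12AlgSp.isQuasiSeparatedSp_prod hM
      ((AlgSp.repWith_diag_yon_iff @QuasiCompact T).2 inferInstance)
    have hd := H12AlgSp.isDecent_of_isQuasiSeparatedSp hP' hqs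
    let pr := FibCat.fpFst τ b
    let sn := FibCat.fpSnd τ b
    let σ : (ω : (FibCat.fp τ b).obj) → (AlgSp.yon S).obj ((FibCat.fp τ b).p.obj ω) ⟶ T' := fun ω =>
      prod.lift (H14LocalCat.secMor (BasedFunctor.comp pr π) ω) (H14LocalCat.secMor sn ω)
    let Φ : FibCat.fp τ b ⥤ᵇ AlgSt.ofSp T' := mkFun (fun ω => (AlgSp.J S).uliftYonedaEquiv (σ ω)) (fun {a a'} f => by
      rw [H14Quot.equiv_map]
      refine congrArg _ (Limits.prod.hom_ext ?_ ?_)
      · rw [Category.assoc, prod.lift_fst, prod.lift_fst]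
        exact H14LocalCat.secMor_natural _ f
      · rw [Category.assoc, prod.lift_snd, prod.lift_snd]
        exact H14LocalCat.secMor_natural sn f)
    have hΦ : ∀ ω, H14LocalCat.secMor Φ ω = σ ω := fun ω => by
      apply (AlgSp.J S).uliftYonedaEquiv.injective
      rw [H14LocalCat.secMor, Equiv.apply_symm_apply]
      exact secAt_mkFun (fun ω => (AlgSp.J S).uliftYonedaEquiv (σ ω)) _ ω
    let g := fun (x : FibCat.overCat T ⥤ᵇ 𝒳) (e : BasedFunctor.comp x τ ≅ BasedFunctor.comp (AlgSt.ofOverCat T) b) =>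
      (show (AlgSp.yon S).obj T ⟶ T' from H14LocalCat.secMor (BasedFunctor.comp (L x e) Φ) (topObj T))
    have hg : ∀ x e, g x e ≫ prod.fst = H14LocalCat.secMor (BasedFunctor.comp x π) (topObj T) ∧
        g x e ≫ prod.snd = 𝟙 ((AlgSp.yon S).obj T) := fun x e => by
      have h0 : g x e = _ := H14LocalCat.secMor_comp (L x e) Φ (topObj T)
      constructor
      · rw [h0, hΦ, Category.assoc, prod.lift_fst]
        exact (H14LocalCat.secMor_comp (L x e) (BasedFunctor.comp pr π) (topObj T)).symm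
      · rw [h0, hΦ, Category.assoc, prod.lift_snd]
        exact (H14LocalCat.secMor_comp (L x e) sn (topObj T)).symm.trans (secMor_ofOverCat T)
    have hpt : ∀ x e, z ∈ closure {AlgSt.Points.ofChart (L x e) t} →
        AlgSt.Points.map Φ z = spEquiv T' (AlgSp.Points.ofPt (g x e) t) := by
      intro x e hz
      obtain ⟨i⟩ := nonempty_iso_secMor (BasedFunctor.comp (L x e) Φ)
      have hpx : AlgSt.Points.map Φ (AlgSt.Points.ofChart (L x e) t) = spEquiv T' (AlgSp.Points.ofPt (g x e) t) :=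
        (ofChart_comp (L x e) Φ t).symm.trans ((ofChart_iso i t).trans (spEquiv_ofPt (g x e) t).symm)
      have hcl : IsClosed ({spEquiv T' (AlgSp.Points.ofPt (g x e) t)} : Set (AlgSt.Points (AlgSt.ofSp T'))) := by
        have h := H12AlgSp.isClosed_point_of_integral hP' hd (g x e) prod.snd (𝟙 T)
          (by rw [(hg x e).2, CategoryTheory.Functor.map_id])
          (inferInstanceAs (IsIntegralHom (𝟙 (Spec (CommRingCat.of k))))) t
        have e' : ({spEquiv T' (AlgSp.Points.ofPt (g x e) t)} : Set (AlgSt.Points (AlgSt.ofSp T'))) =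
            spHomeo ⟨T', hP'⟩ '' {AlgSp.Points.ofPt (g x e) t} := by
          rw [Set.image_singleton]
          rfl
        rw [e']
        exact (spHomeo ⟨T', hP'⟩).isClosedMap _ h
      exact closure_minimal (t := AlgSt.Points.map Φ ⁻¹' {spEquiv T' (AlgSp.Points.ofPt (g x e) t)})
        (Set.singleton_subset_iff.2 hpx) (hcl.preimage (continuous_points_map (isAlgStack_ofSp ⟨T', hP'⟩) Φ)) hz
    have hp : AlgSp.Points.ofPt (g x₁ e₁) t = AlgSp.Points.ofPt (g x₂ e₂) t :=
      (spEquiv T').injective ((hpt x₁ e₁ hz₁).symm.trans (hpt x₂ e₂ hz₂))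
    have hcl₁ := H12AlgSp.repWith_closedImmersion_section hP' hd (g x₁ e₁) prod.snd (hg x₁ e₁).2
    obtain ⟨V, v, fst, sq⟩ := hcl₁.rep (g x₂ e₂)
    haveI : IsClosedImmersion v.left := hcl₁.property (g x₂ e₂) fst v sq
    have hsv : t ∈ Set.range v.left := by
      rw [← H12AlgSp.preimage_ofPt_range sq]
      exact ⟨AlgSp.Points.ofScheme T t, (AlgSp.Points.ofPt_eq_map_ofScheme (g x₁ e₁) t).symm.trans hp⟩
    haveI : Surjective v.left := ⟨fun a => by
      obtain ⟨w, hw⟩ := hsv
      exact ⟨w, hw.trans (Subsingleton.elim _ _)⟩⟩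
    haveI : IsIso v.left := isIso_of_isClosedImmersion_of_surjective _
    haveI : IsIso ((Over.forget S).map v) := ‹IsIso v.left›
    haveI : IsIso v := isIso_of_reflects_iso v (Over.forget S)
    have hgg : g x₁ e₁ = g x₂ e₂ := by
      have h2 := congrArg (fun m => m ≫ (prod.snd : T' ⟶ _)) sq.w
      simp only [Category.assoc] at h2
      rw [(hg x₁ e₁).2, (hg x₂ e₂).2, Category.comp_id, Category.comp_id] at h2
      rw [← cancel_epi ((AlgSp.yon S).map v), ← sq.w, h2]
    obtain ⟨i₁⟩ := nonempty_iso_secMor (BasedFunctor.comp x₁ π)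
    obtain ⟨i₂⟩ := nonempty_iso_secMor (BasedFunctor.comp x₂ π)
    refine H14Quot.eq_of_iso_ofSp (i₁ ≪≫ eqToIso ?_ ≪≫ i₂.symm)
    rw [← (hg x₁ e₁).1, ← (hg x₂ e₂).1, hgg]

end Groth.Agent.H14CohBC
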