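import Groth.Agent.H14CohBC.GoodField
import Groth.Agent.H14CohBC.CohAffCancel
import Groth.Agent.H14QCoh.ToBase
import Groth.Agent.H14Gerbe.FieldImage
import Groth.Agent.S16877
import Groth.Agent.H12AlgSp.DecentClosed
import Groth.Agent.H12AlgSp.LimitDescendAffine
import Mathlib.CategoryTheory.Sites.LocallyBijective

/-!
# Residual gerbes of closed points of good moduli spaces
-/

set_option autoImplicit false
set_option linter.style.haveILetI false
set_option backward.isDefEq.respectTransparency false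
set_option backward.isDefEq.respectTransparency.types false

universe u

open CategoryTheory CategoryTheory.Limits AlgebraicGeometry Opposite TopologicalSpace

noncomputable section

namespace Groth.Agent.H14CohBC

open H14Fib H14AlgSt H14Stk H14QCoh

variable {S : Scheme.{u}} {𝒳 : AlgSt.Cat S}

local notation "K₀" => Scheme.fppfPrecoverage

/-- A functor to a sheaf factors through the space of a gerbe. -/
theorem exists_factor_of_gerbe (hX : AlgSt.IsAlgStack K₀ 𝒳) {X : AlgSp.Space S} {π : 𝒳 ⥤ᵇ AlgSt.ofSp X.obj}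
    (hπ : Gerb.IsGerbeOver (QuotSh.J K₀ S) π) {N : AlgSp.Sp S} (φ : 𝒳 ⥤ᵇ AlgSt.ofSp N) :
    ∃ g : X.obj ⟶ N, ∀ ω, H14LocalCat.secMor π ω ≫ g = H14LocalCat.secMor φ ω := by
  haveI : FibCat.IsFibGrpd 𝒳.p := hX.isStack.1
  obtain ⟨c, hc, hs, hi⟩ := S16877.result S 𝒳 hX X π hπ
  have hW : (AlgSp.J S).W c := by
    haveI : Presheaf.IsLocallySurjective (AlgSp.J S) c := hs
    haveI : Presheaf.IsLocallyInjective (AlgSp.J S) c := hi
    exact (AlgSp.J S).W_of_isLocallyBijective c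
  obtain ⟨g, hg⟩ := (hW N.obj N.property).2 (S16877.cls φ)
  refine ⟨ObjectProperty.homMk g, fun ω => ?_⟩
  apply (AlgSp.J S).uliftYonedaEquiv.injective
  rw [GrothendieckTopology.uliftYonedaEquiv_comp, H14LocalCat.secMor, H14LocalCat.secMor,
    Equiv.apply_symm_apply, Equiv.apply_symm_apply]
  have h := congrArg (fun e => e.app (op (𝒳.p.obj ω)) (Quot.mk _ (Gerb.fib ω))) hg
  refine Eq.trans ?_ (h.trans (H14Stk.pmap_id _))
  exact congrArg (g.app (op (𝒳.p.obj ω))) (hc ω).symm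

/-- Cohomological affineness passes to composites with affine morphisms of spaces. -/
theorem isCohAffine_postcomp {A B : AlgSp.Sp S} (ρ : 𝒳 ⥤ᵇ AlgSt.ofSp A) (p : A ⟶ B)
    (hp : AlgSp.RepWith @IsAffineHom p) (h : StMod.IsCohAffine ρ) :
    StMod.IsCohAffine (BasedFunctor.comp ρ (AlgSt.ofSpMap p)) := by
  intro F G u hu E hE t
  obtain ⟨W, w, fst, sq⟩ := hp.rep E.obj.hom
  haveI : IsAffineHom w.left := hp.property E.obj.hom fst w sq
  haveI := hE
  have hW : IsAffine W.left := isAffine_of_isAffineHom w.left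
  let E' : AlgSp.EtOver A := AlgSp.EtOver.mk fst (H12AlgSp.repWith_of_isPullback sq.flip E.property)
  let c : (AlgSt.ofSpMap p).obj (etaT fst) ⟶ etaT E.obj.hom := ⟨w, by
    change B.obj.map w.op ((AlgSp.J S).uliftYonedaEquiv E.obj.hom) = p.hom.app _ ((AlgSp.J S).uliftYonedaEquiv fst)
    rw [H14Quot.equiv_map, ← sq.w, GrothendieckTopology.uliftYonedaEquiv_comp]⟩
  have huniq : ∀ (ξ : 𝒳.obj) (α : (BasedFunctor.comp ρ (AlgSt.ofSpMap p)).obj ξ ⟶ etaT E.obj.hom),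
      ∃! β : ρ.obj ξ ⟶ etaT fst, (AlgSt.ofSpMap p).map β ≫ c = α := by
    intro ξ α
    have hv : H14LocalCat.secMor ρ ξ ≫ p = (AlgSp.yon S).map (bo _ α) ≫ E.obj.hom :=
      (H14LocalCat.secMor_ofSpMap ρ p ξ).symm.trans (secMor_eq_of_arrow _ α)
    obtain ⟨k, hk⟩ := (AlgSp.yon S).map_surjective (sq.lift (H14LocalCat.secMor ρ ξ) _ hv)
    obtain ⟨β, hβ⟩ := exists_arrow fst k (by rw [hk, sq.lift_fst])
    have hkw : k ≫ w = bo _ α := (AlgSp.yon S).map_injective (by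
      rw [Functor.map_comp, hk, sq.lift_snd])
    refine ⟨β, Stk.EltObj.hom_ext ?_, fun β' hβ' => Stk.EltObj.hom_ext ?_⟩
    · rw [← cancel_epi (eqToHom (ρ.w_obj ξ).symm)]
      change eqToHom _ ≫ β.hom ≫ w = eqToHom _ ≫ α.hom
      have e : bo fst β ≫ w = bo _ α := by rw [hβ, hkw]
      exact (Category.assoc _ _ _).symm.trans e
    · have e1 : (AlgSp.yon S).map (bo fst β') = (AlgSp.yon S).map k := sq.hom_ext
        ((secMor_eq_of_arrow fst β').symm.trans (by rw [hk, sq.lift_fst])) (by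
        rw [← Functor.map_comp, ← Functor.map_comp, hkw]
        refine congrArg _ ?_
        change (eqToHom _ ≫ β'.hom) ≫ w = _
        rw [Category.assoc]
        exact congrArg (fun m => eqToHom (ρ.w_obj ξ).symm ≫ m) (congrArg Stk.EltObj.Hom.hom hβ'))
      have e2 : bo fst β' = bo fst β := ((AlgSp.yon S).map_injective e1).trans hβ.symm
      exact (cancel_epi (eqToHom (ρ.w_obj ξ).symm)).1 e2
  choose Ψ hΨ hΨu using huniq
  let t' : StMod.Mod.RelSect ρ G.obj (StMod.etaOf E') :=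
    ⟨fun ξ β => t.1 ξ ((AlgSt.ofSpMap p).map β ≫ c), fun ξ' ξ φ β => by
      refine (t.2 φ _).trans (congrArg (t.1 ξ') ?_)
      change (AlgSt.ofSpMap p).map (ρ.map φ) ≫ (AlgSt.ofSpMap p).map β ≫ c = (AlgSt.ofSpMap p).map (ρ.map φ ≫ β) ≫ c
      rw [Functor.map_comp, Category.assoc]⟩
  obtain ⟨m, hm⟩ := h u hu E' hW t'
  refine ⟨⟨fun ξ α => m.1 ξ (Ψ ξ α), fun ξ' ξ φ α => ?_⟩, StMod.Mod.RelSect.ext _ _ _ fun ξ α => ?_⟩
  · refine (m.2 φ _).trans (congrArg (m.1 ξ') (hΨu ξ' _ (ρ.map φ ≫ Ψ ξ α) ?_))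
    change (AlgSt.ofSpMap p).map (ρ.map φ ≫ Ψ ξ α) ≫ c = (AlgSt.ofSpMap p).map (ρ.map φ) ≫ α
    rw [Functor.map_comp, Category.assoc]
    exact congrArg (fun e => (AlgSt.ofSpMap p).map (ρ.map φ) ≫ e) (hΨ ξ α)
  · exact (congrArg (fun r => r.1 ξ (Ψ ξ α)) hm).trans (congrArg (t.1 ξ) (hΨ ξ α))

variable {M : AlgSp.Space S} {π : 𝒳 ⥤ᵇ AlgSt.ofSp M.obj}

/-- The residual gerbe at a closed point of a good moduli space over an affine base is cohomologically affine. -/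
theorem GoodSetup.isCohAffine_resGerbe [IsAffine S] (G : GoodSetup π) (hM : AlgSp.IsQuasiSeparatedSp M.obj)
    (hN : AlgSt.SmoothLocally (fun T => IsLocallyNoetherian T) 𝒳) (ξ : AlgSt.Points 𝒳)
    (hξ : IsClosed ({ξ} : Set (AlgSt.Points 𝒳))) {Q : 𝒳.obj → Prop}
    (hQ : Gerb.IsResGerbe K₀ 𝒳 ξ Q) (σ : AlgSt.fullSub 𝒳 Q ⥤ᵇ AlgSt.ofSch (Over.mk (𝟙 S))) :
    StMod.IsCohAffine σ ∧ AlgSt.IsQuasiCompactMor K₀ σ := by
  obtain ⟨Q', hQc, hrange, hred⟩ := exists_reduced_substack G.h𝒳 {ξ} hξ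
  have hW : AlgSt.IsAlgStack K₀ (AlgSt.fullSub 𝒳 Q') := hQc.2.1
  have hι : AlgSt.IsImm (AlgSt.subIncl 𝒳 Q') := repWith_mono (fun _ _ _ h => H12AlgSp.repWith_le
    (fun _ _ g (_ : IsClosedImmersion g) => (inferInstance : IsImmersion g)) h) hQc.2.2
  have hne : Nonempty (AlgSt.Points (AlgSt.fullSub 𝒳 Q')) :=
    let ⟨w, _⟩ := hrange.ge (Set.mem_singleton ξ); ⟨w⟩
  have hmap : ∀ a, AlgSt.Points.map (AlgSt.subIncl 𝒳 Q') a = ξ := fun a =>
    Set.mem_singleton_iff.1 (hrange ▸ Set.mem_range_self a)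
  haveI : (AlgSt.subIncl 𝒳 Q').toFunctor.Full := inferInstanceAs (ObjectProperty.ι Q').Full
  have hsub : Subsingleton (AlgSt.Points (AlgSt.fullSub 𝒳 Q')) := ⟨fun a b =>
    points_map_injective_of_ff hW.isStack.1 G.h𝒳.isStack.1 (AlgSt.subIncl 𝒳 Q') ((hmap a).trans (hmap b).symm)⟩
  have hnoeth := noetherian_of_isImm hW G.h𝒳 hι hN
  obtain rfl : Q = Q' := funext fun a => propext
    (H14Gerbe.isResGerbe_unique G.h𝒳 hQ ⟨hQc.1, hW, hred, hnoeth, hne, hsub, hmap⟩ a).symm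
  let ι := AlgSt.subIncl 𝒳 Q
  have hS := isAlgStack_ofSp M
  have haff : AlgSt.RepByAlgSpWith AlgSp.IsAffineMor ι := repWith_mono (fun _ _ f hf => by
    refine H13AlgSp.isAffineMor_iff.2 ⟨hf.1, fun {W Z} g fst snd sq => ?_⟩
    haveI : IsClosedImmersion snd.left := hf.2 g fst snd sq
    exact (inferInstance : IsAffineHom snd.left)) hQc.2.2
  let f := BasedFunctor.comp ι π
  have hfc : StMod.IsCohAffine f := isCohAffine_comp_affine π haff hW.isStack.1 G.h𝒳.isStack.1 G.coh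
  have hιqc : AlgSt.IsQuasiCompactMor K₀ ι := isQCMor_of_repWith hW G.h𝒳 (qc_of_isImm hW G.h𝒳 hι hN)
  have hfqc : AlgSt.IsQuasiCompactMor K₀ f := isQCMor_comp hW G.h𝒳 hS hιqc G.hqc
  have hfqs : AlgSt.IsQuasiSeparatedMor f := qs_comp hW G.h𝒳 (qs_of_isImm hι) G.hqs
  have hΔ := repWith_qc_diag_of_mor hW hS hfqs ((isQuasiSeparatedSp_iff_toSelf M).1 hM)
  obtain ⟨Z, π₀, hπ₀, hrZ, -, hnZ, hsZ⟩ := H14Gerbe.exists_gerbe_singleton hW hred hnoeth hne hsub
  have hZs := isAlgStack_ofSp Z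
  have hq : AlgSp.IsQuasiSeparatedSp Z.obj := by
    refine (isQuasiSeparatedSp_iff_toSelf Z).2 ?_
    refine repWith_of_isQCMor hZs (isAlgStack_prod K₀ hZs hZs) (rep1_diag_of_algStack hZs isAlgStack_selfOver _) ?_
    exact S16870.result S _ (AlgSt.ofSp Z.obj) hW hZs π₀ hπ₀
      (isQCMor_of_repWith hW (isAlgStack_prod K₀ hW hW) hΔ)
  obtain ⟨k, _, str, ⟨i⟩⟩ := S10356.result Z (S10350.result Z hq) hrZ
  obtain ⟨g₀, hg₀⟩ := exists_factor_of_gerbe hW hπ₀ f
  let T : Over S := Over.mk str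
  haveI : IsAffine T.left := inferInstanceAs (IsAffine (Spec _))
  let ρ := BasedFunctor.comp π₀ (AlgSt.ofSpMap i.inv)
  let g : (AlgSp.yon S).obj T ⟶ M.obj := i.hom ≫ g₀
  have hcomp : BasedFunctor.comp ρ (AlgSt.ofSpMap g) = f := by
    obtain ⟨e⟩ := H14LocalCat.nonempty_iso (φ := BasedFunctor.comp ρ (AlgSt.ofSpMap g)) (ψ := f) fun ω => by
      rw [H14LocalCat.secMor_ofSpMap, H14LocalCat.secMor_ofSpMap, Category.assoc, i.inv_hom_id_assoc, hg₀]
    exact H14Quot.eq_of_iso_ofSp e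
  have hg : AlgSp.IsAffineMor (pullback.diagonal g) := by
    have hP := H12AlgSp.isAlgSpace_pullback M.property.diag (AlgSp.IsAlgSpace.yon_obj T)
      (AlgSp.IsAlgSpace.yon_obj T) g g
    have hqs' : AlgSp.IsQuasiSeparatedSp (pullback g g) := by
      have hTq : AlgSp.IsQuasiSeparatedSp ((AlgSp.yon S).obj T) :=
        (AlgSp.repWith_diag_yon_iff @QuasiCompact T).2 inferInstance
      exact H12AlgSp.isQuasiSeparatedSp_pullback hTq hTq g g
    have hcl := H12AlgSp.repWith_closedImmersion_section hP (H12AlgSp.isDecent_of_isQuasiSeparatedSp hP hqs')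
      (pullback.diagonal g) (pullback.fst g g) (pullback.diagonal_fst g)
    exact H13AlgSp.isAffineMor_iff.2 (H12AlgSp.repWith_le
      (fun _ _ v (_ : IsClosedImmersion v) => (inferInstance : IsAffineHom v)) hcl)
  obtain ⟨hρ, hρqc⟩ := isCohAffine_cancel (M := ⟨_, AlgSp.IsAlgSpace.yon_obj T⟩) (N := M) hW ρ g hg G.hqcM
    (by rw [hcomp]; exact hfqc) (by rw [hcomp]; exact hfqs) (by rw [hcomp]; exact hfc)
  let c : T ⟶ Over.mk (𝟙 S) := Over.homMk str (Category.comp_id _)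
  haveI : IsAffineHom c.left := inferInstanceAs (IsAffineHom str)
  haveI : QuasiCompact c.left := inferInstance
  have hc : AlgSp.RepWith @IsAffineHom ((AlgSp.yon S).map c) := (AlgSp.repWith_yon_map_iff _ c).2 inferInstance
  rw [H14QCoh.toBase_unique σ (BasedFunctor.comp ρ (AlgSt.ofSpMap ((AlgSp.yon S).map c)))]
  have hT := isAlgStack_ofSp (S := S) ⟨_, AlgSp.IsAlgSpace.yon_obj T⟩
  have hB := isAlgStack_ofSp (S := S) ⟨_, AlgSp.IsAlgSpace.yon_obj (Over.mk (𝟙 S))⟩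
  refine ⟨isCohAffine_postcomp ρ _ hc hρ, isQCMor_comp hW hT hB hρqc (isQCMor_of_repWith hT hB
    (repWith_ofSpMap_of_representable _ _ (AlgSp.representable_yon_map c) fun U V g' fst v sq =>
      (isQuasiCompactMor_yon_iff v).2 ?_))⟩
  haveI : IsAffineHom v.left := hc.property g' fst v sq
  infer_instance

end Groth.Agent.H14CohBC
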