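import Groth.Agent.H14CohBC.GoodUnivClosed
import Groth.Agent.H14AlgSt.PointsSpace
import Groth.Agent.H14AlgSt.ProdMap
import Groth.Agent.H14AlgSt.SmoothTot
import Groth.Agent.H14Quot.Factor
import Groth.Agent.H12AlgSp.Points
import Groth.Agent.H12AlgSp.DecentClosed

/-!
# Separatedness of a tame moduli space
-/

set_option autoImplicit false
set_option backward.isDefEq.respectTransparency false
set_option backward.isDefEq.respectTransparency.types false

universe u

open CategoryTheory CategoryTheory.Limits AlgebraicGeometry Opposite TopologicalSpace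
open AlgSp (yon J Sp RepWith IsAlgSpace)

noncomputable section

namespace Groth.Agent.H14CohBC

open H14Fib H14AlgSt H14Stk H14QCoh

variable {S : Scheme.{u}}

local notation "K₀" => Scheme.fppfPrecoverage

/-- A base change on the second factor of a universal homeomorphism. -/
theorem isHomeomorph_fpSnd {𝒳 𝒴 𝒲 : AlgSt.Cat S} (h𝒳 : AlgSt.IsAlgStack K₀ 𝒳) (h𝒴 : AlgSt.IsAlgStack K₀ 𝒴)
    (h𝒲 : AlgSt.IsAlgStack K₀ 𝒲) {f : 𝒳 ⥤ᵇ 𝒴} (hf : AlgSt.IsUnivHomeo K₀ f) (g : 𝒲 ⥤ᵇ 𝒴) :
    IsHomeomorph (AlgSt.Points.map (FibCat.fpSnd f g)) := by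
  have h1 := isAlgStack_fp' h𝒳 h𝒲 h𝒴 f g
  have h2 := isAlgStack_fp' h𝒲 h𝒳 h𝒴 g f
  have e : AlgSt.Points.map (FibCat.fpSnd f g) =
      AlgSt.Points.map (FibCat.fpFst g f) ∘ pointsHomeo h1 h2 (fpSwap_isEquivOver f g) := by
    funext w
    rw [Function.comp_apply, pointsHomeo_apply, ← points_map_comp, fpSwap_fst]
  rw [e]
  exact (hf 𝒲 h𝒲 g).comp (Homeomorph.isHomeomorph _)

/-- Self products over the base of a universal homeomorphism. -/
theorem isClosed_range_diag_comp {𝒳 𝒴 𝒵 : AlgSt.Cat S} (h𝒳 : AlgSt.IsAlgStack K₀ 𝒳)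
    (h𝒴 : AlgSt.IsAlgStack K₀ 𝒴) {f : 𝒳 ⥤ᵇ 𝒴} (hf : AlgSt.IsUnivHomeo K₀ f) (hs : Function.Surjective (AlgSt.Points.map f))
    (q : 𝒴 ⥤ᵇ 𝒵) (hT : AlgSt.IsAlgStack K₀ (FibCat.fp q q))
    (hT' : AlgSt.IsAlgStack K₀ (FibCat.fp q (BasedFunctor.comp f q)))
    (hT'' : AlgSt.IsAlgStack K₀ (FibCat.fp (BasedFunctor.comp f q) (BasedFunctor.comp f q))) :
    IsClosed (Set.range (AlgSt.Points.map (FibCat.diag (BasedFunctor.comp f q)))) ↔
      IsClosed (Set.range (AlgSt.Points.map (FibCat.diag q))) := by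
  let qf := BasedFunctor.comp f q
  let e : BasedFunctor.comp (BasedFunctor.comp (FibCat.fpFst qf qf) f) q ≅
      BasedFunctor.comp (BasedFunctor.comp (FibCat.fpSnd qf qf) f) q := FibCat.fpIso qf qf
  let L : FibCat.fp qf qf ⥤ᵇ FibCat.fp q q :=
    FibCat.fpLift (BasedFunctor.comp (FibCat.fpFst qf qf) f) (BasedFunctor.comp (FibCat.fpSnd qf qf) f) e
  obtain ⟨i⟩ := prodMap_iso q q f f e (fun x => rfl)
  obtain ⟨j⟩ := prodSnd_iso q q f
  let P := FibCat.fp f (FibCat.fpFst q qf)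
  have hP : AlgSt.IsAlgStack K₀ P := isAlgStack_fp' h𝒳 hT' h𝒴 f _
  have hN : IsHomeomorph (AlgSt.Points.map (prodSnd q q f)) := by
    have h1 := isAlgStack_fp' hT h𝒳 h𝒴 (FibCat.fpSnd q q) f
    let φ := pointsHomeo h1 hT' (pasteComp_isEquivOver q q f)
    have e1 : AlgSt.Points.map (prodSnd q q f) =
        AlgSt.Points.map (FibCat.fpFst (FibCat.fpSnd q q) f) ∘ φ.symm := by
      funext w
      obtain ⟨v, rfl⟩ := φ.surjective w
      rw [Function.comp_apply, φ.symm_apply_apply, pointsHomeo_apply, ← points_map_comp, points_map_iso j]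
    rw [e1]
    exact (hf _ hT _).comp φ.symm.isHomeomorph
  have hL : IsHomeomorph (AlgSt.Points.map L) := by
    have h1 := isAlgStack_fp' h𝒳 hT' h𝒴 f (FibCat.fpFst q qf)
    let φ := pointsHomeo h1 hT'' (pasteBase_isEquivOver q qf f)
    have e1 : AlgSt.Points.map L =
        (AlgSt.Points.map (prodSnd q q f) ∘ AlgSt.Points.map (FibCat.fpSnd f (FibCat.fpFst q qf))) ∘ φ.symm := by
      funext w
      obtain ⟨v, rfl⟩ := φ.surjective w
      rw [Function.comp_apply, φ.symm_apply_apply, pointsHomeo_apply, ← points_map_comp, points_map_iso i,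
        points_map_comp]
      rfl
    rw [e1]
    exact (hN.comp (isHomeomorph_fpSnd h𝒳 h𝒴 hT' hf _)).comp φ.symm.isHomeomorph
  have k : BasedFunctor.comp (FibCat.diag qf) L ≅ BasedFunctor.comp f (FibCat.diag q) :=
    mkIso (fun x => fpIsoMk (Iso.refl _) (Iso.refl _) (by
        change q.map (𝟙 (f.obj x)) ≫ _ = _ ≫ q.map (𝟙 (f.obj x))
        rw [q.toFunctor.map_id]
        erw [Category.id_comp]))
      (fun {_ _} _ => fp_hom_ext ((Category.comp_id _).trans (Category.id_comp _).symm)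
        ((Category.comp_id _).trans (Category.id_comp _).symm))
      (fun x => (fp_isHomLift_iff _ _).2 (IsHomLift.id (f.w_obj x)))
  have hr : AlgSt.Points.map L '' Set.range (AlgSt.Points.map (FibCat.diag qf)) =
      Set.range (AlgSt.Points.map (FibCat.diag q)) := by
    rw [← Set.range_comp, show AlgSt.Points.map L ∘ AlgSt.Points.map (FibCat.diag qf) =
      AlgSt.Points.map (FibCat.diag q) ∘ AlgSt.Points.map f from funext fun w => by
        rw [Function.comp_apply, Function.comp_apply, ← points_map_comp, points_map_iso k, points_map_comp],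
      hs.range_comp]
  rw [← hr]
  exact (hL.homeomorph _).isClosed_image.symm

lemma selfFun_eq {𝒳 : AlgSt.Cat S} (F G : 𝒳 ⥤ᵇ FibCat.selfOver (Over S)) : F = G :=
  H14Quot.basedFunctor_ext (F.w.trans G.w.symm)

/-- The range of the diagonal of a space and the diagonal of its stack. -/
theorem isClosed_range_diag_toSelf_iff {M : AlgSp.Space S} :
    IsClosed (Set.range (AlgSt.Points.map (FibCat.diag (FibCat.toSelf (AlgSt.ofSp M.obj))))) ↔
      IsClosed (Set.range (AlgSp.Points.map (Limits.diag M.obj))) := by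
  let T : Over S := baseObj S
  have hT : IsTerminal ((yon S).obj T) := IsTerminal.isTerminalObj (yon S) _ Over.mkIdTerminal
  let t : M.obj ⟶ (yon S).obj T := hT.from M.obj
  have sq : IsPullback (prod.fst : M.obj ⨯ M.obj ⟶ M.obj) prod.snd t t :=
    IsPullback.of_is_product (prodIsProd M.obj M.obj) hT
  let P : AlgSp.Space S := ⟨M.obj ⨯ M.obj, H12AlgSp.isAlgSpace_of_isPullback
    (IsAlgSpace.yon_obj T).diag M.property M.property sq⟩
  have sq' := sq.map (sheafToPresheaf (AlgSp.J S) (Type (u + 1)))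
  let C : AlgSt.ofSp ((yon S).obj T) ⥤ᵇ FibCat.selfOver (Over S) :=
    BasedFunctor.comp (AlgSt.toOverCat T) (FibCat.toSelf (FibCat.overCat T))
  obtain ⟨⟨_, _⟩, -⟩ := (isEquivOver_iff C).1
    (isEquivOver_comp (toOverCat_isEquivOver T) toSelf_overCat_base_isEquivOver)
  let q := FibCat.toSelf (AlgSt.ofSp M.obj)
  let et : BasedFunctor.comp (AlgSt.ofSpMap t) C ≅ BasedFunctor.comp (BasedFunctor.id _) q :=
    eqToIso (selfFun_eq _ _)
  obtain ⟨⟨_, _⟩, -⟩ := (isEquivOver_iff (BasedFunctor.id (AlgSt.ofSp M.obj))).1 (isEquivOver_id _)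
  let W : FibCat.fp (AlgSt.ofSpMap t) (AlgSt.ofSpMap t) ⥤ᵇ FibCat.fp q q :=
    fpMap (F := q) (G := q) (BasedFunctor.id _) (BasedFunctor.id _) C et et
  have hW : FibCat.IsEquivOver W := fpMap_isEquivOver _ _ _ _ _ (essSurjOver_id _) (essSurjOver_id _)
  let E : AlgSt.ofSp P.obj ⥤ᵇ FibCat.fp q q := BasedFunctor.comp (pshComparison sq'.w) W
  have hE : FibCat.IsEquivOver E := isEquivOver_comp (pshComparison_isEquivOver sq') hW
  have hM := isAlgStack_ofSp M
  have hq : AlgSt.IsAlgStack K₀ (FibCat.fp q q) := isAlgStack_prod K₀ hM hM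
  have h1 : (Limits.diag M.obj).hom ≫ (prod.fst : M.obj ⨯ M.obj ⟶ M.obj).hom = 𝟙 M.obj.obj :=
    congrArg (fun m => m.hom) (prod.lift_fst (𝟙 M.obj) (𝟙 M.obj))
  have h2 : (Limits.diag M.obj).hom ≫ (prod.snd : M.obj ⨯ M.obj ⟶ M.obj).hom = 𝟙 M.obj.obj :=
    congrArg (fun m => m.hom) (prod.lift_snd (𝟙 M.obj) (𝟙 M.obj))
  let i₁ : BasedFunctor.comp (Stk.ofPshMap (Limits.diag M.obj).hom)
      (Stk.ofPshMap (prod.fst : M.obj ⨯ M.obj ⟶ M.obj).hom) ≅ BasedFunctor.id (Stk.ofPsh M.obj.obj) :=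
    eqToIso ((ofPshMap_comp _ _).symm.trans ((congrArg Stk.ofPshMap h1).trans ofPshMap_id))
  let i₂ : BasedFunctor.comp (Stk.ofPshMap (Limits.diag M.obj).hom)
      (Stk.ofPshMap (prod.snd : M.obj ⨯ M.obj ⟶ M.obj).hom) ≅ BasedFunctor.id (Stk.ofPsh M.obj.obj) :=
    eqToIso ((ofPshMap_comp _ _).symm.trans ((congrArg Stk.ofPshMap h2).trans ofPshMap_id))
  let k : BasedFunctor.comp (AlgSt.ofSpMap (Limits.diag M.obj)) E ≅ FibCat.diag q :=
    mkIso (fun x => fpIsoMk (isoApp i₁ x) (isoApp i₂ x)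
        (by
          have ha := @IsHomLift.fac' _ _ _ _ (FibCat.selfOver (Over S)).p _ _ _ _ _ _
            ((FibCat.diag q).obj x).property
          have hb := @IsHomLift.fac' _ _ _ _ (FibCat.selfOver (Over S)).p _ _ _ _ _ _
            ((BasedFunctor.comp (AlgSt.ofSpMap (Limits.diag M.obj)) E).obj x).property
          refine (congrArg₂ (· ≫ ·) (show q.map (isoApp i₁ x).hom = _ from app_hom_eq i₁.hom x) ha).trans
            (Eq.trans ?_ (congrArg₂ (· ≫ ·) hb (show q.map (isoApp i₂ x).hom = _ from app_hom_eq i₂.hom x)).symm)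
          simp
          rfl))
      (fun {x y} φ => fp_hom_ext (i₁.hom.toNatTrans.naturality φ) (i₂.hom.toNatTrans.naturality φ))
      (fun x => (fp_isHomLift_iff _ _).2 (isoApp_lift i₁ x))
  let φ := (spHomeo P).trans (pointsHomeo (isAlgStack_ofSp P) hq hE)
  have hr : φ '' Set.range (AlgSp.Points.map (Limits.diag M.obj)) = Set.range (AlgSt.Points.map (FibCat.diag q)) := by
    rw [← Set.range_comp, show φ ∘ AlgSp.Points.map (Limits.diag M.obj) =
      AlgSt.Points.map (FibCat.diag q) ∘ spHomeo M from funext fun w => by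
        change AlgSt.Points.map E (spEquiv P.obj (AlgSp.Points.map _ w)) = AlgSt.Points.map _ (spEquiv M.obj w)
        rw [spEquiv_map, ← points_map_comp, points_map_iso k],
      (spHomeo M).surjective.range_comp]
  rw [← hr]
  exact φ.isClosed_image

/-- A closed immersion is an immersion with closed image. -/
theorem isSeparatedSp_iff_isClosed_range_diag {M : Sp S} (hls : AlgSp.IsLocallySeparatedSp M) :
    AlgSp.IsSeparatedSp M ↔ IsClosed (Set.range (AlgSp.Points.map (Limits.diag M))) := by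
  refine ⟨fun h => H12AlgSp.isClosed_iff_ofPt.2 fun U g => ?_, fun h => ⟨hls.1, fun U V g fst v sq => ?_⟩⟩
  · obtain ⟨V, v, fst, sq⟩ := h.rep g
    rw [H12AlgSp.preimage_ofPt_range sq]
    haveI : IsClosedImmersion v.left := h.property g fst v sq
    exact v.left.isClosedEmbedding.isClosed_range
  · haveI : IsImmersion v.left := hls.property g fst v sq
    change IsClosedImmersion v.left
    refine IsClosedImmersion.of_isPreimmersion v.left ?_
    rw [← H12AlgSp.preimage_ofPt_range sq]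
    exact H12AlgSp.isClosed_iff_ofPt.1 h U g

/-- A locally separated tame moduli space is separated iff the diagonal of the stack has closed image. -/
theorem GoodSetup.isSeparatedSp_iff {𝒳 : AlgSt.Cat S} {M : AlgSp.Space S} {π : 𝒳 ⥤ᵇ AlgSt.ofSp M.obj}
    (G : GoodSetup π) (ht : AlgSt.GeomPtBij π) (hls : AlgSp.IsLocallySeparatedSp M.obj) :
    AlgSp.IsSeparatedSp M.obj ↔
      IsClosed (Set.range (AlgSt.Points.map (FibCat.diag (FibCat.toSelf 𝒳)))) := by
  have hM := isAlgStack_ofSp M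
  rw [isSeparatedSp_iff_isClosed_range_diag hls, ← isClosed_range_diag_toSelf_iff,
    ← selfFun_eq (BasedFunctor.comp π (FibCat.toSelf (AlgSt.ofSp M.obj))) (FibCat.toSelf 𝒳)]
  refine (isClosed_range_diag_comp G.h𝒳 hM (G.univHomeo ht) G.surjective _
    (isAlgStack_prod K₀ hM hM) ?_ ?_).symm
  · rw [selfFun_eq (BasedFunctor.comp π _) (FibCat.toSelf 𝒳)]
    exact isAlgStack_prod K₀ hM G.h𝒳
  · rw [selfFun_eq (BasedFunctor.comp π _) (FibCat.toSelf 𝒳)]
    exact isAlgStack_prod K₀ G.h𝒳 G.h𝒳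

end Groth.Agent.H14CohBC
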