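import Groth.Agent.H14CohBC.GoodPoints
import Groth.Prelude.Def_StCoarse

/-!
# Good moduli spaces are universally closed
-/

set_option autoImplicit false
set_option linter.style.haveILetI false
set_option backward.isDefEq.respectTransparency false
set_option backward.isDefEq.respectTransparency.types false

universe u

open CategoryTheory CategoryTheory.Limits AlgebraicGeometry Opposite TopologicalSpace

noncomputable section

namespace Groth.Agent.H14CohBC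

open H14Fib H14AlgSt H14Stk H14QCoh

variable {S : Scheme.{u}} {𝒳 𝒲 : AlgSt.Cat S} {M : AlgSp.Sp S} {π : 𝒳 ⥤ᵇ AlgSt.ofSp M}

/-- The image in an affine chart of a closed set of a base change is closed. -/
theorem GoodSetup.isClosed_preimage_image (G : GoodSetup π) (h𝒲 : AlgSt.IsAlgStack Scheme.fppfPrecoverage 𝒲)
    (z : 𝒲 ⥤ᵇ AlgSt.ofSp M) {C : Set (AlgSt.Points (FibCat.fp z π))} (hC : IsClosed C)
    {W : Over S} [IsAffine W.left] (v : FibCat.overCat W ⥤ᵇ 𝒲) :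
    IsClosed (AlgSt.Points.ofChart v ⁻¹' (AlgSt.Points.map (FibCat.fpFst z π) '' C)) := by
  let hTs := isAlgStack_ofSp ⟨(AlgSp.yon S).obj W, AlgSp.IsAlgSpace.yon_obj W⟩
  let hM := isAlgStack_ofSp ⟨M, G.hM⟩
  have hZ := isAlgStack_fp' h𝒲 G.h𝒳 hM z π
  let F := BasedFunctor.comp (AlgSt.toOverCat W) v
  let Φ := BasedFunctor.comp F z
  let m : (AlgSp.yon S).obj W ⟶ M := ObjectProperty.homMk (mapOfFun Φ)
  let ι : Φ ≅ AlgSt.ofSpMap m := isoOfPshMap Φ
  let P := FibCat.fp (AlgSt.ofSpMap m) π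
  let fst := FibCat.fpFst (AlgSt.ofSpMap m) π
  let e' : BasedFunctor.comp (BasedFunctor.comp fst F) z ≅ BasedFunctor.comp (FibCat.fpSnd (AlgSt.ofSpMap m) π) π :=
    (Stk.restr fst _).mapIso ι ≪≫ FibCat.fpIso (AlgSt.ofSpMap m) π
  let Ψ := FibCat.fpLift (BasedFunctor.comp fst F) (FibCat.fpSnd (AlgSt.ofSpMap m) π) e'
  have hP : AlgSt.IsAlgStack Scheme.fppfPrecoverage P := isAlgStack_fibre m G
  have hC' : IsClosed (AlgSt.Points.map Ψ ⁻¹' C) := hC.preimage (continuous_points_map hZ Ψ)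
  have key : AlgSt.Points.ofChart v ⁻¹' (AlgSt.Points.map (FibCat.fpFst z π) '' C) =
      tImg π m '' (AlgSt.Points.map Ψ ⁻¹' C) := by
    ext t
    constructor
    · rintro ⟨w, hw, hwt⟩
      obtain ⟨q, hq⟩ := (bij_toOverCat (T := W)).2 t
      have h : AlgSt.Points.map F q = AlgSt.Points.map (FibCat.fpFst z π) w := by
        rw [points_map_comp, map_eq_ofChart, hwt]
        exact congrArg (AlgSt.Points.ofChart v) hq
      let P' := FibCat.fp F (FibCat.fpFst z π)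
      let f' := FibCat.fpFst F (FibCat.fpFst z π)
      let s' := FibCat.fpSnd F (FibCat.fpFst z π)
      let e : BasedFunctor.comp f' (AlgSt.ofSpMap m) ≅ BasedFunctor.comp (BasedFunctor.comp s' (FibCat.fpSnd z π)) π :=
        (Stk.restr f' _).mapIso ι.symm ≪≫ (post P' z).mapIso (FibCat.fpIso F (FibCat.fpFst z π)) ≪≫
          (Stk.restr s' _).mapIso (FibCat.fpIso z π)
      let Θ := FibCat.fpLift f' (BasedFunctor.comp s' (FibCat.fpSnd z π)) e
      obtain ⟨w'', hq', hw'⟩ := exists_points_fp hTs.isStack.1 hZ.isStack.1 h𝒲.isStack.1 (F := F) (G := FibCat.fpFst z π) h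
      obtain ⟨r, rfl⟩ := AlgSt.Points.mk_surjective w''
      refine ⟨AlgSt.Points.map Θ (AlgSt.Points.mk r), ?_, ?_⟩
      · change AlgSt.Points.map Ψ (AlgSt.Points.map Θ (AlgSt.Points.mk r)) ∈ C
        refine Eq.subst (motive := (· ∈ C)) (hw'.symm.trans (mk_eq_of_hom (p := (r.map Θ).map Ψ) (q := r.map s')
          (fpHom r.obj.obj.iso.hom (𝟙 r.obj.obj.snd.obj.snd) ?_)).symm) hw
        change _ = (ι.hom.toNatTrans.app r.obj.obj.fst ≫ ι.inv.toNatTrans.app r.obj.obj.fst ≫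
          z.map r.obj.obj.iso.hom ≫ r.obj.obj.snd.obj.iso.hom) ≫ π.map (𝟙 r.obj.obj.snd.obj.snd)
        have hι : ι.hom.toNatTrans.app r.obj.obj.fst ≫ ι.inv.toNatTrans.app r.obj.obj.fst = 𝟙 _ :=
          congr($(congrArg BasedNatTrans.toNatTrans ι.hom_inv_id).app r.obj.obj.fst)
        rw [π.map_id, Category.comp_id, reassoc_of% hι]
        rfl
      · change chartPoint (AlgSt.Points.map (AlgSt.toOverCat W) (AlgSt.Points.map f' (AlgSt.Points.mk r))) = t
        rw [hq']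
        exact hq
    · rintro ⟨w, hw, rfl⟩
      refine ⟨AlgSt.Points.map Ψ w, hw, ?_⟩
      rw [← points_map_comp]
      change AlgSt.Points.map (BasedFunctor.comp fst F) w = AlgSt.Points.ofChart v _
      rw [points_map_comp, points_map_comp, map_eq_ofChart]
      rfl
  rw [key]
  exact G.isClosed_image m hC'

/-- Good moduli spaces are universally closed. -/
theorem GoodSetup.univClosed (G : GoodSetup π) : AlgSt.IsUnivClosed Scheme.fppfPrecoverage π := by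
  intro 𝒲 h𝒲 z C hC
  rw [← isOpen_compl_iff, AlgSt.Points.isOpen_iff]
  intro U x hx
  rw [Set.preimage_compl, isOpen_compl_iff]
  refine isClosed_of_closure_subset fun t ht => ?_
  obtain ⟨O, hO, htO, -⟩ := exists_isAffineOpen_mem_and_subset (x := t) (U := ⊤) trivial
  let W : Over S := Over.mk (O.ι ≫ U.hom)
  let i : W ⟶ U := Over.homMk O.ι rfl
  haveI : IsAffine W.left := hO
  have hcl := G.isClosed_preimage_image h𝒲 z hC (BasedFunctor.comp (AlgSt.overMap i) x)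
  have hpre : AlgSt.Points.ofChart (BasedFunctor.comp (AlgSt.overMap i) x) ⁻¹' (AlgSt.Points.map (FibCat.fpFst z π) '' C) =
      O.ι ⁻¹' (AlgSt.Points.ofChart x ⁻¹' (AlgSt.Points.map (FibCat.fpFst z π) '' C)) := by
    ext p
    change AlgSt.Points.ofChart (BasedFunctor.comp (AlgSt.overMap i) x) p ∈ AlgSt.Points.map (FibCat.fpFst z π) '' C ↔ _
    rw [ofChart_comp_overMap]
    rfl
  rw [hpre] at hcl
  let p : W.left := ⟨t, htO⟩
  have : p ∈ closure (O.ι ⁻¹' (AlgSt.Points.ofChart x ⁻¹' (AlgSt.Points.map (FibCat.fpFst z π) '' C))) := by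
    have he : Topology.IsOpenEmbedding O.ι := O.ι.isOpenEmbedding
    rw [← he.isOpenMap.preimage_closure_eq_closure_preimage he.continuous]
    exact ht
  rw [hcl.closure_eq] at this
  exact this

end Groth.Agent.H14CohBC

namespace Groth.Agent.H14CohBC

open H14Fib H14AlgSt H14Stk H14QCoh

variable {S : Scheme.{u}} {𝒳 : AlgSt.Cat S} {M : AlgSp.Sp S} {π : 𝒳 ⥤ᵇ AlgSt.ofSp M}

lemma hom_eq_of_lift {a b : (AlgSt.ofSp M).obj} {T : Over S} (φ ψ : a ⟶ b)
    (hφ : (AlgSt.ofSp M).p.IsHomLift (𝟙 T) φ) (hψ : (AlgSt.ofSp M).p.IsHomLift (𝟙 T) ψ) : φ = ψ :=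
  Stk.EltObj.hom_ext ((@IsHomLift.fac' _ _ _ _ (AlgSt.ofSp M).p _ _ _ _ (𝟙 T) φ hφ).trans
    (@IsHomLift.fac' _ _ _ _ (AlgSt.ofSp M).p _ _ _ _ (𝟙 T) ψ hψ).symm)

/-- The diagonal of a morphism bijective on geometric points is surjective. -/
theorem surjective_diag_of_geomPtBij (hX : FibCat.IsFibGrpd 𝒳.p) (hY : FibCat.IsFibGrpd (AlgSt.ofSp M).p)
    (ht : AlgSt.GeomPtBij π) : AlgSt.IsSurjective (FibCat.diag π) := by
  intro w
  obtain ⟨p, rfl⟩ := AlgSt.Points.mk_surjective w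
  let Ω := AlgebraicClosure p.K
  let i : Spec (CommRingCat.of Ω) ⟶ Spec (CommRingCat.of p.K) :=
    Spec.map (CommRingCat.ofHom (algebraMap p.K Ω))
  let T' : Over S := Over.mk (i ≫ p.str)
  let g : T' ⟶ Over.mk p.str := Over.homMk i rfl
  obtain ⟨c, φ, hφ⟩ := (fp_fibGrpd (F := π) (G := π) hX hX hY).exists_lift (x := p.obj)
    (g ≫ eqToHom p.lies.symm)
  have hcT : (FibCat.fp π π).p.obj c = T' := IsHomLift.domain_eq (FibCat.fp π π).p (g ≫ eqToHom p.lies.symm) φ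
  have h1 : 𝒳.p.obj c.obj.fst = T' := hcT
  have h2 : 𝒳.p.obj c.obj.snd = T' := ((FibCat.fpSnd π π).w_obj c).trans hcT
  have hiso : (AlgSt.ofSp M).p.IsHomLift (𝟙 T') c.obj.iso.hom := hcT ▸ c.property
  have hsec : AlgSt.fibSec π (⟨c.obj.fst, h1⟩ : 𝒳.p.Fiber T') = AlgSt.fibSec π (⟨c.obj.snd, h2⟩ : 𝒳.p.Fiber T') := by
    have h : M.obj.map c.obj.iso.hom.hom.op (π.obj c.obj.snd).sec = (π.obj c.obj.fst).sec := c.obj.iso.hom.map_sec
    simp only [AlgSt.fibSec]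
    rw [← h]
    refine (Functor.map_comp_apply _ _ _ _).symm.trans ?_
    rw [← op_comp]
    refine congrArg (fun k : T' ⟶ (π.obj c.obj.snd).base => M.obj.map k.op (π.obj c.obj.snd).sec) ?_
    have hf : c.obj.iso.hom.hom = _ := @IsHomLift.fac' _ _ _ _ (AlgSt.ofSp M).p _ _ _ _ (𝟙 T') c.obj.iso.hom hiso
    rw [hf]
    simp
  obtain ⟨χ⟩ := (ht Ω (i ≫ p.str)).2 _ _ hsec
  let r : AlgSt.FPt 𝒳 := { K := Ω, str := i ≫ p.str, obj := c.obj.fst, lies := h1 }
  refine ⟨AlgSt.Points.mk r, ?_⟩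
  rw [AlgSt.Points.map_mk]
  let χ' : c.obj.fst ⟶ c.obj.snd := χ.hom.1
  haveI hχ : 𝒳.p.IsHomLift (𝟙 T') χ' := χ.hom.2
  haveI : (AlgSt.ofSp M).p.IsHomLift (𝟙 T') (π.map χ') := π.preserves_isHomLift (𝟙 T') χ'
  refine mk_eq_of_hom (p := r.map (FibCat.diag π)) (q := p) (fpHom (𝟙 c.obj.fst) χ' ?_ ≫ φ)
  change π.map (𝟙 c.obj.fst) ≫ c.obj.iso.hom = 𝟙 (π.obj c.obj.fst) ≫ π.map χ'
  rw [π.map_id, Category.id_comp, Category.id_comp]
  exact hom_eq_of_lift _ _ hiso inferInstance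

/-- Tame moduli spaces are universal homeomorphisms. -/
theorem GoodSetup.univHomeo (G : GoodSetup π) (ht : AlgSt.GeomPtBij π) :
    AlgSt.IsUnivHomeo Scheme.fppfPrecoverage π := by
  intro 𝒲 h𝒲 z
  have hM := isAlgStack_ofSp ⟨M, G.hM⟩
  have hP := isAlgStack_fp' h𝒲 G.h𝒳 hM z π
  refine isHomeomorph_iff_continuous_isClosedMap_bijective.2 ⟨continuous_points_map h𝒲 _, G.univClosed 𝒲 h𝒲 z,
    isUnivInjective_of_surjective_diag G.h𝒳.isStack.1 hM.isStack.1
      (surjective_diag_of_geomPtBij G.h𝒳.isStack.1 hM.isStack.1 ht) 𝒲 h𝒲 z, fun a => ?_⟩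
  obtain ⟨x, hx⟩ := G.surjective (AlgSt.Points.map z a)
  obtain ⟨w, hw, -⟩ := exists_points_fp h𝒲.isStack.1 G.h𝒳.isStack.1 hM.isStack.1 (F := z) (G := π) hx.symm
  exact ⟨w, hw⟩

end Groth.Agent.H14CohBC
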