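import Groth.Agent.H14CohBC.AtlasI

/-!
# Sections cut off by idempotent functions
-/

set_option autoImplicit false
set_option linter.style.haveILetI false
set_option backward.isDefEq.respectTransparency false
set_option backward.isDefEq.respectTransparency.types false

universe w v u

open CategoryTheory CategoryTheory.Limits AlgebraicGeometry
open scoped TensorProduct

noncomputable section

namespace Groth.Agent.H14CohBC

open H14QCoh

variable {S : Scheme.{u}} {𝒳 : BasedCategory.{v, w} (Over S)}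

lemma surjective_algebraMap_away {A : Type u} [CommRing A] {e : A} (he : IsIdempotentElem e) :
    Function.Surjective (algebraMap A (Localization.Away e)) := by
  intro z
  obtain ⟨n, a, h⟩ := IsLocalization.Away.surj e z
  have hu : algebraMap A (Localization.Away e) e = 1 :=
    (IsLocalization.Away.algebraMap_isUnit (S := Localization.Away e) e).mul_right_cancel
      (((map_mul _ _ _).symm.trans (congrArg _ he)).trans (one_mul _).symm)
  exact ⟨a, by rw [← h, hu, one_pow, mul_one]⟩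

/-- The open part of an affine object on which an idempotent function is one. -/
theorem exists_idem_lift (hp : FibCat.IsFibGrpd 𝒳.p) {ξ : 𝒳.obj} [IsAffine (StMod.sch 𝒳 ξ)] {e : Fn 𝒳 ξ}
    (he : IsIdempotentElem e) :
    ∃ (ξ' : 𝒳.obj) (ι : ξ' ⟶ ξ), IsAffine (StMod.sch 𝒳 ξ') ∧ fnMap ι e = 1 ∧
      Function.Surjective (fnMap ι) ∧ (∀ r, fnMap ι r = 0 → e * r = 0) ∧ (fnMap ι).Flat := by
  let X := StMod.sch 𝒳 ξ
  let σ : Γ(X, ⊤) →+* Γ(X, ⊤) :=
    ((Scheme.ΓSpecIso Γ(X, ⊤)).hom.hom).comp X.isoSpec.inv.appTop.hom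
  haveI : IsIso X.isoSpec.inv.appTop := inferInstanceAs (IsIso (X.isoSpec.inv.app ⊤))
  have hσ : Function.Bijective σ :=
    (ConcreteCategory.bijective_of_isIso (Scheme.ΓSpecIso Γ(X, ⊤)).hom).comp
      (ConcreteCategory.bijective_of_isIso X.isoSpec.inv.appTop)
  have he' : IsIdempotentElem (σ e) := he.map σ
  let B := Localization.Away (σ e)
  let g : Spec (CommRingCat.of B) ⟶ X :=
    Spec.map (CommRingCat.ofHom (algebraMap Γ(X, ⊤) B)) ≫ X.isoSpec.inv
  obtain ⟨ξ', ι, ei, hι⟩ := exists_lift hp ξ g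
  haveI : IsAffine (StMod.sch 𝒳 ξ') := IsAffine.of_isIso ei.hom
  haveI : IsOpenImmersion (Spec.map (CommRingCat.ofHom (algebraMap Γ(X, ⊤) B))) :=
    IsOpenImmersion.of_isLocalization (σ e)
  haveI : IsIso ei.hom.appTop := inferInstanceAs (IsIso (ei.hom.app ⊤))
  let τ : B →+* Fn 𝒳 ξ' := ei.hom.appTop.hom.comp (Scheme.ΓSpecIso (CommRingCat.of B)).inv.hom
  have hτ : Function.Bijective τ :=
    (ConcreteCategory.bijective_of_isIso ei.hom.appTop).comp
      (ConcreteCategory.bijective_of_isIso (Scheme.ΓSpecIso (CommRingCat.of B)).inv)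
  have key : ∀ r, fnMap ι r = τ (algebraMap Γ(X, ⊤) B (σ r)) := by
    intro r
    have h1 : fnMap ι r = (ei.hom ≫ g).appTop r := congr($(congrArg Scheme.Hom.appTop hι) r)
    refine h1.trans ?_
    change ei.hom.appTop ((Spec.map (CommRingCat.ofHom (algebraMap Γ(X, ⊤) B))).appTop (X.isoSpec.inv.appTop r)) = _
    refine congrArg ei.hom.appTop ?_
    have h2 := congr($(Scheme.ΓSpecIso_naturality (CommRingCat.ofHom (algebraMap Γ(X, ⊤) B)))
      (X.isoSpec.inv.appTop r))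
    rw [CommRingCat.comp_apply, CommRingCat.comp_apply] at h2
    refine Eq.trans ?_ (congrArg (Scheme.ΓSpecIso (CommRingCat.of B)).inv h2)
    rw [← CommRingCat.comp_apply, Iso.hom_inv_id]
    rfl
  refine ⟨ξ', ι, inferInstance, ?_, fun y => ?_, fun r hr => ?_, ?_⟩
  · rw [key]
    have hu : algebraMap Γ(X, ⊤) B (σ e) = 1 :=
      (IsLocalization.Away.algebraMap_isUnit (S := B) (σ e)).mul_right_cancel
        (((map_mul _ _ _).symm.trans (congrArg _ he')).trans (one_mul _).symm)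
    rw [hu, map_one]
  · obtain ⟨b, rfl⟩ := hτ.2 y
    obtain ⟨a, rfl⟩ := surjective_algebraMap_away he' b
    obtain ⟨r, rfl⟩ := hσ.2 a
    exact ⟨r, key r⟩
  · have h0 : algebraMap Γ(X, ⊤) B (σ r) = 0 := hτ.1 (by rw [← key, hr, map_zero])
    obtain ⟨⟨_, n, rfl⟩, hn⟩ := (IsLocalization.map_eq_zero_iff (Submonoid.powers (σ e)) B _).1 h0
    refine hσ.1 ?_
    rw [map_mul, map_zero]
    change σ e ^ n * σ r = 0 at hn
    rcases Nat.eq_zero_or_pos n with rfl | hn'
    · simp only [pow_zero, one_mul] at hn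
      rw [hn, mul_zero]
    · rwa [show (σ e) ^ n = σ e by
        obtain ⟨m, rfl⟩ := Nat.exists_eq_succ_of_ne_zero hn'.ne'
        exact he'.pow_succ_eq m] at hn
  · have hflat : Flat (StMod.bmap 𝒳 ι) := by
      rw [hι]
      infer_instance
    exact (HasRingHomProperty.iff_of_isAffine (P := @Flat)).1 hflat

/-- An arrow on which the idempotent is one factors through the part where it is one. -/
theorem exists_factor_idem (hp : FibCat.IsFibGrpd 𝒳.p) {ξ ξ' ω : 𝒳.obj} [IsAffine (StMod.sch 𝒳 ξ)]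
    [IsAffine (StMod.sch 𝒳 ξ')] {e : Fn 𝒳 ξ} (ι : ξ' ⟶ ξ) (hs : Function.Surjective (fnMap ι))
    (hk : ∀ r, fnMap ι r = 0 → e * r = 0) (k : ω ⟶ ξ) (h : fnMap k e = 1) :
    ∃ l : ω ⟶ ξ', l ≫ ι = k := by
  have hle : RingHom.ker (fnMap ι) ≤ RingHom.ker (fnMap k) := fun r hr => by
    have := congrArg (fnMap k) (hk r hr)
    rwa [map_mul, h, one_mul, map_zero] at this
  let σ : Fn 𝒳 ξ' →+* Fn 𝒳 ω := (fnMap ι).liftOfSurjective hs ⟨fnMap k, hle⟩
  let Z := StMod.sch 𝒳 ω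
  let Y := StMod.sch 𝒳 ξ'
  let g : Z ⟶ Y := Z.toSpecΓ ≫ Spec.map (CommRingCat.ofHom σ) ≫ Y.isoSpec.inv
  have hg : g.appTop = CommRingCat.ofHom σ := by
    haveI : IsIso Y.isoSpec.hom.appTop := inferInstanceAs (IsIso (Y.isoSpec.hom.app ⊤))
    have h0 : (Scheme.ΓSpecIso Γ(Y, ⊤)).inv ≫ Y.isoSpec.hom.appTop = 𝟙 _ := by
      rw [show Y.isoSpec.hom = Y.toSpecΓ from rfl, Scheme.toSpecΓ_appTop]
      exact Iso.inv_hom_id _
    have h1 : Y.isoSpec.inv.appTop = (Scheme.ΓSpecIso Γ(Y, ⊤)).inv := by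
      rw [← cancel_mono Y.isoSpec.hom.appTop, ← Scheme.Hom.comp_appTop, Iso.hom_inv_id, Scheme.Hom.id_appTop, h0]
    simp only [g, Scheme.Hom.comp_appTop, h1, Scheme.toSpecΓ_appTop]
    erw [Category.assoc, Scheme.ΓSpecIso_naturality, Iso.inv_hom_id_assoc]
  have hgι : g ≫ StMod.bmap 𝒳 ι = StMod.bmap 𝒳 k := ext_of_isAffine (by
    rw [Scheme.Hom.comp_appTop, hg]
    ext r
    change σ (fnMap ι r) = fnMap k r
    exact RingHom.liftOfRightInverse_comp_apply _ _ _ _ r)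
  obtain ⟨l, hl, -⟩ := exists_factor hp ι k g hgι
  exact ⟨l, hl⟩

variable {F : StMod.QCoh 𝒳}

/-- A section vanishing where an idempotent is one is killed by it. -/
theorem idem_smul_eq_zero {ξ ξ' : 𝒳.obj} (hξ : IsAffine (StMod.sch 𝒳 ξ)) (hξ' : IsAffine (StMod.sch 𝒳 ξ'))
    {e : Fn 𝒳 ξ} (ι : ξ' ⟶ ξ) (hs : Function.Surjective (fnMap ι)) (hk : ∀ r, fnMap ι r = 0 → e * r = 0)
    (hfl : (fnMap ι).Flat) (m : Sec F ξ) (hm : F.obj.mapTop ι m = 0) : e • m = 0 := by
  have ht := (AtlasI.isBC_of_mapTop F ι hξ' hξ).map_annihilator_eq_top hfl m hm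
  obtain ⟨r, hr, hr1⟩ := (Ideal.mem_map_iff_of_surjective _ hs).1 (ht ▸ Submodule.mem_top : (1 : Fn 𝒳 ξ') ∈ _)
  have h0 : e * (r - 1) = 0 := hk _ (by rw [map_sub, hr1, map_one, sub_self])
  have h1 : e = e * r := by
    rw [mul_sub, mul_one, sub_eq_zero] at h0
    exact h0.symm
  rw [h1, mul_smul]
  have : r • m = 0 := hr
  rw [this, smul_zero]

/-- Sections where an idempotent is one extend. -/
theorem surjective_mapTop_idem {ξ ξ' : 𝒳.obj} (hξ : IsAffine (StMod.sch 𝒳 ξ))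
    (hξ' : IsAffine (StMod.sch 𝒳 ξ')) (ι : ξ' ⟶ ξ) (hs : Function.Surjective (fnMap ι)) :
    Function.Surjective (F.obj.mapTop ι) := by
  intro y
  refine sec_induction (φ := ι) hξ' hξ (P := fun y => ∃ m, F.obj.mapTop ι m = y) y ⟨0, F.obj.mapTop_zero ι⟩ ?_ ?_
  · rintro a b ⟨p, rfl⟩ ⟨q, rfl⟩
    exact ⟨p + q, F.obj.mapTop_add ι p q⟩
  · intro c m
    obtain ⟨r, rfl⟩ := hs c
    exact ⟨r • m, F.obj.mapTop_smul ι r m⟩

end Groth.Agent.H14CohBC
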