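import Groth.Agent.H14CohBC.TransI
import Groth.Agent.H14QCoh.Extend

/-!
# Descent of modules on an indexed atlas along transition isomorphisms
-/

set_option autoImplicit false
set_option linter.style.haveILetI false
set_option backward.isDefEq.respectTransparency false
set_option backward.isDefEq.respectTransparency.types false

universe t t' w v u

open CategoryTheory CategoryTheory.Limits AlgebraicGeometry Opposite TopologicalSpace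
open scoped TensorProduct

noncomputable section

namespace Groth.Agent.H14CohBC

open H14QCoh

namespace SysI

variable {S : Scheme.{u}} {𝒳 : BasedCategory.{v, w} (Over S)} {𝔸 : AtlasI.{t'} 𝒳} {M : 𝔸.ι → Type u}
  [∀ i, AddCommGroup (M i)] [∀ i, Module (Fn 𝒳 (𝔸.x i)) (M i)] (σ : SysI.{t} 𝔸 M) (hp : FibCat.IsFibGrpd 𝒳.p)
  {i i' : 𝔸.ι}

/-- The chosen cover of an affine object. -/
def cObj (ξ : AObj 𝒳) : AObj 𝒳 :=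
  ⟨(𝔸.cov ξ.1 ξ.2).choose, (𝔸.cov ξ.1 ξ.2).choose_spec.choose_spec.choose_spec.1.1⟩

/-- The index of the chosen cover. -/
def cIdx (ξ : AObj 𝒳) : 𝔸.ι := (𝔸.cov ξ.1 ξ.2).choose_spec.choose_spec.choose

/-- The arrow of the chosen cover. -/
def cMap (ξ : AObj 𝒳) : (cObj (𝔸 := 𝔸) ξ).1 ⟶ ξ.1 := (𝔸.cov ξ.1 ξ.2).choose_spec.choose

/-- The arrow from the chosen cover to the atlas. -/
def cAtl (ξ : AObj 𝒳) : (cObj (𝔸 := 𝔸) ξ).1 ⟶ 𝔸.x (cIdx ξ) :=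
  (𝔸.cov ξ.1 ξ.2).choose_spec.choose_spec.choose_spec.2.some

lemma isCov_cMap (ξ : AObj 𝒳) : IsCov (cMap (𝔸 := 𝔸) ξ) :=
  (𝔸.cov ξ.1 ξ.2).choose_spec.choose_spec.choose_spec.1

/-- The elements on the cover fixed by the transition. -/
def kern (ξ : AObj 𝒳) : AddSubgroup (BC (M (cIdx ξ)) (cAtl (𝔸 := 𝔸) ξ)) where
  carrier := {u | ∀ (ω : AObj 𝒳) (p q : ω.1 ⟶ (cObj (𝔸 := 𝔸) ξ).1), p ≫ cMap ξ = q ≫ cMap ξ →
    σ.Φ hp (p ≫ cAtl ξ) (q ≫ cAtl ξ) (push p rfl u) = push q rfl u}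
  zero_mem' := fun ω p q _ => by
    rw [map_zero, map_zero]
    exact (σ.Φe hp (p ≫ cAtl ξ) (q ≫ cAtl ξ)).map_zero
  add_mem' := fun {u v} hu hv ω p q h => by rw [map_add, map_add, Φ_add, hu ω p q h, hv ω p q h]
  neg_mem' := fun {u} hu ω p q h => by
    rw [map_neg, map_neg, ← hu ω p q h]
    exact (σ.Φe hp (p ≫ cAtl ξ) (q ≫ cAtl ξ)).map_neg (push p rfl u)

/-- The descended module on an affine object. -/
def P (ξ : AObj 𝒳) : Type u := ↥(σ.kern hp ξ)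

instance (ξ : AObj 𝒳) : AddCommGroup (σ.P hp ξ) := inferInstanceAs (AddCommGroup ↥(σ.kern hp ξ))

variable {σ hp} in
@[ext] lemma P.ext {ξ : AObj 𝒳} {u v : σ.P hp ξ} (h : u.1 = v.1) : u = v := Subtype.ext h

@[simp] lemma add_val {ξ : AObj 𝒳} (u v : σ.P hp ξ) : (u + v).1 = u.1 + v.1 := rfl

lemma smul_mem_kern {ξ : AObj 𝒳} (c : Fn 𝒳 ξ.1) (u : σ.P hp ξ) :
    fnMap (cMap (𝔸 := 𝔸) ξ) c • u.1 ∈ σ.kern hp ξ := fun ω p q h => by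
  rw [push_smul, push_smul, Φ_smul, u.2 ω p q h]
  exact congrArg (· • push q rfl u.1) ((fnMap_comp p _ c).symm.trans ((congrArg (fnMap · c) h).trans (fnMap_comp q _ c)))

instance (ξ : AObj 𝒳) : SMul (Fn 𝒳 ξ.1) (σ.P hp ξ) := ⟨fun c u => ⟨_, σ.smul_mem_kern hp c u⟩⟩

@[simp] lemma smul_val {ξ : AObj 𝒳} (c : Fn 𝒳 ξ.1) (u : σ.P hp ξ) : (c • u).1 = fnMap (cMap (𝔸 := 𝔸) ξ) c • u.1 :=
  rfl

instance (ξ : AObj 𝒳) : Module (Fn 𝒳 ξ.1) (σ.P hp ξ) where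
  one_smul u := by ext; simp
  mul_smul a b u := by ext; simp [mul_smul]
  smul_zero a := P.ext (smul_zero (A := BC (M (cIdx ξ)) (cAtl (𝔸 := 𝔸) ξ)) _)
  smul_add a u v := by ext; simp
  add_smul a b u := by ext; simp [add_smul]
  zero_smul u := by
    refine P.ext ?_
    rw [smul_val, map_zero, zero_smul]
    rfl

/-- The condition to be the value of a descended element. -/
def IsValAt {ξ ζ : AObj 𝒳} (χ : ζ.1 ⟶ ξ.1) {β : ζ.1 ⟶ 𝔸.x i} (u : σ.P hp ξ) (v : BC (M i) β) : Prop :=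
  ∀ (ω : AObj 𝒳) (π : ω.1 ⟶ ζ.1) (q : ω.1 ⟶ (cObj (𝔸 := 𝔸) ξ).1), q ≫ cMap ξ = π ≫ χ →
    push π rfl v = σ.Φ hp (q ≫ cAtl ξ) (π ≫ β) (push q rfl u.1)

/-- Transport of the transition along the kernel condition. -/
lemma Φ_kern {ξ : AObj 𝒳} (u : σ.P hp ξ) {ω : AObj 𝒳} (p q : ω.1 ⟶ (cObj (𝔸 := 𝔸) ξ).1)
    (h : p ≫ cMap ξ = q ≫ cMap ξ) (δ : ω.1 ⟶ 𝔸.x i) {γp γq : ω.1 ⟶ 𝔸.x (cIdx ξ)} (ep : p ≫ cAtl ξ = γp)
    (eq' : q ≫ cAtl ξ = γq) :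
    σ.Φ hp γp δ (push p ep u.1) = σ.Φ hp γq δ (push q eq' u.1) := by
  subst ep eq'
  rw [← u.2 ω p q h, σ.Φ_trans]

theorem exists_valAt {ξ ζ : AObj 𝒳} (χ : ζ.1 ⟶ ξ.1) (β : ζ.1 ⟶ 𝔸.x i) (u : σ.P hp ξ) :
    ∃ v : BC (M i) β, σ.IsValAt hp χ u v ∧ ∀ v', σ.IsValAt hp χ u v' → v' = v := by
  haveI := ζ.2
  haveI := ξ.2
  obtain ⟨ζ', φ', ψ', hφ', hw⟩ := exists_pullback_cov hp (isCov_cMap (𝔸 := 𝔸) ξ) χ
  let Z : AObj 𝒳 := ⟨ζ', hφ'.1⟩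
  obtain ⟨v, hv⟩ := exists_of_push_eq hp hφ' (γ := β) rfl
    (σ.Φ hp (ζ := Z) (ψ' ≫ cAtl ξ) (φ' ≫ β) (push ψ' rfl u.1)) (by
      intro ω a b hab hω
      rw [σ.Φ_nat hp (ζ' := ⟨ω, hω⟩) (ζ := Z) a (α' := a ≫ ψ' ≫ cAtl ξ) rfl rfl,
        σ.Φ_nat hp (ζ' := ⟨ω, hω⟩) (ζ := Z) b (α' := b ≫ ψ' ≫ cAtl ξ) rfl (by rw [reassoc_of% hab]), push_push,
        push_push]
      exact σ.Φ_kern hp (ω := ⟨ω, hω⟩) u _ _ (by rw [Category.assoc, ← hw, reassoc_of% hab, hw, Category.assoc]) _ _ _)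
  refine ⟨v, fun ω π q hq => ?_, fun v' hv' => injective_push_cov hφ' rfl ((hv' Z φ' ψ' hw.symm).trans hv.symm)⟩
  haveI := ω.2
  obtain ⟨ω', φ'', ψ'', hφ'', hw'⟩ := exists_pullback_cov hp hφ' π
  let W : AObj 𝒳 := ⟨ω', hφ''.1⟩
  refine injective_push_cov hφ'' (γ' := φ'' ≫ π ≫ β) rfl ?_
  rw [push_push, push_congr hw' _ (by rw [Category.assoc, reassoc_of% hw']), ← push_push ψ'' φ' rfl
      (by rw [reassoc_of% hw']), hv,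
    σ.Φ_nat hp (ζ' := W) (ζ := Z) ψ'' (α' := ψ'' ≫ ψ' ≫ cAtl ξ) rfl (by rw [reassoc_of% hw']),
    σ.Φ_nat hp (ζ' := W) φ'' (α' := φ'' ≫ q ≫ cAtl ξ) (β' := φ'' ≫ π ≫ β) rfl rfl, push_push, push_push]
  exact σ.Φ_kern hp (ω := W) u _ _
    (by rw [Category.assoc, ← hw, ← reassoc_of% hw', Category.assoc, hq]) _ _ _

/-- The value of a descended element. -/
def ev {ξ ζ : AObj 𝒳} (χ : ζ.1 ⟶ ξ.1) (β : ζ.1 ⟶ 𝔸.x i) (u : σ.P hp ξ) : BC (M i) β :=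
  (σ.exists_valAt hp χ β u).choose

lemma isValAt_ev {ξ ζ : AObj 𝒳} (χ : ζ.1 ⟶ ξ.1) (β : ζ.1 ⟶ 𝔸.x i) (u : σ.P hp ξ) :
    σ.IsValAt hp χ u (σ.ev hp χ β u) :=
  (σ.exists_valAt hp χ β u).choose_spec.1

lemma eq_ev {ξ ζ : AObj 𝒳} {χ : ζ.1 ⟶ ξ.1} {β : ζ.1 ⟶ 𝔸.x i} {u : σ.P hp ξ} {v : BC (M i) β}
    (h : σ.IsValAt hp χ u v) : v = σ.ev hp χ β u :=
  (σ.exists_valAt hp χ β u).choose_spec.2 v h

lemma ev_congr {ξ ζ : AObj 𝒳} {χ χ' : ζ.1 ⟶ ξ.1} (h : χ = χ') (β : ζ.1 ⟶ 𝔸.x i) (u : σ.P hp ξ) :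
    σ.ev hp χ β u = σ.ev hp χ' β u := by
  subst h; rfl

lemma ev_add {ξ ζ : AObj 𝒳} (χ : ζ.1 ⟶ ξ.1) (β : ζ.1 ⟶ 𝔸.x i) (u u' : σ.P hp ξ) :
    σ.ev hp χ β (u + u') = σ.ev hp χ β u + σ.ev hp χ β u' :=
  (σ.eq_ev hp fun ω π q h => by
    rw [map_add, σ.isValAt_ev hp χ β u ω π q h, σ.isValAt_ev hp χ β u' ω π q h, add_val, map_add, Φ_add]).symm

lemma ev_smul {ξ ζ : AObj 𝒳} (χ : ζ.1 ⟶ ξ.1) (β : ζ.1 ⟶ 𝔸.x i) (c : Fn 𝒳 ξ.1) (u : σ.P hp ξ) :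
    σ.ev hp χ β (c • u) = fnMap χ c • σ.ev hp χ β u :=
  (σ.eq_ev hp fun ω π q h => by
    rw [push_smul, σ.isValAt_ev hp χ β u ω π q h, smul_val, push_smul, Φ_smul]
    exact congrArg (· • σ.Φ hp (q ≫ cAtl ξ) (π ≫ β) (push q rfl u.1))
      ((fnMap_comp π χ c).symm.trans ((congrArg (fnMap · c) h.symm).trans (fnMap_comp q _ c)))).symm

lemma push_ev {ξ ζ' ζ : AObj 𝒳} (e : ζ'.1 ⟶ ζ.1) (χ : ζ.1 ⟶ ξ.1) {β : ζ.1 ⟶ 𝔸.x i} {β' : ζ'.1 ⟶ 𝔸.x i}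
    (eβ : e ≫ β = β') (u : σ.P hp ξ) : push e eβ (σ.ev hp χ β u) = σ.ev hp (e ≫ χ) β' u := by
  subst eβ
  refine σ.eq_ev hp fun ω π q h => ?_
  have := σ.isValAt_ev hp χ β u ω (π ≫ e) q (by rw [h, Category.assoc])
  rw [push_push]
  have cast : ∀ {γ₁ γ₂ : ω.1 ⟶ 𝔸.x i} (eg : γ₁ = γ₂) (k₁ : (π ≫ e) ≫ β = γ₁) (k₂ : (π ≫ e) ≫ β = γ₂),
      push (π ≫ e) k₁ (σ.ev hp χ β u) = σ.Φ hp (q ≫ cAtl ξ) γ₁ (push q rfl u.1) →
      push (π ≫ e) k₂ (σ.ev hp χ β u) = σ.Φ hp (q ≫ cAtl ξ) γ₂ (push q rfl u.1) := by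
    intro γ₁ γ₂ eg k₁ k₂ hh
    subst eg
    exact hh
  exact cast (Category.assoc _ _ _) rfl (Category.assoc _ _ _) this

lemma Φ_ev {ξ ζ : AObj 𝒳} (χ : ζ.1 ⟶ ξ.1) (β : ζ.1 ⟶ 𝔸.x i) (β' : ζ.1 ⟶ 𝔸.x i') (u : σ.P hp ξ) :
    σ.Φ hp β β' (σ.ev hp χ β u) = σ.ev hp χ β' u :=
  σ.eq_ev hp fun ω π q h => by
    rw [σ.Φ_nat hp π (α' := π ≫ β) rfl rfl, σ.isValAt_ev hp χ β u ω π q h, σ.Φ_trans]

lemma ev_self {ξ : AObj 𝒳} (u : σ.P hp ξ) : σ.ev hp (ζ := cObj (𝔸 := 𝔸) ξ) (cMap ξ) (cAtl ξ) u = u.1 :=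
  (σ.eq_ev hp fun ω π q h => (u.2 ω q π h).symm).symm

lemma ev_mem {ξ η : AObj 𝒳} (χ : η.1 ⟶ ξ.1) (u : σ.P hp ξ) :
    σ.ev hp (ζ := cObj (𝔸 := 𝔸) η) (cMap η ≫ χ) (cAtl η) u ∈ σ.kern hp η := fun ω p q h => by
  rw [push_ev, push_ev, Φ_ev]
  exact σ.ev_congr hp (by rw [reassoc_of% h]) _ u

/-- The restriction of descended elements. -/
def res {ξ η : AObj 𝒳} (χ : η.1 ⟶ ξ.1) : σ.P hp ξ →+ σ.P hp η :=
  AddMonoidHom.mk' (fun u => ⟨_, σ.ev_mem hp χ u⟩) fun u v => P.ext (σ.ev_add hp _ _ u v)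

lemma res_val {ξ η : AObj 𝒳} (χ : η.1 ⟶ ξ.1) (u : σ.P hp ξ) :
    (σ.res hp χ u).1 = σ.ev hp (ζ := cObj (𝔸 := 𝔸) η) (cMap η ≫ χ) (cAtl η) u := rfl

lemma ev_res {ξ η ζ : AObj 𝒳} (χ' : ζ.1 ⟶ η.1) (χ : η.1 ⟶ ξ.1) (β : ζ.1 ⟶ 𝔸.x i) (u : σ.P hp ξ) :
    σ.ev hp χ' β (σ.res hp χ u) = σ.ev hp (χ' ≫ χ) β u :=
  (σ.eq_ev hp fun ω π q h => by
    rw [push_ev, res_val, push_ev, Φ_ev]
    exact σ.ev_congr hp (by rw [reassoc_of% h]) _ u).symm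

/-- The value as an additive map. -/
def evH {ξ ζ : AObj 𝒳} (χ : ζ.1 ⟶ ξ.1) (β : ζ.1 ⟶ 𝔸.x i) : σ.P hp ξ →+ BC (M i) β :=
  AddMonoidHom.mk' (σ.ev hp χ β) (σ.ev_add hp χ β)

/-- Effectivity of the descent on the chosen cover. -/
theorem isBC_incl (ξ : AObj 𝒳) :
    IsBC (fnMap (cMap (𝔸 := 𝔸) ξ)) (σ.evH hp (ζ := cObj (𝔸 := 𝔸) ξ) (cMap ξ) (cAtl ξ)) := by
  haveI := ξ.2
  let X' := cObj (𝔸 := 𝔸) ξ
  haveI := X'.2
  let φ : X'.1 ⟶ ξ.1 := cMap ξ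
  let α : X'.1 ⟶ 𝔸.x (cIdx ξ) := cAtl ξ
  have hφ : IsCov φ := isCov_cMap ξ
  obtain ⟨ω₂, p₁, p₂, hw₂, hpb₂⟩ := exists_square hp φ φ
  haveI : IsAffine (StMod.sch 𝒳 ω₂) := IsAffine.of_isIso hpb₂.isoPullback.hom
  let W₂ : AObj 𝒳 := ⟨ω₂, inferInstance⟩
  obtain ⟨ω₃, o₁, o₂₃, hw₃, hpb₃⟩ := exists_square hp φ (p₂ ≫ φ)
  haveI : IsAffine (StMod.sch 𝒳 ω₃) := IsAffine.of_isIso hpb₃.isoPullback.hom
  let W₃ : AObj 𝒳 := ⟨ω₃, inferInstance⟩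
  let A := Fn 𝒳 ξ.1
  let B := Fn 𝒳 X'.1
  letI : Algebra A B := (fnMap φ).toAlgebra
  haveI : Module.FaithfullyFlat A B := hφ.faithfullyFlat
  letI : Module A (BC (M (cIdx ξ)) α) := Module.compHom _ (fnMap φ)
  letI : Module B (BC (M (cIdx ξ)) (p₂ ≫ α)) := Module.compHom _ (fnMap p₁)
  letI : Module A (BC (M (cIdx ξ)) (p₂ ≫ α)) := Module.compHom _ (fnMap (p₂ ≫ φ))
  letI : Module B (BC (M (cIdx ξ)) (o₂₃ ≫ p₂ ≫ α)) := Module.compHom _ (fnMap o₁)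
  have h₂ : IsBC (fnMap φ) (push (M := M (cIdx ξ)) (γ := α) p₂ rfl) :=
    (isBC_push p₂ rfl).sq (isPushout_appTop_of_isPullback hpb₂)
  have h₃ : IsBC (fnMap φ) (push (M := M (cIdx ξ)) (γ := p₂ ≫ α) o₂₃ rfl) :=
    (isBC_push o₂₃ rfl).sq (isPushout_appTop_of_isPullback hpb₃)
  obtain ⟨θ₂, hθ₂⟩ := h₂.exists_equiv
  obtain ⟨θ₃, hθ₃⟩ := h₃.exists_equiv
  let inc : σ.P hp ξ →ₗ[A] BC (M (cIdx ξ)) α :=
    { toFun := fun u => u.1, map_add' := fun _ _ => rfl, map_smul' := fun _ _ => rfl }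
  have hA : ∀ (c : A), fnMap p₁ (fnMap φ c) = fnMap (p₂ ≫ φ) c := fun c =>
    (fnMap_comp p₁ φ c).symm.trans (congrArg (fnMap · c) hw₂)
  let D : BC (M (cIdx ξ)) α →ₗ[A] BC (M (cIdx ξ)) (p₂ ≫ α) :=
    { toFun := fun n => σ.Φ hp (ζ := W₂) (p₁ ≫ α) (p₂ ≫ α) (push p₁ rfl n) - push p₂ rfl n
      map_add' := fun m n => by rw [map_add, map_add, Φ_add]; abel
      map_smul' := fun c n => by
        change σ.Φ hp (ζ := W₂) (p₁ ≫ α) (p₂ ≫ α) (push p₁ rfl (fnMap φ c • n)) - push p₂ rfl (fnMap φ c • n) =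
          fnMap (p₂ ≫ φ) c • (_ - _)
        rw [push_smul, push_smul, σ.Φ_smul hp (ζ := W₂), hA, ← fnMap_comp p₂ φ c, ← smul_sub] }
  have hex : Function.Exact inc D := by
    intro n
    constructor
    · intro hn
      refine ⟨⟨n, fun ω p q h => ?_⟩, rfl⟩
      obtain ⟨e, he₁, he₂⟩ := exists_lift_square hp hw₂ hpb₂ p q h
      have h0 := congrArg (push (M := M (cIdx ξ)) e (γ' := q ≫ α) (by rw [reassoc_of% he₂]))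
        (sub_eq_zero.1 hn : σ.Φ hp (ζ := W₂) (p₁ ≫ α) (p₂ ≫ α) (push p₁ rfl n) = push p₂ rfl n)
      rw [σ.Φ_nat hp (ζ := W₂) e (α' := p ≫ α) (by rw [reassoc_of% he₁]), push_push, push_push,
        push_congr he₁ _ rfl, push_congr he₂ _ rfl] at h0
      exact h0
    · rintro ⟨u, rfl⟩
      exact sub_eq_zero.2 (u.2 W₂ p₁ p₂ hw₂)
  let eta : BC (M (cIdx ξ)) α →ₗ[B] B ⊗[A] BC (M (cIdx ξ)) α :=
    { toFun := fun n => θ₂.symm (σ.Φ hp (ζ := W₂) (p₁ ≫ α) (p₂ ≫ α) (push p₁ rfl n))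
      map_add' := fun m n => by rw [map_add, Φ_add, map_add]
      map_smul' := fun c n => by
        rw [push_smul, σ.Φ_smul hp (ζ := W₂), RingHom.id_apply]
        exact θ₂.symm.map_smul c _ }
  let l : B ⊗[A] σ.P hp ξ →ₗ[B] BC (M (cIdx ξ)) α :=
    haveI : IsScalarTower A B (BC (M (cIdx ξ)) α) := .of_algebraMap_smul fun _ _ => rfl
    inc.liftBaseChange B
  have hl : ∀ t, eta (l t) = inc.lTensor B t := by
    intro t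
    induction t using TensorProduct.induction_on with
    | zero => simp
    | add a b ha hb => rw [map_add, map_add, map_add, ha, hb]
    | tmul c k =>
      change eta (c • k.1) = c ⊗ₜ k.1
      rw [map_smul]
      have : eta k.1 = (1 : B) ⊗ₜ k.1 := by
        change θ₂.symm _ = _
        rw [LinearEquiv.symm_apply_eq, hθ₂, one_smul]
        exact k.2 W₂ p₁ p₂ hw₂
      rw [this, TensorProduct.smul_tmul', smul_eq_mul, mul_one]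
  refine isBC_of_tensor (fun c u => σ.ev_smul hp (ζ := X') φ α c u) ⟨l, ⟨fun s t hst => ?_, fun n => ?_⟩, fun u => ?_⟩
  · refine Module.Flat.lTensor_preserves_injective_linearMap (M := B) inc (fun a b e => P.ext e) ?_
    rw [← hl, ← hl, hst]
  · obtain ⟨e, he₁, he₂⟩ := exists_lift_square hp hw₂ hpb₂ (𝟙 X'.1) (𝟙 X'.1) rfl
    have hμ : ∀ v, l.comp (LinearMap.id) v = l v := fun _ => rfl
    obtain ⟨e₁₂, a₁, a₂⟩ := exists_lift_square hp hw₂ hpb₂ o₁ (o₂₃ ≫ p₁) (by rw [Category.assoc, hw₂, hw₃])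
    obtain ⟨e₁₃, b₁, b₂⟩ := exists_lift_square hp hw₂ hpb₂ o₁ (o₂₃ ≫ p₂) (by rw [Category.assoc, hw₃])
    have hT : ∀ v, θ₃ (D.lTensor B v) =
        σ.Φ hp (ζ := W₃) (o₂₃ ≫ p₁ ≫ α) (o₂₃ ≫ p₂ ≫ α)
            (push e₁₂ (by rw [reassoc_of% a₂]) (θ₂ v)) -
          push e₁₃ (by rw [reassoc_of% b₂]) (θ₂ v) := by
      intro v
      induction v using TensorProduct.induction_on with
      | zero =>
        simp only [map_zero]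
        exact (sub_eq_zero.2 (σ.Φe hp (ζ := W₃) (o₂₃ ≫ p₁ ≫ α) (o₂₃ ≫ p₂ ≫ α)).map_zero).symm
      | add a b ha hb => rw [map_add, map_add, map_add, map_add, map_add, σ.Φ_add hp (ζ := W₃), ha, hb]; abel
      | tmul c m =>
        rw [LinearMap.lTensor_tmul, hθ₃, hθ₂]
        change fnMap o₁ c • push o₂₃ rfl (_ - _) = _ - push e₁₃ _ (fnMap p₁ c • push p₂ rfl m)
        rw [map_sub, σ.Φ_nat hp (ζ := W₂) (ζ' := W₃) o₂₃ (α' := o₂₃ ≫ p₁ ≫ α) rfl rfl,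
          push_smul e₁₃, smul_sub, push_push, push_push, push_push, ← fnMap_comp]
        change _ = σ.Φ hp (ζ := W₃) _ _ (push e₁₂ _ (fnMap p₁ c • push p₂ rfl m)) - _
        rw [push_smul e₁₂, push_push, ← fnMap_comp, a₁, b₁, σ.Φ_smul hp (ζ := W₃), push_congr a₂ _ (by simp),
          push_congr b₂ _ (by simp)]
    have hzero : D.lTensor B (eta n) = 0 := by
      refine θ₃.injective ?_
      rw [hT, map_zero, show θ₂ (eta n) = _ from θ₂.apply_symm_apply _, sub_eq_zero,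
        σ.Φ_nat hp (ζ := W₂) (ζ' := W₃) e₁₂ (α' := o₁ ≫ α) (by rw [reassoc_of% a₁]),
        σ.Φ_nat hp (ζ := W₂) (ζ' := W₃) e₁₃ (α' := o₁ ≫ α) (by rw [reassoc_of% b₁]),
        push_push, push_push, σ.Φ_trans hp (ζ := W₃), push_congr a₁ _ rfl, push_congr b₁ _ rfl]
    obtain ⟨t, ht⟩ := (Module.Flat.lTensor_exact B hex (eta n)).1 hzero
    refine ⟨t, ?_⟩
    have key : ∀ v : B ⊗[A] σ.P hp ξ, push e (γ' := α) (by rw [reassoc_of% he₂]) (θ₂ (inc.lTensor B v)) = l v := by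
      intro v
      induction v using TensorProduct.induction_on with
      | zero => simp
      | add a b ha hb => rw [map_add, map_add, map_add, map_add, ha, hb]
      | tmul c k =>
        rw [LinearMap.lTensor_tmul, hθ₂]
        change push e _ (fnMap p₁ c • push p₂ rfl k.1) = c • k.1
        rw [push_smul, push_push, ← fnMap_comp, he₁, fnMap_id, push_congr he₂ _ (Category.id_comp α), push_id]
    rw [← key, ht, show θ₂ (eta n) = _ from θ₂.apply_symm_apply _,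
      σ.Φ_nat hp (ζ := W₂) (ζ' := X') e (α' := α) (by rw [reassoc_of% he₁]), push_push,
      push_congr he₁ _ (Category.id_comp α), push_id, σ.Φ_self hp (ζ := X')]
  · change l ((1 : B) ⊗ₜ u) = σ.ev hp (ζ := X') φ α u
    rw [σ.ev_self hp u]
    exact one_smul B u.1

/-- Values are base changes. -/
theorem isBC_ev {ξ ζ : AObj 𝒳} (χ : ζ.1 ⟶ ξ.1) (β : ζ.1 ⟶ 𝔸.x i) : IsBC (fnMap χ) (σ.evH hp χ β) := by
  haveI := ζ.2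
  haveI := ξ.2
  obtain ⟨ζ', φ', ψ', hφ', hw⟩ := exists_pullback_cov hp (isCov_cMap (𝔸 := 𝔸) ξ) χ
  let Z : AObj 𝒳 := ⟨ζ', hφ'.1⟩
  refine IsBC.of_ff hφ'.faithfullyFlat (σ.ev_smul hp χ β) (isBC_push φ' (γ' := φ' ≫ β) rfl) ?_
  have h1 := ((σ.isBC_incl hp ξ).comp (isBC_push (M := M (cIdx ξ)) ψ' (γ' := ψ' ≫ cAtl ξ) rfl)).comp_equiv
    (σ.Φe hp (ζ := Z) (ψ' ≫ cAtl ξ) (φ' ≫ β)).toLinearMap
    (σ.Φe hp (ζ := Z) (ψ' ≫ cAtl ξ) (φ' ≫ β)).bijective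
  have e1 : (fnMap φ').comp (fnMap χ) = (fnMap ψ').comp (fnMap (cMap ξ)) := RingHom.ext fun r => by
    rw [RingHom.comp_apply, RingHom.comp_apply, ← fnMap_comp, ← fnMap_comp, hw]
  rw [e1]
  refine (congrArg (IsBC _) (AddMonoidHom.ext fun u => ?_)).mpr h1
  change push φ' rfl (σ.ev hp χ β u) = σ.Φ hp (ζ := Z) _ _ (push ψ' rfl (σ.ev hp (cMap ξ) (cAtl ξ) u))
  rw [σ.ev_self hp u]
  exact σ.isValAt_ev hp χ β u Z φ' ψ' hw.symm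

theorem isBC_res {ξ η : AObj 𝒳} (χ : η.1 ⟶ ξ.1) : IsBC (fnMap χ) (σ.res hp χ) := by
  haveI := η.2
  refine IsBC.of_ff (isCov_cMap (𝔸 := 𝔸) η).faithfullyFlat (fun c u => P.ext ?_) (σ.isBC_incl hp η) ?_
  · rw [res_val, ev_smul, smul_val, res_val, fnMap_comp]
  · have e1 : (fnMap (cMap (𝔸 := 𝔸) η)).comp (fnMap χ) = fnMap (cMap (𝔸 := 𝔸) η ≫ χ) :=
      RingHom.ext fun r => (fnMap_comp _ _ r).symm
    rw [e1]
    refine (congrArg (IsBC _) (AddMonoidHom.ext fun u => ?_)).mpr (σ.isBC_ev hp (cMap η ≫ χ) (cAtl η))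
    exact σ.ev_res hp (ζ := cObj η) (cMap η) χ (cAtl η) u

/-- The descended data on the affine objects. -/
def data : AffData 𝒳 where
  P := σ.P hp
  r := σ.res hp
  r_smul χ := (σ.isBC_res hp χ).smul
  r_id ξ u := P.ext (by rw [res_val, σ.ev_congr hp (Category.comp_id _), σ.ev_self hp u])
  r_comp ψ φ u := P.ext (by
    rw [res_val, res_val, ev_res]
    exact σ.ev_congr hp (Category.assoc _ _ _).symm _ u)
  bc χ := (σ.isBC_res hp χ).bc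

/-- The quasi-coherent module descended from the atlas. -/
def Q : StMod.QCoh 𝒳 := (σ.data hp).ext hp

/-- The sections over an affine object read along an arrow to the atlas. -/
def sval (ξ : AObj 𝒳) (β : ξ.1 ⟶ 𝔸.x i) : Sec (σ.Q hp) ξ.1 →ₗ[Fn 𝒳 ξ.1] BC (M i) β where
  toFun s := σ.ev hp (𝟙 ξ.1) β ((σ.data hp).toP hp ξ s)
  map_add' s t := (congrArg (σ.ev hp (𝟙 ξ.1) β) ((σ.data hp).toP_add hp ξ s t)).trans
    (σ.ev_add hp (𝟙 ξ.1) β _ _)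
  map_smul' c s := by
    refine (congrArg (σ.ev hp (𝟙 ξ.1) β) ((σ.data hp).toP_smul hp ξ c s)).trans
      ((σ.ev_smul hp (𝟙 ξ.1) β c _).trans ?_)
    rw [fnMap_id]
    rfl

theorem bijective_sval (ξ : AObj 𝒳) (β : ξ.1 ⟶ 𝔸.x i) : Function.Bijective (σ.sval hp ξ β) := by
  haveI := ξ.2
  refine Function.Bijective.comp (g := σ.evH hp (𝟙 ξ.1) β) ?_ ((σ.data hp).bijective_toP hp ξ)
  have h := σ.isBC_ev hp (𝟙 ξ.1) β
  refine ⟨h.injective_of_ff (isCov_id ξ.1).faithfullyFlat, fun y => h.induction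
    (P := fun y => ∃ u, σ.evH hp (𝟙 ξ.1) β u = y) y ⟨0, map_zero _⟩ ?_ ?_⟩
  · rintro a b ⟨u, rfl⟩ ⟨v, rfl⟩
    exact ⟨u + v, map_add _ _ _⟩
  · intro c u
    exact ⟨c • u, by rw [h.smul, fnMap_id]⟩

lemma sval_mapTop {ξ' ξ : AObj 𝒳} (φ : ξ'.1 ⟶ ξ.1) {β : ξ.1 ⟶ 𝔸.x i} {β' : ξ'.1 ⟶ 𝔸.x i} (e : φ ≫ β = β')
    (s : Sec (σ.Q hp) ξ.1) : σ.sval hp ξ' β' ((σ.Q hp).obj.mapTop φ s) = push φ e (σ.sval hp ξ β s) := by
  refine (congrArg (σ.ev hp (𝟙 ξ'.1) β') ((σ.data hp).toP_mapTop hp φ s)).trans ?_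
  refine (σ.ev_res hp (𝟙 ξ'.1) φ β' _).trans (Eq.trans ?_ (σ.push_ev hp φ (𝟙 ξ.1) e _).symm)
  exact σ.ev_congr hp (by simp) _ _

lemma Φ_sval (ξ : AObj 𝒳) (β : ξ.1 ⟶ 𝔸.x i) (β' : ξ.1 ⟶ 𝔸.x i') (s : Sec (σ.Q hp) ξ.1) :
    σ.Φ hp β β' (σ.sval hp ξ β s) = σ.sval hp ξ β' s :=
  σ.Φ_ev hp (𝟙 ξ.1) β β' _

end SysI

end Groth.Agent.H14CohBC
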