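import Groth.Agent.H14CohBC.PushI
import Groth.Agent.H14CohBC.Idem
import Groth.Agent.H14QCoh.SectDescent
import Groth.Agent.H14QCoh.Gen

/-!
# Exactness of sections on the category over an object of an exact functor
-/

set_option autoImplicit false
set_option linter.style.haveILetI false
set_option backward.isDefEq.respectTransparency false
set_option backward.isDefEq.respectTransparency.types false

universe t u

open CategoryTheory CategoryTheory.Limits AlgebraicGeometry Opposite TopologicalSpace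
open scoped TensorProduct

noncomputable section

namespace Groth.Agent.H14CohBC

open H14QCoh

variable {S : Scheme.{u}} {𝒳 𝒴 : AlgSt.Cat S}

/-- Idempotent functions cutting out the loci where two arrows to `η` agree. -/
structure DiagIdem (η : 𝒴.obj) where
  e : ∀ ω : AObj 𝒴, (ω.1 ⟶ η) → (ω.1 ⟶ η) → Fn 𝒴 ω.1
  idem : ∀ ω a b, IsIdempotentElem (e ω a b)
  nat : ∀ {ω' ω : AObj 𝒴} (k : ω'.1 ⟶ ω.1) (a b : ω.1 ⟶ η), fnMap k (e ω a b) = e ω' (k ≫ a) (k ≫ b)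
  self : ∀ ω a, e ω a a = 1
  eq : ∀ ω a b, e ω a b = 1 → a = b

variable (π : 𝒳 ⥤ᵇ 𝒴) {η : 𝒴.obj}

/-- The idempotent on an object over which two arrows to `η` are given. -/
def DiagIdem.eX (Δ : DiagIdem η) (z : AObj 𝒳) (a b : π.obj z.1 ⟶ η) : Fn 𝒳 z.1 :=
  baseFn π z.1 (𝟙 _) (Δ.e (imA π z) a b)

variable {π} (Δ : DiagIdem η)

lemma DiagIdem.idem_eX (z : AObj 𝒳) (a b : π.obj z.1 ⟶ η) : IsIdempotentElem (Δ.eX π z a b) :=
  (Δ.idem (imA π z) a b).map _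

lemma DiagIdem.eX_self (z : AObj 𝒳) (a : π.obj z.1 ⟶ η) : Δ.eX π z a a = 1 := by
  rw [DiagIdem.eX, Δ.self, map_one]

lemma DiagIdem.eX_nat {z' z : AObj 𝒳} (φ : z'.1 ⟶ z.1) (a b : π.obj z.1 ⟶ η) :
    fnMap φ (Δ.eX π z a b) = Δ.eX π z' (π.map φ ≫ a) (π.map φ ≫ b) := by
  rw [DiagIdem.eX, fnMap_baseFn, Category.comp_id]
  conv_lhs => rw [← Category.id_comp (π.map φ), baseFn_comp]
  exact congrArg (baseFn π z'.1 (𝟙 _)) (Δ.nat (ω' := imA π z') (ω := imA π z) (π.map φ) a b)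

lemma DiagIdem.eq_of_eX (hfn : ∀ ξ : 𝒳.obj, Function.Injective (baseFn π ξ (𝟙 (π.obj ξ)))) (z : AObj 𝒳)
    (a b : π.obj z.1 ⟶ η) (h : Δ.eX π z a b = 1) : a = b :=
  Δ.eq (imA π z) a b (hfn z.1 (h.trans (map_one _).symm))

lemma injective_baseFn_id (ξ : 𝒳.obj) : Function.Injective (baseFn π ξ (𝟙 (π.obj ξ))) := fun r r' h => by
  rw [baseFn_id, baseFn_id] at h
  exact (toFn π ξ).injective h

/-- An object of the category over `η` as an affine object. -/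
abbrev fibA' (z : AObj (StMod.fibCat π η)) : AObj 𝒳 := ⟨z.1.left, z.2⟩

variable {F G : StMod.QCoh (StMod.fibCat π η)}

/-- The section over an object of the category over `η` equal to a given one where the two arrows to `η` agree, and
zero elsewhere. -/
theorem exists_cut (hp : FibCat.IsFibGrpd 𝒳.p) (x : AObj (StMod.fibCat π η)) (m₀ : Sec F x.1)
    (z : AObj (StMod.fibCat π η)) (β : z.1.left ⟶ x.1.left) :
    ∃ g : Sec F z.1, (Δ.eX π (fibA' z) z.1.hom (π.map β ≫ x.1.hom) : Fn (StMod.fibCat π η) z.1) • g = g ∧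
      ∀ (ω : AObj (StMod.fibCat π η)) (k : ω.1 ⟶ z.1) (c : ω.1 ⟶ x.1), c.left = k.left ≫ β →
        F.obj.mapTop k g = F.obj.mapTop c m₀ := by
  haveI : IsAffine (StMod.sch 𝒳 z.1.left) := z.2
  haveI : IsAffine (StMod.sch (StMod.fibCat π η) z.1) := z.2
  have hfib := fibCat_fibGrpd π η hp
  let e : Fn (StMod.fibCat π η) z.1 := Δ.eX π (fibA' z) z.1.hom (π.map β ≫ x.1.hom)
  have he : IsIdempotentElem e := Δ.idem_eX (fibA' z) _ _
  obtain ⟨ω₀, ι, hω₀, h1, hsurj, hker, hflat⟩ := exists_idem_lift hfib he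
  let W : AObj (StMod.fibCat π η) := ⟨ω₀, hω₀⟩
  have agree : ∀ (ω : AObj (StMod.fibCat π η)) (k : ω.1 ⟶ z.1), fnMap k e = 1 →
      π.map (k.left ≫ β) ≫ x.1.hom = ω.1.hom := by
    intro ω k hk
    have h2 := Δ.eq_of_eX injective_baseFn_id (fibA' ω) _ _
      ((Δ.eX_nat (z' := fibA' ω) (z := fibA' z) k.left z.1.hom (π.map β ≫ x.1.hom)).symm.trans hk)
    rw [π.map_comp, Category.assoc, ← h2]
    exact CostructuredArrow.w k
  let c₀ : ω₀ ⟶ x.1 := CostructuredArrow.homMk (ι.left ≫ β) (agree W ι h1)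
  obtain ⟨g₀, hg₀⟩ := surjective_mapTop_idem (F := F) z.2 hω₀ ι hsurj (F.obj.mapTop c₀ m₀)
  refine ⟨e • g₀, by rw [← mul_smul, he.eq], fun ω k c hc => ?_⟩
  have hk : fnMap k e = 1 := by
    refine (Δ.eX_nat (z' := fibA' ω) (z := fibA' z) k.left z.1.hom (π.map β ≫ x.1.hom)).trans ?_
    have h3 : π.map k.left ≫ π.map β ≫ x.1.hom = π.map k.left ≫ z.1.hom := by
      rw [← Category.assoc, ← π.map_comp, ← hc]
      exact (CostructuredArrow.w c).trans (CostructuredArrow.w k).symm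
    rw [h3]
    exact Δ.eX_self _ _
  rw [F.obj.mapTop_smul]
  refine (congrArg (fun r : Fn (StMod.fibCat π η) ω.1 => r • F.obj.mapTop k g₀) hk).trans ((one_smul _ _).trans ?_)
  haveI : IsAffine (StMod.sch (StMod.fibCat π η) ω₀) := hω₀
  obtain ⟨l, hl⟩ := exists_factor_idem hfib ι hsurj hker k hk
  rw [← hl, F.obj.mapTop_comp, hg₀, ← F.obj.mapTop_comp]
  refine congrArg (fun l => F.obj.mapTop l m₀) (CostructuredArrow.hom_ext _ _ ?_)
  change l.left ≫ ι.left ≫ β = c.left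
  rw [hc, ← hl]
  exact (Category.assoc _ _ _).symm

/-- Sections cut off by the idempotent are determined on the arrows to the given object. -/
theorem cut_ext (hp : FibCat.IsFibGrpd 𝒳.p) {x : AObj (StMod.fibCat π η)} {z : AObj (StMod.fibCat π η)}
    {β : z.1.left ⟶ x.1.left} {g g' : Sec F z.1}
    (hg : (Δ.eX π (fibA' z) z.1.hom (π.map β ≫ x.1.hom) : Fn (StMod.fibCat π η) z.1) • g = g)
    (hg' : (Δ.eX π (fibA' z) z.1.hom (π.map β ≫ x.1.hom) : Fn (StMod.fibCat π η) z.1) • g' = g')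
    (h : ∀ (ω : AObj (StMod.fibCat π η)) (k : ω.1 ⟶ z.1) (c : ω.1 ⟶ x.1), c.left = k.left ≫ β →
      F.obj.mapTop k g = F.obj.mapTop k g') : g = g' := by
  haveI : IsAffine (StMod.sch (StMod.fibCat π η) z.1) := z.2
  obtain ⟨ω₀, ι, hω₀, h1, hsurj, hker, hflat⟩ := exists_idem_lift (fibCat_fibGrpd π η hp)
    (Δ.idem_eX (fibA' z) z.1.hom (π.map β ≫ x.1.hom))
  have hag := Δ.eq_of_eX injective_baseFn_id (fibA' ⟨ω₀, hω₀⟩) _ _
      ((Δ.eX_nat (z' := fibA' ⟨ω₀, hω₀⟩) (z := fibA' z) ι.left z.1.hom (π.map β ≫ x.1.hom)).symm.trans h1)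
  let c₀ : ω₀ ⟶ x.1 := CostructuredArrow.homMk (ι.left ≫ β) (by
    rw [π.map_comp, Category.assoc, ← hag]
    exact CostructuredArrow.w ι)
  have h0 := idem_smul_eq_zero (F := F) z.2 hω₀ ι hsurj hker hflat (g - g') (by
    let L := AddMonoidHom.mk' (F.obj.mapTop ι) (F.obj.mapTop_add ι)
    change L (g - g') = 0
    rw [map_sub, sub_eq_zero]
    exact h ⟨ω₀, hω₀⟩ ι c₀ rfl)
  rw [smul_sub, sub_eq_zero] at h0
  exact hg.symm.trans (h0.trans hg')

/-- The family of the cut sections. -/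
theorem exists_cutFam (hp : FibCat.IsFibGrpd 𝒳.p) (x : AObj (StMod.fibCat π η)) (m₀ : Sec F x.1) :
    ∃ g : AHom (StMod.fibFst π η) (StMod.OQ (StMod.fibCat π η)) F x.1.left,
      ∀ (z : AObj (StMod.fibCat π η)) (β : z.1.left ⟶ x.1.left),
        (Δ.eX π (fibA' z) z.1.hom (π.map β ≫ x.1.hom) : Fn (StMod.fibCat π η) z.1) •
            g.1 z β (1 : Fn (StMod.fibCat π η) z.1) = g.1 z β (1 : Fn (StMod.fibCat π η) z.1) ∧
          ∀ (ω : AObj (StMod.fibCat π η)) (k : ω.1 ⟶ z.1) (c : ω.1 ⟶ x.1), c.left = k.left ≫ β →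
            F.obj.mapTop k (g.1 z β (1 : Fn (StMod.fibCat π η) z.1)) = F.obj.mapTop c m₀ := by
  choose g hg1 hg2 using fun z β => exists_cut (F := F) Δ hp x m₀ z β
  let fam : ∀ (z : AObj (StMod.fibCat π η)), ((StMod.fibFst π η).obj z.1 ⟶ x.1.left) →
      (Sec (StMod.OQ (StMod.fibCat π η)) z.1 →ₗ[Fn (StMod.fibCat π η) z.1] Sec F z.1) := fun z β =>
    LinearMap.toSpanSingleton (Fn (StMod.fibCat π η) z.1) (Sec F z.1) (g z β)
  have hone : ∀ z β, fam z β (1 : Fn (StMod.fibCat π η) z.1) = g z β := fun z β => one_smul _ _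
  refine ⟨⟨fam, fun z' z φ β e => ?_⟩, fun z β => ?_⟩
  · let e' : Fn (StMod.fibCat π η) z.1 := e
    change fnMap φ e' • g z' (φ.left ≫ β) = F.obj.mapTop φ (e' • g z β)
    rw [F.obj.mapTop_smul]
    refine congrArg (fnMap φ e' • ·) (cut_ext Δ hp (x := x) (β := φ.left ≫ β) (hg1 z' _) ?_ fun ω k c hc => ?_)
    · conv_rhs => rw [← hg1 z β, F.obj.mapTop_smul]
      refine congrArg (fun r : Fn (StMod.fibCat π η) z'.1 => r • F.obj.mapTop φ (g z β)) ?_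
      refine Eq.trans ?_ (Δ.eX_nat (z' := fibA' z') (z := fibA' z) φ.left z.1.hom (π.map β ≫ x.1.hom)).symm
      rw [π.map_comp, Category.assoc]
      exact congrArg (fun a => Δ.eX π (fibA' z') a _) (CostructuredArrow.w φ).symm
    · rw [hg2 z' _ ω k c hc, ← F.obj.mapTop_comp]
      exact (hg2 z β ω (k ≫ φ) c (hc.trans (Category.assoc _ _ _).symm)).symm
  · exact ⟨(congrArg (_ • ·) (hone z β)).trans ((hg1 z β).trans (hone z β).symm), fun ω k c hc =>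
      (congrArg (F.obj.mapTop k) (hone z β)).trans (hg2 z β ω k c hc)⟩

variable {𝔸 : AtlasI.{t} 𝒳} {𝔹 : ∀ i, Atlas (StMod.fibCat (StMod.fibFst π η) (𝔸.x i))}
  (P : ∀ i, Presn (𝔹 i) (fibMod (StMod.fibFst π η) (𝔸.x i) (StMod.OQ (StMod.fibCat π η))))

include Δ P in
/-- If sections over `η` preserve surjections of modules, sections on the category over `η` do. -/
theorem surjective_globSectMap_fib (hp : FibCat.IsFibGrpd 𝒳.p) (𝔸' : AtlasF (StMod.fibCat π η)) {i₀ : 𝔸.ι}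
    (γ : 𝔸'.x.left ⟶ 𝔸.x i₀) (hγ : Flat (StMod.bmap 𝒳 γ))
    (hex : ∀ {P H : StMod.QCoh 𝒳} (u : P ⟶ H), StMod.Mod.IsSurj u.hom →
      Function.Surjective (StMod.Mod.relSectMap π u.hom η))
    (v : F.obj ⟶ G.obj) (hv : StMod.Mod.IsSurj v) : Function.Surjective (StMod.Mod.globSectMap v) := by
  intro s
  have hp' := fibCat_fibGrpd π η hp
  let X : AObj (StMod.fibCat π η) := ⟨𝔸'.x, 𝔸'.affx⟩
  let D : AObj 𝒳 := ⟨𝔸'.x.left, 𝔸'.affx⟩
  let D₂ : AObj 𝒳 := ⟨𝔸'.y.left, 𝔸'.affy⟩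
  obtain ⟨m₀, hm₀⟩ := hv X.1 X.2 (s.1 X.1)
  obtain ⟨g, hg⟩ := exists_cutFam (F := F) Δ hp X m₀
  let σF := pushSys P hp' hp F
  let σG := pushSys P hp' hp G
  let H : SysI.HomI σF σG := pushHomI P hp' hp v
  let σI := H.image (pushSys_hr_smul P hp' hp G)
  have hsF : σF.Sep := pushSys_sep P hp' hp F
  have hsI : σI.Sep := H.image_sep (pushSys_hr_smul P hp' hp G) (pushSys_sep P hp' hp G)
  -- the values of the image family
  let hG : AHom (StMod.fibFst π η) (StMod.OQ (StMod.fibCat π η)) G D.1 := AHom.comp v g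
  have hGv : ∀ (z : AObj (StMod.fibCat π η)) (β : z.1.left ⟶ D.1),
      hG.1 z β (1 : Fn (StMod.fibCat π η) z.1) =
        (Δ.eX π (fibA' z) z.1.hom (π.map β ≫ X.1.hom) : Fn (StMod.fibCat π η) z.1) • s.1 z.1 := by
    intro z β
    refine cut_ext Δ hp (x := X) (β := β) ?_ ?_ fun ω k c hc => ?_
    · change _ • (v.app z.1).app ⊤ _ = (v.app z.1).app ⊤ _
      rw [← Scheme.Modules.Hom.app_smul]
      exact congrArg _ (hg z β).1
    · rw [← mul_smul, (Δ.idem_eX (fibA' z) z.1.hom (π.map β ≫ X.1.hom)).eq]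
    · change G.obj.mapTop k ((v.app z.1).app ⊤ _) = _
      rw [StMod.Mod.mapTop_app, (hg z β).2 ω k c hc, ← StMod.Mod.mapTop_app, hm₀, s.2 c, G.obj.mapTop_smul, s.2 k]
      refine (one_smul (Fn (StMod.fibCat π η) ω.1) (s.1 ω.1)).symm.trans
        (congrArg (fun r : Fn (StMod.fibCat π η) ω.1 => r • s.1 ω.1) ?_)
      refine ((Δ.eX_nat (z' := fibA' ω) (z := fibA' z) k.left z.1.hom (π.map β ≫ X.1.hom)).trans ?_).symm
      have h3 : π.map k.left ≫ π.map β ≫ X.1.hom = π.map k.left ≫ z.1.hom := by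
        rw [← Category.assoc, ← π.map_comp, ← hc]
        exact (CostructuredArrow.w c).trans (CostructuredArrow.w k).symm
      rw [h3]
      exact Δ.eX_self _ _
  have hrestr : ∀ (a : 𝔸'.y ⟶ 𝔸'.x), AHom.restr a.left hG = AHom.restr 𝔸'.b.left hG := by
    intro a
    refine AHom.ext fun z β r => ?_
    let r' : Fn (StMod.fibCat π η) z.1 := r
    have hsc : ∀ (β' : z.1.left ⟶ D.1), hG.1 z β' r = r' •
        hG.1 z β' (1 : Fn (StMod.fibCat π η) z.1) := fun β' => by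
      rw [← LinearMap.map_smul]
      exact congrArg _ (mul_one r').symm
    have he : ∀ c : 𝔸'.y ⟶ 𝔸'.x, π.map (β ≫ c.left) ≫ 𝔸'.x.hom = π.map β ≫ 𝔸'.y.hom := fun c => by
      rw [π.map_comp, Category.assoc]
      exact congrArg _ (CostructuredArrow.w c)
    change hG.1 z (β ≫ a.left) r = hG.1 z (β ≫ 𝔸'.b.left) r
    rw [hsc, hsc, hGv, hGv, he a, he 𝔸'.b]
  -- the section of the image
  have hγy : Flat (StMod.bmap 𝒳 (𝔸'.b.left ≫ γ)) := flat_comp 𝔸'.flatb hγ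
  obtain ⟨tI, htI⟩ := (σI.bijective_val hp D γ hγ).2 ⟨hG, ⟨g, rfl⟩⟩
  have hglue : (σI.Q hp).obj.mapTop 𝔸'.a.left tI = (σI.Q hp).obj.mapTop 𝔸'.b.left tI := by
    refine (σI.bijective_val hp D₂ (𝔸'.b.left ≫ γ) hγy).1 ?_
    refine ((σI.val_indep hp hsI D₂ (𝔸'.a.left ≫ γ) (𝔸'.b.left ≫ γ) _).symm.trans
      (σI.val_mapTop hp (D := D) (D' := D₂) 𝔸'.a.left rfl tI)).trans
      (Eq.trans ?_ (σI.val_mapTop hp (D := D) (D' := D₂) 𝔸'.b.left rfl tI).symm)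
    rw [htI]
    exact Subtype.ext (hrestr 𝔸'.a)
  obtain ⟨T, hT⟩ := exists_globSect hp' 𝔸'.toAtlas (fibQ π η (σI.Q hp)) tI (by
    rw [fib_mapTop, fib_mapTop]
    exact hglue)
  -- the lift
  obtain ⟨w, hw⟩ := (H.toImage (pushSys_hr_smul P hp' hp G)).exists_map (hp := hp) hsF hsI
  obtain ⟨R, hR⟩ := hex (ObjectProperty.homMk w : σF.Q hp ⟶ σI.Q hp)
    ((H.toImage (pushSys_hr_smul P hp' hp G)).isSurj_of_map hw fun i =>
      H.toImage_surjective (pushSys_hr_smul P hp' hp G) (𝔸.X i)) (ofGlob π T)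
  let pD : Sec (σF.Q hp) D.1 := R.1 D.1 𝔸'.x.hom
  have hwp : (w.app D.1).app ⊤ pD = tI := by
    have := congrArg (fun t : StMod.Mod.RelSect π (σI.Q hp).obj η => t.1 D.1 𝔸'.x.hom) hR
    exact this.trans hT
  let q : AHom (StMod.fibFst π η) (StMod.OQ (StMod.fibCat π η)) F D.1 := σF.val hp D γ pD
  have hq : AHom.comp v q = hG := by
    have h1 := hw D γ pD
    rw [hwp, htI] at h1
    exact (congrArg Subtype.val h1).symm
  let m : Sec F 𝔸'.x := q.1 X (𝟙 _) (1 : Fn (StMod.fibCat π η) 𝔸'.x)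
  have hm : (v.app 𝔸'.x).app ⊤ m = s.1 𝔸'.x := by
    have h1 := congrArg (fun h : AHom _ (StMod.OQ (StMod.fibCat π η)) G D.1 =>
      h.1 X (𝟙 _) (1 : Fn (StMod.fibCat π η) 𝔸'.x)) hq
    refine h1.trans ((hGv X (𝟙 _)).trans ?_)
    refine (congrArg (fun r : Fn (StMod.fibCat π η) 𝔸'.x => r • s.1 𝔸'.x) ?_).trans (one_smul _ _)
    have h2 : π.map (𝟙 X.1.left) ≫ X.1.hom = X.1.hom := by rw [π.map_id]; exact Category.id_comp _
    rw [h2]
    exact Δ.eX_self _ _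
  have hpull : ∀ c : 𝔸'.y ⟶ 𝔸'.x, F.obj.mapTop c m =
      (σF.val hp D₂ (c.left ≫ γ) (R.1 D₂.1 𝔸'.y.hom) : AHom _ (StMod.OQ (StMod.fibCat π η)) F D₂.1).1
        ⟨𝔸'.y, 𝔸'.affy⟩ (𝟙 _) (1 : Fn (StMod.fibCat π η) 𝔸'.y) := by
    intro c
    let Y : AObj (StMod.fibCat π η) := ⟨𝔸'.y, 𝔸'.affy⟩
    have h1 : (σF.Q hp).obj.mapTop c.left pD = R.1 D₂.1 𝔸'.y.hom :=
      (R.2 c.left 𝔸'.x.hom).trans (congrArg (R.1 D₂.1) (CostructuredArrow.w c))
    rw [← h1, σF.val_mapTop hp (D := D) (D' := D₂) c.left rfl]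
    refine (q.2 (ξ' := Y) (ξ := X) c (𝟙 _) (1 : Fn (StMod.fibCat π η) 𝔸'.x)).symm.trans ?_
    change q.1 Y (c.left ≫ 𝟙 _) (fnMap c 1) = q.1 Y (𝟙 _ ≫ c.left) _
    rw [map_one, Category.comp_id, Category.id_comp]
  obtain ⟨M, hM⟩ := exists_globSect hp' 𝔸'.toAtlas F m (by
    rw [hpull, hpull, σF.val_indep hp hsF D₂ (𝔸'.a.left ≫ γ) (𝔸'.b.left ≫ γ)])
  exact ⟨M, globSect_ext hp' 𝔸'.toAtlas _ _ (by rw [StMod.Mod.globSectMap_val, hM, hm])⟩

end Groth.Agent.H14CohBC
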