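import Groth.Agent.H14QCoh.AffRepOf
import Groth.Agent.H14AlgSt.ReducedSub
import Groth.Agent.H14AlgSt.Points

/-!
# Points of objects, and the affine representability of closed substacks
-/

set_option autoImplicit false
set_option linter.style.haveILetI false
set_option backward.isDefEq.respectTransparency false
set_option backward.isDefEq.respectTransparency.types false

universe u

open CategoryTheory CategoryTheory.Limits AlgebraicGeometry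

noncomputable section

namespace Groth.Agent.H14CohBC

open H14Fib H14AlgSt H14Stk H14QCoh

variable {S : Scheme.{u}} {𝒵 : AlgSt.Cat S}

/-- The image in the base of a point under an arrow to an object. -/
def imPt {r : AlgSt.FPt 𝒵} {a : 𝒵.obj} (ψ : r.obj ⟶ a) : StMod.sch 𝒵 a :=
  (eqToHom r.lies.symm ≫ 𝒵.p.map ψ).left (IsLocalRing.closedPoint r.K)

lemma imPt_comp {r : AlgSt.FPt 𝒵} {a' a : 𝒵.obj} (ψ : r.obj ⟶ a') (φ : a' ⟶ a) :
    imPt (ψ ≫ φ) = StMod.bmap 𝒵 φ (imPt ψ) := by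
  simp only [imPt, 𝒵.p.map_comp, ← Category.assoc, Over.comp_left, StMod.bmap]
  rfl

/-- A point mapping to a chart value. -/
theorem mk_eq_ofChart (hX : FibCat.IsFibGrpd 𝒵.p) {U : Over S} (x : FibCat.overCat U ⥤ᵇ 𝒵)
    (r : AlgSt.FPt 𝒵) (ψ : r.obj ⟶ x.obj (topObj U)) :
    AlgSt.Points.mk r = AlgSt.Points.ofChart x ((eqToHom (x.w_obj (topObj U))).left (imPt ψ)) := by
  let g : Over.mk r.str ⟶ U := eqToHom r.lies.symm ≫ 𝒵.p.map ψ ≫ eqToHom (x.w_obj (topObj U))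
  have hψ : 𝒵.p.IsHomLift g ψ := IsHomLift.of_fac' 𝒵.p g ψ r.lies (x.w_obj (topObj U)) (by simp [g])
  let s' : (FibCat.overCat U).obj := Over.mk g
  let χ : s' ⟶ topObj U := Over.homMk g (Category.comp_id g)
  have hχ₀ : (FibCat.overCat U).p.IsHomLift g χ := overCat_isHomLift χ
  have hχ : 𝒵.p.IsHomLift g (x.map χ) := x.preserves_isHomLift g χ
  obtain ⟨e, -, -⟩ := exists_vertIso hX g ψ (x.map χ)
  let q : AlgSt.FPt (FibCat.overCat U) := { K := r.K, str := r.str, obj := s', lies := rfl }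
  have h1 : AlgSt.Points.mk r = AlgSt.Points.map x (AlgSt.Points.mk q) :=
    mk_eq_of_hom (p := r) (q := q.map x) e.hom
  rw [h1, map_eq_ofChart]
  refine congrArg (AlgSt.Points.ofChart x) ?_
  change chartPt q = _
  simp [chartPt, chartHom, q, s', g, imPt]
  rfl

theorem exists_slice (hX : FibCat.IsFibGrpd 𝒵.p) (a : 𝒵.obj) :
    ∃ (x : FibCat.overCat (𝒵.p.obj a) ⥤ᵇ 𝒵) (e : x.obj (topObj _) ≅ a),
      𝒵.p.IsHomLift (𝟙 (𝒵.p.obj a)) e.hom := by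
  have := isFibered_of_fibGrpd hX
  obtain ⟨x, e, -, he⟩ := exists_fromOver (𝒳 := 𝒵) (x := a) rfl
  exact ⟨x, e, he⟩

/-- The chart of an object. -/
def slice (hX : FibCat.IsFibGrpd 𝒵.p) (a : 𝒵.obj) : FibCat.overCat (𝒵.p.obj a) ⥤ᵇ 𝒵 := (exists_slice hX a).choose

/-- The value of the chart of an object. -/
def sliceIso (hX : FibCat.IsFibGrpd 𝒵.p) (a : 𝒵.obj) : (slice hX a).obj (topObj _) ≅ a :=
  (exists_slice hX a).choose_spec.choose

lemma map_sliceIso_inv (hX : FibCat.IsFibGrpd 𝒵.p) (a : 𝒵.obj) :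
    𝒵.p.map (sliceIso hX a).inv ≫ eqToHom ((slice hX a).w_obj (topObj _)) = 𝟙 (𝒵.p.obj a) := by
  haveI : 𝒵.p.IsHomLift (𝟙 (𝒵.p.obj a)) (sliceIso hX a).hom := (exists_slice hX a).choose_spec.choose_spec
  have h : 𝒵.p.map (sliceIso hX a).hom = _ := IsHomLift.fac' 𝒵.p (𝟙 (𝒵.p.obj a)) (sliceIso hX a).hom
  have h2 : 𝒵.p.map (sliceIso hX a).inv ≫ 𝒵.p.map (sliceIso hX a).hom = 𝟙 _ := by
    rw [← 𝒵.p.map_comp, Iso.inv_hom_id, 𝒵.p.map_id]
  rw [h] at h2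
  simpa using h2

/-- The point of an object at a point of its scheme. -/
def ptOf (hX : FibCat.IsFibGrpd 𝒵.p) (a : 𝒵.obj) (t : StMod.sch 𝒵 a) : AlgSt.Points 𝒵 :=
  AlgSt.Points.ofChart (slice hX a) t

theorem mk_eq_ptOf (hX : FibCat.IsFibGrpd 𝒵.p) {r : AlgSt.FPt 𝒵} {a : 𝒵.obj} (ψ : r.obj ⟶ a) :
    AlgSt.Points.mk r = ptOf hX a (imPt ψ) := by
  rw [mk_eq_ofChart hX (slice hX a) r (ψ ≫ (sliceIso hX a).inv)]
  refine congrArg (AlgSt.Points.ofChart (slice hX a)) ?_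
  have h : eqToHom r.lies.symm ≫ 𝒵.p.map (ψ ≫ (sliceIso hX a).inv) ≫ eqToHom ((slice hX a).w_obj (topObj _)) =
      eqToHom r.lies.symm ≫ 𝒵.p.map ψ := by
    rw [𝒵.p.map_comp, Category.assoc, map_sliceIso_inv, Category.comp_id]
  exact congrArg (fun m : Over.mk r.str ⟶ 𝒵.p.obj a => m.left (IsLocalRing.closedPoint r.K)) h

/-- Every point of the scheme of an object is the image of a point. -/
theorem exists_pt (hX : FibCat.IsFibGrpd 𝒵.p) (a : 𝒵.obj) (t : StMod.sch 𝒵 a) :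
    ∃ (r : AlgSt.FPt 𝒵) (ψ : r.obj ⟶ a), imPt ψ = t := by
  let T := 𝒵.p.obj a
  let g : Over.mk (T.left.fromSpecResidueField t ≫ T.hom) ⟶ T := Over.homMk (T.left.fromSpecResidueField t) rfl
  obtain ⟨b, φ, hφ⟩ := hX.exists_lift (x := a) g
  refine ⟨⟨T.left.residueField t, _, b, IsHomLift.domain_eq 𝒵.p g φ⟩, φ, ?_⟩
  have h : eqToHom (IsHomLift.domain_eq 𝒵.p g φ).symm ≫ 𝒵.p.map φ = g := by
    rw [IsHomLift.fac' 𝒵.p g φ]
    simp
  exact (congrArg (fun m : Over.mk (T.left.fromSpecResidueField t ≫ T.hom) ⟶ T =>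
    m.left (IsLocalRing.closedPoint (T.left.residueField t))) h).trans
    (T.left.fromSpecResidueField_apply t _)

theorem ptOf_map (hX : FibCat.IsFibGrpd 𝒵.p) {a' a : 𝒵.obj} (φ : a' ⟶ a) (t : StMod.sch 𝒵 a') :
    ptOf hX a (StMod.bmap 𝒵 φ t) = ptOf hX a' t := by
  obtain ⟨r, ψ, rfl⟩ := exists_pt hX a' t
  rw [← imPt_comp, ← mk_eq_ptOf hX, ← mk_eq_ptOf hX]

section Sub

variable {Q : 𝒵.obj → Prop}

/-- Objects of a substack pull back to objects of it. -/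
theorem mem_of_hom (hX : FibCat.IsFibGrpd 𝒵.p) (hQ : FibCat.IsFibGrpd (AlgSt.fullSub 𝒵 Q).p)
    (hc : ObjectProperty.IsClosedUnderIsomorphisms Q) {a b : 𝒵.obj} (φ : b ⟶ a) (h : Q a) : Q b := by
  let g : 𝒵.p.obj b ⟶ 𝒵.p.obj a := 𝒵.p.map φ
  obtain ⟨c, χ, hχ⟩ := hQ.exists_lift (x := (⟨a, h⟩ : (AlgSt.fullSub 𝒵 Q).obj)) g
  haveI : 𝒵.p.IsHomLift g χ.hom := (AlgSt.subIncl 𝒵 Q).preserves_isHomLift g χ
  obtain ⟨e, -, -⟩ := exists_vertIso hX g φ χ.hom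
  exact hc.of_iso e.symm c.property

/-- The points of a substack are those of its objects. -/
theorem mem_iff_range (hX : FibCat.IsFibGrpd 𝒵.p) (hQ : FibCat.IsFibGrpd (AlgSt.fullSub 𝒵 Q).p)
    (hc : ObjectProperty.IsClosedUnderIsomorphisms Q) (a : (AlgSt.fullSub 𝒵 Q).obj) (t : StMod.sch 𝒵 a.obj) :
    ptOf hX a.obj t ∈ Set.range (AlgSt.Points.map (AlgSt.subIncl 𝒵 Q)) := by
  obtain ⟨r, ψ, rfl⟩ := exists_pt hX a.obj t
  rw [← mk_eq_ptOf hX]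
  exact ⟨AlgSt.Points.mk ⟨r.K, r.str, ⟨r.obj, mem_of_hom hX hQ hc ψ a.property⟩, r.lies⟩, rfl⟩

/-- The affine representing scheme of a closed substack is a closed subscheme. -/
theorem isClosedImmersion_e (hX : FibCat.IsFibGrpd 𝒵.p) (hc : ObjectProperty.IsClosedUnderIsomorphisms Q)
    (hcl : AlgSt.IsClosedImm (AlgSt.subIncl 𝒵 Q)) (R : AffRep (AlgSt.subIncl 𝒵 Q)) (ξ : 𝒵.obj) :
    IsClosedImmersion (StMod.bmap 𝒵 (R.e ξ)) := by
  let x := slice hX ξ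
  let i := sliceIso hX ξ
  obtain ⟨A, v, hv, hW⟩ := exists_subspace hc hcl x
  haveI := hv
  -- the object over the subscheme
  have hQa : Q (x.obj (Over.mk v)) := (hW (Over.mk v)).2 ⟨𝟙 A, Category.id_comp v⟩
  let γ : x.obj (Over.mk v) ⟶ ξ := x.map (toTop (Over.mk v)) ≫ i.hom
  obtain ⟨k, hk, -⟩ := R.existsUnique ξ ⟨x.obj (Over.mk v), hQa⟩ γ
  -- the universal object factors through the subscheme
  let g : 𝒵.p.obj (R.z ξ).obj ⟶ 𝒵.p.obj ξ := 𝒵.p.map (R.e ξ)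
  let s : (FibCat.overCat (𝒵.p.obj ξ)).obj := Over.mk g
  have hQs : Q (x.obj s) := by
    let χ : s ⟶ topObj _ := toTop s
    haveI : (FibCat.overCat (𝒵.p.obj ξ)).p.IsHomLift g χ := overCat_isHomLift χ
    haveI : 𝒵.p.IsHomLift g (x.map χ) := x.preserves_isHomLift g χ
    haveI : 𝒵.p.IsHomLift (𝟙 (𝒵.p.obj ξ)) i.hom := (exists_slice hX ξ).choose_spec.choose_spec
    haveI : 𝒵.p.IsHomLift g (x.map χ ≫ i.hom) := IsHomLift.comp_lift_id_right' 𝒵.p g (x.map χ) (𝒵.p.obj ξ) i.hom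
    haveI : 𝒵.p.IsHomLift g (R.e ξ) := IsHomLift.map _ _
    obtain ⟨e, -, -⟩ := exists_vertIso hX g (x.map χ ≫ i.hom) (R.e ξ)
    exact hc.of_iso e.symm (R.z ξ).property
  obtain ⟨l, hl⟩ := (hW s).1 hQs
  have hl' : l.left ≫ v.left = StMod.bmap 𝒵 (R.e ξ) := congrArg (fun m => m.left) hl
  let eA : 𝒵.p.obj (x.obj (Over.mk v)) = A := x.w_obj (Over.mk v)
  let k' : A.left ⟶ StMod.sch 𝒵 (R.z ξ).obj := (eqToHom eA.symm ≫ 𝒵.p.map k.hom).left
  have hk' : k' ≫ StMod.bmap 𝒵 (R.e ξ) = v.left := by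
    have h1 : 𝒵.p.map k.hom ≫ 𝒵.p.map (R.e ξ) = 𝒵.p.map γ := by
      rw [← 𝒵.p.map_comp]; exact congrArg 𝒵.p.map hk
    have h2 : eqToHom eA.symm ≫ 𝒵.p.map γ = v := by
      haveI h3 : 𝒵.p.IsHomLift v (x.map (toTop (Over.mk v))) :=
        @BasedFunctor.preserves_isHomLift _ _ _ _ x _ _ _ _ _ _ (overCat_isHomLift (toTop (Over.mk v)))
      haveI : 𝒵.p.IsHomLift (𝟙 (𝒵.p.obj ξ)) i.hom := (exists_slice hX ξ).choose_spec.choose_spec
      haveI : 𝒵.p.IsHomLift v γ := IsHomLift.comp_lift_id_right' 𝒵.p v (x.map (toTop (Over.mk v))) (𝒵.p.obj ξ) i.hom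
      rw [IsHomLift.fac' 𝒵.p v γ]
      simp
    exact congrArg (fun m : A ⟶ 𝒵.p.obj ξ => m.left)
      ((Category.assoc _ _ _).trans ((congrArg (eqToHom eA.symm ≫ ·) h1).trans h2))
  have hid : l.left ≫ k' = 𝟙 _ := by
    obtain ⟨m, hm, hmb⟩ := exists_factor hX (R.e ξ) (R.e ξ) (l.left ≫ k') (by rw [Category.assoc, hk', hl'])
    have : (ObjectProperty.homMk m : R.z ξ ⟶ R.z ξ) = 𝟙 _ :=
      (R.existsUnique ξ (R.z ξ) (R.e ξ)).unique hm (by rw [CategoryTheory.Functor.map_id, Category.id_comp])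
    rw [← hmb, show m = 𝟙 (R.z ξ).obj from congrArg (fun t => t.hom) this]
    exact StMod.bmap_id _
  have hid' : k' ≫ l.left = 𝟙 _ := by
    rw [← cancel_mono v.left, Category.assoc, hl', hk', Category.id_comp]
  haveI : IsIso l.left := ⟨k', hid, hid'⟩
  rw [← hl']
  infer_instance

end Sub

end Groth.Agent.H14CohBC
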