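import Groth.Agent.H14CohBC.SysHom
import Groth.Agent.H14QCoh.HomPush

/-!
# The direct image of families of linear maps on an indexed atlas
-/

set_option autoImplicit false
set_option linter.style.haveILetI false
set_option backward.isDefEq.respectTransparency false
set_option backward.isDefEq.respectTransparency.types false

universe t u

open CategoryTheory CategoryTheory.Limits AlgebraicGeometry Opposite TopologicalSpace
open scoped TensorProduct

noncomputable section

namespace Groth.Agent.H14CohBC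

open H14QCoh

variable {S : Scheme.{u}} {𝒳 𝒴 : AlgSt.Cat S} {f : 𝒳 ⥤ᵇ 𝒴} {E : StMod.QCoh 𝒳} {𝔸 : AtlasI.{t} 𝒴}
  {𝔹 : ∀ i, Atlas (StMod.fibCat f (𝔸.x i))} (P : ∀ i, Presn (𝔹 i) (fibMod f (𝔸.x i) E))
  (hp : FibCat.IsFibGrpd 𝒳.p) (hq : FibCat.IsFibGrpd 𝒴.p)

/-- The system of the families. -/
def pushSys (F : StMod.QCoh 𝒳) : SysI.{u + 1} 𝔸 fun i => Sol (P i) F where
  Hd D := AHom f E F D.1
  hr d := AHom.restr d
  θ D i γ := thA F (P i) hp D.1 γ
  θ_smul D i γ := thA_smul F (P i) hp D.1 γ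
  θ_bij D i γ hfl :=
    bijective_restr_lift (P := P i) (F := F) hp hq D.2 (𝔸.affx i) γ hfl (thA F (P i) hp D.1 γ) fun _ _ => rfl
  θ_nat {D' D} d {i} γ γ' e := thA_nat F (P i) hp d γ γ' e

lemma pushSys_hr_smul (F : StMod.QCoh 𝒳) ⦃D' D : AObj 𝒴⦄ (d : D'.1 ⟶ D.1) (c : Fn 𝒴 D.1)
    (h : (pushSys P hp hq F).Hd D) :
    (pushSys P hp hq F).hr d (c • h) = fnMap d c • (pushSys P hp hq F).hr d h :=
  AHom.restr_smul d c h

lemma pushSys_sep (F : StMod.QCoh 𝒳) : (pushSys P hp hq F).Sep := fun _ _ _ hφ =>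
  AHom.restr_injective hp hq hφ

/-- The composition with a morphism as a morphism of the systems. -/
def pushHomI {F G : StMod.QCoh 𝒳} (u : F.obj ⟶ G.obj) :
    SysI.HomI (pushSys P hp hq F) (pushSys P hp hq G) where
  f _ := AHom.comp u
  nat _ _ d h := AHom.restr_comp d u h

end Groth.Agent.H14CohBC
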