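import Groth.Agent.H14CohBC.ReducedModuli
import Groth.Agent.H14CohBC.GoodTameSep
import Groth.Agent.H14CohBC.GoodClosedPoint
import Groth.Agent.H14AlgSt.Graph
import Groth.Agent.H14AlgSt.LocQ2
import Groth.Agent.H12AlgSp.FppfQuot
import Groth.Agent.H12AlgSp.Sep
import Groth.Agent.H13AlgSp.AffineLocal
import Mathlib.AlgebraicGeometry.ZariskisMainTheorem
import Mathlib.FieldTheory.IsAlgClosed.AlgebraicClosure

/-!
# A morphism with a finite section which is bijective on geometric points is a coarse moduli space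
-/

set_option autoImplicit false
set_option linter.style.haveILetI false
set_option backward.isDefEq.respectTransparency false
set_option backward.isDefEq.respectTransparency.types false

universe u

open CategoryTheory CategoryTheory.Limits AlgebraicGeometry Opposite TopologicalSpace

noncomputable section

namespace Groth.Agent.H14CohBC

open H14Fib H14AlgSt H14Stk

variable {S : Scheme.{u}} {𝒳 : AlgSt.Cat S}

local notation "K₀" => Scheme.fppfPrecoverage

/-- The section of a restricted slice. -/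
lemma secMor_overMap {M : AlgSp.Sp S} {U A : Over S} (F : FibCat.overCat U ⥤ᵇ AlgSt.ofSp M) (k : A ⟶ U) :
    H14LocalCat.secMor (BasedFunctor.comp (AlgSt.overMap k) F) (topObj A) =
      (AlgSp.yon S).map k ≫ H14LocalCat.secMor F (topObj U) := by
  refine (H14LocalCat.secMor_comp (AlgSt.overMap k) F (topObj A)).trans ?_
  rw [secMor_slice_obj F ((AlgSt.overMap k).obj (topObj A)), ← Category.assoc, ← Functor.map_comp]
  refine congrArg (fun m => (AlgSp.yon S).map m ≫ _) ?_
  change eqToHom (rfl : A = A) ≫ 𝟙 A ≫ k = k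
  rw [eqToHom_refl, Category.id_comp, Category.id_comp]

/-- Over a smooth cover of its base an object comes from the atlas. -/
theorem exists_chart_over (hX : FibCat.IsFibGrpd 𝒳.p) {U : Over S} {x : FibCat.overCat U ⥤ᵇ 𝒳}
    (hx : AlgSt.RepByAlgSpWith (AlgSp.LocP @Smooth) x) (hxs : AlgSt.RepByAlgSpWith AlgSp.IsSurjectiveMor x)
    (ξ : 𝒳.obj) :
    ∃ (A : Over S) (c : A ⟶ 𝒳.p.obj ξ) (d : A ⟶ U), Smooth c.left ∧ Surjective c.left ∧
      ∀ {M : AlgSp.Sp S} (Φ : 𝒳 ⥤ᵇ AlgSt.ofSp M), (AlgSp.yon S).map c ≫ H14LocalCat.secMor Φ ξ =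
        (AlgSp.yon S).map d ≫ H14LocalCat.secMor (BasedFunctor.comp x Φ) (topObj U) := by
  obtain ⟨z, ⟨ez⟩⟩ := exists_slice_through hX ξ
  obtain ⟨A, c, d, hcs, hcsj, ⟨j⟩⟩ := exists_lift_atlas hX hx hxs z
  let e' : 𝒳.p.obj ξ ⟶ 𝒳.p.obj ξ := eqToHom (z.w_obj (topObj _)).symm ≫ 𝒳.p.map ez.hom
  haveI : IsIso e' := inferInstance
  haveI : IsIso e'.left := inferInstanceAs (IsIso ((Over.forget S).map e'))
  haveI := hcs
  haveI := hcsj
  refine ⟨A, c ≫ e', d, inferInstanceAs (Smooth (c.left ≫ e'.left)),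
    inferInstanceAs (Surjective (c.left ≫ e'.left)), fun {M} Φ => ?_⟩
  rw [← secMor_restr_eq j, Functor.map_comp, Category.assoc]
  refine congrArg (fun m => (AlgSp.yon S).map c ≫ m) ?_
  refine Eq.trans ?_ (H14LocalCat.secMor_comp z Φ (topObj _)).symm
  rw [Functor.map_comp, Category.assoc, H14LocalCat.secMor_natural Φ ez.hom]

/-- Finiteness cancels against monomorphisms. -/
lemma cancelsLeft_finite_mono :
    CancelsLeft (S := S) AlgSp.IsFiniteMor (fun _ _ b => Mono b) := by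
  intro X Y Z _ _ _ a b hb h
  haveI : Mono b := hb
  have sq : IsPullback (𝟙 X) a (a ≫ b) b :=
    ⟨⟨by simp⟩, ⟨PullbackCone.IsLimit.mk _ (fun s => s.fst) (fun s => Category.comp_id _)
      (fun s => (cancel_mono b).1 (by rw [Category.assoc]; exact s.condition))
      (fun s m h1 _ => (Category.comp_id m).symm.trans h1)⟩⟩
  exact H13AlgSp.isFiniteMor_iff.2 (H12AlgSp.repWith_of_isPullback sq (H13AlgSp.isFiniteMor_iff.1 h))

lemma baseStable_finite : BaseStable (S := S) AlgSp.IsFiniteMor :=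
  fun _ _ _ _ _ _ _ _ _ _ _ _ sq h =>
    H13AlgSp.isFiniteMor_iff.2 (H12AlgSp.repWith_of_isPullback sq (H13AlgSp.isFiniteMor_iff.1 h))

/-- A separated space has monomorphic diagonal. -/
lemma repWith_mono_diag_toSelf (M : AlgSp.Space S) :
    AlgSt.RepByAlgSpWith (fun _ _ b => Mono b) (FibCat.diag (FibCat.toSelf (AlgSt.ofSp M.obj))) := by
  obtain ⟨P, d, E, hE, ⟨k⟩, i, hi⟩ := exists_diag_toSelf M
  have hdd : AlgSp.Representable d := by
    have h : AlgSp.Representable (d ≫ i.hom) := hi ▸ M.property.diag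
    have := MorphismProperty.RespectsIso.postcomp (AlgSp.Representable (S := S)) i.inv (d ≫ i.hom) h
    rwa [Category.assoc, i.hom_inv_id, Category.comp_id] at this
  haveI : Mono (d ≫ i.hom) := by rw [hi]; exact inferInstanceAs (Mono (prod.lift (𝟙 M.obj) (𝟙 M.obj)))
  haveI : Mono d := mono_of_mono d i.hom
  exact repWith_of_iso k ((repWith_comp_equiv_iff hE).2 (repWith_ofSpMap_of_representable _ _ hdd
    fun U V g fst v sq => sq.mono_snd_of_mono))

variable {Z : AlgSp.Space S}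

/-- The universal property. -/
theorem isCoarseModuli_of_section (h𝒳 : AlgSt.IsAlgStack K₀ 𝒳)
    (hΔ : AlgSt.RepByAlgSpWith AlgSp.IsFiniteMor (FibCat.diag (FibCat.toSelf 𝒳)))
    (hred : AlgSt.SmoothLocally (fun X => AlgebraicGeometry.IsReduced X) 𝒳)
    (f : 𝒳 ⥤ᵇ AlgSt.ofSp Z.obj) (hf : AlgSt.GeomPtBij f)
    (s : AlgSt.ofSp Z.obj ⥤ᵇ 𝒳) (e : BasedFunctor.comp s f ≅ BasedFunctor.id (AlgSt.ofSp Z.obj)) :
    AlgSt.IsCoarseModuli f := by
  have hX := h𝒳.isStack.1
  have hZst := isAlgStack_ofSp Z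
  have hdiag : AlgSt.RepByAlgSpWith AlgSp.IsFiniteMor (FibCat.diag f) :=
    repWith_diag_cancel baseStable_finite cancelsLeft_finite_mono hX hZst.isStack.1
      (rep1_diag_of_algStack h𝒳 hZst f) (repWith_mono_diag_toSelf Z) (by rw [comp_toSelf]; exact hΔ)
  have hs : AlgSt.RepByAlgSpWith AlgSp.IsFiniteMor s := repWith_section s e hdiag
  have hssurj : Function.Surjective (AlgSt.Points.map s) := by
    intro q
    obtain ⟨p, rfl⟩ := AlgSt.Points.mk_surjective q
    let Ω := AlgebraicClosure p.K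
    let t : Spec (CommRingCat.of Ω) ⟶ S := Spec.map (CommRingCat.ofHom (algebraMap p.K Ω)) ≫ p.str
    let b : (Over.mk t : Over S) ⟶ 𝒳.p.obj p.obj :=
      (Over.homMk (Spec.map (CommRingCat.ofHom (algebraMap p.K Ω))) rfl : Over.mk t ⟶ Over.mk p.str) ≫
        eqToHom p.lies.symm
    obtain ⟨z, ⟨ez⟩⟩ := exists_slice_through hX p.obj
    let o : (FibCat.overCat (𝒳.p.obj p.obj)).obj := Over.mk b
    let φ : z.obj o ⟶ p.obj := z.map (toTop o) ≫ ez.hom
    let a : 𝒳.p.Fiber (Over.mk t) := ⟨z.obj o, z.w_obj o⟩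
    let η : (AlgSt.ofSp Z.obj).obj := ⟨Over.mk t, AlgSt.fibSec f a⟩
    let a' : 𝒳.p.Fiber (Over.mk t) := ⟨s.obj η, s.w_obj η⟩
    have hsec : AlgSt.fibSec f a' = AlgSt.fibSec f a :=
      (secAt_eq_of_hom e.hom η).trans (H14Stk.pmap_id _)
    obtain ⟨i⟩ := (hf Ω t).2 a' a hsec
    let r : AlgSt.FPt (AlgSt.ofSp Z.obj) := ⟨Ω, t, η, rfl⟩
    refine ⟨AlgSt.Points.mk r, ?_⟩
    rw [AlgSt.Points.map_mk]
    exact mk_eq_of_hom (p := r.map s) (q := p) (i.hom.1 ≫ φ)
  obtain ⟨U, x, hx, hxs⟩ := h𝒳.atlas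
  haveI hU : AlgebraicGeometry.IsReduced U.left := hred U x hx
  obtain ⟨G, ee, he, hσ⟩ := hs U x
  let σ := AlgSt.spMapOfOver (BasedFunctor.comp ee (FibCat.fpFst x s))
  obtain ⟨W, q, fst, sq⟩ := (H13AlgSp.isFiniteMor_iff.1 hσ).rep (𝟙 ((AlgSp.yon S).obj U))
  haveI hqfin : IsFinite q.left := (H13AlgSp.isFiniteMor_iff.1 hσ).property (𝟙 _) fst q sq
  haveI : IsIso fst := sq.isIso_fst_of_isIso
  have hqσ : (AlgSp.yon S).map q = fst ≫ σ := by rw [sq.w, Category.comp_id]
  let b : FibCat.overCat W ⥤ᵇ FibCat.fp x s :=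
    BasedFunctor.comp (BasedFunctor.comp (AlgSt.ofOverCat W) (AlgSt.ofSpMap fst)) ee
  obtain ⟨k⟩ := spMapOfOver_eq (BasedFunctor.comp ee (FibCat.fpFst x s))
  let jb : BasedFunctor.comp b (FibCat.fpFst x s) ≅ AlgSt.overMap q :=
    (Stk.restr (BasedFunctor.comp (AlgSt.ofOverCat W) (AlgSt.ofSpMap fst)) _).mapIso k ≪≫ (by
      change BasedFunctor.comp (BasedFunctor.comp (AlgSt.ofOverCat W) (AlgSt.ofSpMap (fst ≫ σ)))
        (AlgSt.toOverCat U) ≅ AlgSt.overMap q
      rw [← hqσ]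
      exact mkIso (fun s => Iso.refl _)
        (fun {_ _} φ => (Category.comp_id _).trans ((Category.id_comp _).trans
          (Over.OverMorphism.ext rfl)).symm)
        (fun s => IsHomLift.id rfl))
  have hb : Function.Surjective (AlgSt.Points.map b) := by
    have h1 : Function.Surjective (AlgSt.Points.map (AlgSt.ofSpMap fst)) := fun v =>
      ⟨AlgSt.Points.map (AlgSt.ofSpMap (inv fst)) v, by
        rw [← points_map_comp, ← H14Quot.ofSpMap_comp, IsIso.inv_hom_id,
          show AlgSt.ofSpMap (𝟙 G.obj) = BasedFunctor.id _ from ofPshMap_id]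
        obtain ⟨r, rfl⟩ := AlgSt.Points.mk_surjective v
        rfl⟩
    intro v
    obtain ⟨v₁, rfl⟩ := (points_map_bijective he).2 v
    obtain ⟨v₂, rfl⟩ := h1 v₁
    obtain ⟨v₃, rfl⟩ := (points_map_bijective (ofOverCat_isEquivOver W)).2 v₂
    exact ⟨v₃, by rw [points_map_comp, points_map_comp]⟩
  haveI hqs : Surjective q.left := ⟨fun u => by
    obtain ⟨v, hv⟩ := hssurj (AlgSt.Points.ofChart x u)
    rw [ofChart_eq_map] at hv
    obtain ⟨w, hw1, -⟩ := exists_points_fp (isAlgStack_overCat U).isStack.1 hZst.isStack.1 hX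
      (F := x) (G := s) hv.symm
    obtain ⟨w', rfl⟩ := hb w
    refine ⟨chartPoint w', ?_⟩
    rw [← points_map_comp, points_map_iso jb] at hw1
    rw [← chartPoint_overMap, hw1, chartPoint_ofChart]⟩
  refine ⟨⟨Z.property, fun N hN φ => ?_⟩, hf⟩
  let g : Z.obj ⟶ N := ObjectProperty.homMk (mapOfFun (BasedFunctor.comp s φ))
  have hg : BasedFunctor.comp s φ ≅ AlgSt.ofSpMap g := isoOfPshMap (BasedFunctor.comp s φ)
  let ψ := BasedFunctor.comp (BasedFunctor.comp f s) φ
  have hsψ : BasedFunctor.comp s ψ ≅ BasedFunctor.comp s φ :=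
    (Stk.restr s _).mapIso (Iso.refl ψ) ≪≫ (post (AlgSt.ofSp Z.obj) (BasedFunctor.comp s φ)).mapIso e
  have hU' : H14LocalCat.secMor (BasedFunctor.comp x φ) (topObj U) =
      H14LocalCat.secMor (BasedFunctor.comp x ψ) (topObj U) := by
    set m₁ := H14LocalCat.secMor (BasedFunctor.comp x φ) (topObj U) with hm₁
    set m₂ := H14LocalCat.secMor (BasedFunctor.comp x ψ) (topObj U) with hm₂
    have hq : (AlgSp.yon S).map q ≫ m₁ = (AlgSp.yon S).map q ≫ m₂ := by
      rw [hm₁, hm₂, ← secMor_overMap, ← secMor_overMap]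
      refine H14LocalCat.secMor_eq_of_iso ?_ _
      let jx : BasedFunctor.comp (AlgSt.overMap q) x ≅
          BasedFunctor.comp (BasedFunctor.comp b (FibCat.fpSnd x s)) s :=
        (post (FibCat.overCat W) x).mapIso jb.symm ≪≫ (Stk.restr b _).mapIso (FibCat.fpIso x s)
      exact (post (FibCat.overCat W) φ).mapIso jx ≪≫
        (Stk.restr (BasedFunctor.comp b (FibCat.fpSnd x s)) _).mapIso hsψ.symm ≪≫
        (post (FibCat.overCat W) ψ).mapIso jx.symm
    obtain ⟨E, w, efst, sqE⟩ := hN.diag (prod.lift m₁ m₂)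
    haveI : Mono w.left := (H12AlgSp.repWith_mono_diag hN).property (prod.lift m₁ m₂) efst w sqE
    haveI : LocallyOfFiniteType w.left :=
      (H12AlgSp.repWith_lft_diag hN).property (prod.lift m₁ m₂) efst w sqE
    obtain ⟨l, hl⟩ := (AlgSp.yon S).map_surjective (sqE.lift ((AlgSp.yon S).map q ≫ m₁) ((AlgSp.yon S).map q) (by
      apply Limits.prod.hom_ext
      · simp
      · simp [hq]))
    have hlw : l ≫ w = q := (AlgSp.yon S).map_injective (by rw [Functor.map_comp, hl, sqE.lift_snd])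
    have hlw' : l.left ≫ w.left = q.left := by rw [← Over.comp_left, hlw]
    haveI : Surjective l.left := ⟨fun z => by
      obtain ⟨a, ha⟩ := q.left.surjective (w.left z)
      refine ⟨a, w.left.injective ?_⟩
      have := Scheme.Hom.comp_apply l.left w.left a
      rw [hlw'] at this
      exact this.symm.trans ha⟩
    haveI : UniversallyClosed (l.left ≫ w.left) := by rw [hlw']; infer_instance
    haveI : UniversallyClosed w.left := UniversallyClosed.of_comp_surjective l.left w.left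
    haveI : IsProper w.left := {}
    haveI : IsClosedImmersion w.left := (IsClosedImmersion.iff_isProper_and_mono w.left).2 ⟨inferInstance, inferInstance⟩
    haveI : Surjective w.left := ⟨fun u => by
      obtain ⟨a, ha⟩ := q.left.surjective u
      have := Scheme.Hom.comp_apply l.left w.left a
      rw [hlw'] at this
      exact ⟨l.left a, this.symm.trans ha⟩⟩
    haveI : AlgebraicGeometry.IsReduced ((FibCat.overCat U).p.obj (topObj U)).left := hU
    haveI : IsIso w.left := isIso_of_isClosedImmersion_of_surjective _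
    haveI : IsIso ((Over.forget S).map w) := ‹IsIso w.left›
    haveI : IsIso w := isIso_of_reflects_iso w (Over.forget S)
    have h₁ : efst = (AlgSp.yon S).map w ≫ m₁ := by simpa using congrArg (· ≫ prod.fst) sqE.w
    have h₂ : efst = (AlgSp.yon S).map w ≫ m₂ := by simpa using congrArg (· ≫ prod.snd) sqE.w
    exact (cancel_epi ((AlgSp.yon S).map w)).1 (h₁.symm.trans h₂)
  have hall : ∀ ξ, H14LocalCat.secMor φ ξ = H14LocalCat.secMor ψ ξ := fun ξ => by
    obtain ⟨A, c, d, hc₁, hc₂, hcomm⟩ := exists_chart_over hX hx hxs ξ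
    haveI := hc₁
    haveI := hc₂
    haveI : Epi ((AlgSp.yon S).map c) := H12AlgSp.epi_of_repWith_fppf
      ((AlgSp.repWith_yon_map_iff _ c).2 ⟨⟨inferInstance, inferInstance⟩, inferInstance⟩)
    rw [← cancel_epi ((AlgSp.yon S).map c), hcomm, hcomm, hU']
  obtain ⟨iφ⟩ := H14LocalCat.nonempty_iso hall
  refine ⟨g, ⟨(post 𝒳 (AlgSt.ofSpMap g)).mapIso (Iso.refl f) ≪≫ (Stk.restr f _).mapIso hg.symm ≪≫ iφ.symm⟩, ?_⟩
  rintro g' ⟨i'⟩
  refine H14Quot.ofSpMap_injective (H14Quot.eq_of_iso_ofSp ?_)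
  exact (post (AlgSt.ofSp Z.obj) (AlgSt.ofSpMap g')).mapIso e.symm ≪≫ (Stk.restr s _).mapIso i' ≪≫ hg

end Groth.Agent.H14CohBC
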