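import Groth.Agent.H14CohBC.PtOf
import Groth.Agent.H14CohBC.BC
import Groth.Agent.H14QCoh.Res

/-!
# Functions separating two disjoint closed sets of points when sections are exact
-/

set_option autoImplicit false
set_option linter.style.haveILetI false
set_option backward.isDefEq.respectTransparency false
set_option backward.isDefEq.respectTransparency.types false

universe u

open CategoryTheory CategoryTheory.Limits AlgebraicGeometry Opposite TopologicalSpace

noncomputable section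

namespace Groth.Agent.H14CohBC

open H14Fib H14AlgSt H14Stk H14QCoh

/-- The function one on a clopen set and zero off it. -/
theorem exists_indicator (X : Scheme.{u}) {W : Set X} (hW : IsClopen W) :
    ∃ e : Γ(X, ⊤), ∀ t : X,
      (t ∈ W → X.presheaf.germ ⊤ t trivial e = 1) ∧ (t ∉ W → X.presheaf.germ ⊤ t trivial e = 0) := by
  classical
  let V : Bool → X.Opens := fun b => if b then ⟨W, hW.2⟩ else ⟨Wᶜ, hW.1.isOpen_compl⟩
  let s : ∀ b, Γ(X, V b) := fun b => if b then 1 else 0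
  have hdis : ∀ b c, b ≠ c → V b ⊓ V c = ⊥ := by
    intro b c h
    refine Opens.ext ?_
    cases b <;> cases c <;> simp [V] at h ⊢
  obtain ⟨e, he, -⟩ := TopCat.Sheaf.existsUnique_gluing' X.sheaf V ⊤ (fun b => homOfLE le_top)
    (fun t _ => by
      by_cases ht : t ∈ W
      · exact Opens.mem_iSup.2 ⟨true, ht⟩
      · exact Opens.mem_iSup.2 ⟨false, ht⟩) s (fun b c => by
      by_cases h : b = c
      · subst h; rfl
      · refine TopCat.Presheaf.section_ext X.sheaf _ _ _ fun t ht => ?_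
        rw [hdis b c h] at ht
        exact ht.elim)
  refine ⟨e, fun t => ⟨fun ht => ?_, fun ht => ?_⟩⟩
  · have h := congrArg (X.presheaf.germ (V true) t ht) (he true)
    refine (X.presheaf.germ_res_apply (homOfLE le_top) t ht e).symm.trans (h.trans ?_)
    simp [s]
  · have h := congrArg (X.presheaf.germ (V false) t ht) (he false)
    refine (X.presheaf.germ_res_apply (homOfLE le_top) t ht e).symm.trans (h.trans ?_)
    simp [s]

variable {S : Scheme.{u}} {𝒵 : AlgSt.Cat S}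

lemma point_unique (r : AlgSt.FPt 𝒵) (t : StMod.sch 𝒵 r.obj) : imPt (𝟙 r.obj) = t := by
  haveI : Subsingleton (StMod.sch 𝒵 r.obj) := by
    change Subsingleton (𝒵.p.obj r.obj).left
    rw [r.lies]
    exact inferInstanceAs (Subsingleton (PrimeSpectrum r.K))
  exact Subsingleton.elim _ _

/-- A field-valued point with its class in a closed substack lies in it. -/
theorem mem_of_mk_mem (hX : FibCat.IsFibGrpd 𝒵.p) {Q : 𝒵.obj → Prop}
    (hQ : FibCat.IsFibGrpd (AlgSt.fullSub 𝒵 Q).p) (hc : ObjectProperty.IsClosedUnderIsomorphisms Q)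
    (hcl : AlgSt.IsClosedImm (AlgSt.subIncl 𝒵 Q)) (r : AlgSt.FPt 𝒵)
    (hr : AlgSt.Points.mk r ∈ Set.range (AlgSt.Points.map (AlgSt.subIncl 𝒵 Q))) : Q r.obj := by
  let x := slice hX r.obj
  let i := sliceIso hX r.obj
  obtain ⟨A, v, hv, hW⟩ := exists_subspace hc hcl x
  obtain ⟨w, hw⟩ := exists_point_of_mem_range hX hc hQ x hW
    (t := imPt (𝟙 r.obj)) (by
      have := hr
      rw [mk_eq_ptOf hX (𝟙 r.obj)] at this
      exact this)
  haveI := hv
  haveI : Surjective v.left := ⟨fun t => ⟨w, hw.trans (point_unique r t)⟩⟩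
  haveI : AlgebraicGeometry.IsReduced (𝒵.p.obj r.obj).left := by
    rw [r.lies]
    exact inferInstanceAs (AlgebraicGeometry.IsReduced (Spec _))
  haveI : IsIso v.left := isIso_of_isClosedImmersion_of_surjective _
  haveI : IsIso ((Over.forget S).map v) := ‹IsIso v.left›
  haveI : IsIso v := isIso_of_reflects_iso v (Over.forget S)
  exact hc.of_iso i ((hW (topObj _)).2 ⟨inv v, IsIso.inv_hom_id v⟩)

/-- Disjoint closed sets of points are separated by a global function when sections are exact. -/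
theorem exists_separating (h𝒵 : AlgSt.IsAlgStack Scheme.fppfPrecoverage 𝒵)
    (hex : ∀ {F G : StMod.QCoh 𝒵} (v : F.obj ⟶ G.obj), StMod.Mod.IsSurj v →
      Function.Surjective (StMod.Mod.globSectMap v))
    (T₁ T₂ : Set (AlgSt.Points 𝒵)) (h₁ : IsClosed T₁) (h₂ : IsClosed T₂) (hd : Disjoint T₁ T₂) :
    ∃ T : (StMod.OQ 𝒵).obj.GlobSect, ∀ r : AlgSt.FPt 𝒵,
      (AlgSt.Points.mk r ∈ T₁ → T.1 r.obj = (1 : Fn 𝒵 r.obj)) ∧
      (AlgSt.Points.mk r ∈ T₂ → T.1 r.obj = (0 : Fn 𝒵 r.obj)) := by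
  have hX := h𝒵.isStack.1
  obtain ⟨Q, ⟨hc, hQs, hcl⟩, hrange, -⟩ := exists_reduced_substack h𝒵 (T₁ ∪ T₂) (h₁.union h₂)
  have hQ := hQs.isStack.1
  have haff : AlgSt.RepByAlgSpWith AlgSp.IsAffineMor (AlgSt.subIncl 𝒵 Q) := repWith_mono (fun _ _ f hf => by
    refine H13AlgSp.isAffineMor_iff.2 ⟨hf.1, fun {W Z} g fst snd sq => ?_⟩
    haveI : IsClosedImmersion snd.left := hf.2 g fst snd sq
    exact (inferInstance : IsAffineHom snd.left)) hcl
  let R := affRepOf haff hQ hX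
  let W : ∀ s : (AlgSt.fullSub 𝒵 Q).obj, Set (StMod.sch 𝒵 s.obj) := fun s => ptOf hX s.obj ⁻¹' T₁
  have hW : ∀ s, IsClopen (W s) := fun s => by
    have hcont : Continuous (ptOf hX s.obj) := continuous_ofChart h𝒵 _
    refine ⟨h₁.preimage hcont, ?_⟩
    have : W s = (ptOf hX s.obj ⁻¹' T₂)ᶜ := by
      ext t
      refine ⟨fun h1 h2 => Set.disjoint_left.1 hd h1 h2, fun h2 => ?_⟩
      rcases hrange ▸ mem_iff_range hX hQ hc s t with h | h
      · exact h
      · exact absurd h h2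
    rw [this]
    exact (h₂.preimage hcont).isOpen_compl
  choose e he using fun s : (AlgSt.fullSub 𝒵 Q).obj => exists_indicator (StMod.sch 𝒵 s.obj) (hW s)
  let eG : (StMod.OQ (AlgSt.fullSub 𝒵 Q)).obj.GlobSect := ⟨fun s => e s, fun s' s φ => by
    change (StMod.bmap 𝒵 φ.hom).appTop (e s) = e s'
    refine TopCat.Presheaf.section_ext (StMod.sch 𝒵 s'.obj).sheaf _ _ _ fun t _ => ?_
    let f := StMod.bmap 𝒵 φ.hom
    have h : (f.stalkMap t).hom ((StMod.sch 𝒵 s.obj).presheaf.germ ⊤ (f t) trivial (e s)) =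
        (StMod.sch 𝒵 s'.obj).presheaf.germ ⊤ t trivial (f.appTop (e s)) :=
      Scheme.Hom.germ_stalkMap_apply f ⊤ t trivial (e s)
    refine Eq.trans h.symm ?_
    have hiff : t ∈ W s' ↔ f t ∈ W s := by
      change ptOf hX s'.obj t ∈ T₁ ↔ ptOf hX s.obj (f t) ∈ T₁
      rw [ptOf_map hX φ.hom t]
    by_cases ht : t ∈ W s'
    · rw [(he s (f t)).1 (hiff.1 ht), map_one]
      exact ((he s' t).1 ht).symm
    · rw [(he s (f t)).2 (fun h' => ht (hiff.2 h')), map_zero]
      exact ((he s' t).2 ht).symm⟩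
  let G := R.push (StMod.OQ (AlgSt.fullSub 𝒵 Q))
  let f : AffFam (StMod.OQ 𝒵) G := fun ξ _ =>
    { toFun := fun r => ((R.g ξ).appTop r : Fn (AlgSt.fullSub 𝒵 Q) (R.z ξ))
      map_add' := fun a b => map_add (R.g ξ).appTop.hom a b
      map_smul' := fun a b => map_mul (R.g ξ).appTop.hom a b }
  obtain ⟨v, hv⟩ := H14QCoh.exists_hom hX f (fun ξ' ξ φ hξ' hξ r => by
    refine Eq.trans ?_ (R.sec_mapTop (StMod.OQ (AlgSt.fullSub 𝒵 Q)) φ _).symm
    exact (congr($(congrArg Scheme.Hom.appTop (R.g_bmap φ)) r)).symm)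
  have hsurj : StMod.Mod.IsSurj v := fun ξ hξ => by
    haveI := hξ
    haveI := isClosedImmersion_e hX hc hcl R ξ
    haveI : IsClosedImmersion (R.g ξ) := inferInstanceAs (IsClosedImmersion (eqToHom _ ≫ StMod.bmap 𝒵 (R.e ξ)))
    intro y
    obtain ⟨r, hr⟩ := (IsClosedImmersion.isAffine_surjective_of_isAffine (R.g ξ)).2 y
    exact ⟨r, (hv ξ hξ r).trans hr⟩
  obtain ⟨T, hT⟩ := hex v hsurj (pushGlob R eG)
  refine ⟨T, fun r => ?_⟩
  have hmem : AlgSt.Points.mk r ∈ T₁ ∪ T₂ → ∃ (s : (AlgSt.fullSub 𝒵 Q).obj), s.obj = r.obj :=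
    fun hr => ⟨⟨r.obj, mem_of_mk_mem hX hQ hc hcl r (hrange.ge hr)⟩, rfl⟩
  have hval : ∀ s : (AlgSt.fullSub 𝒵 Q).obj, IsAffine (StMod.sch 𝒵 s.obj) → T.1 s.obj = (e s : Fn 𝒵 s.obj) := by
    intro s hs
    have h1 : ((R.g s.obj).appTop (T.1 s.obj) : Fn (AlgSt.fullSub 𝒵 Q) (R.z s.obj)) = eG.1 (R.z s.obj) :=
      (hv s.obj hs (T.1 s.obj)).symm.trans (congrArg (fun t : G.obj.GlobSect => t.1 s.obj) hT)
    have h2 : (StMod.bmap (AlgSt.fullSub 𝒵 Q) (R.sect s)).appTop ((R.g s.obj).appTop (T.1 s.obj)) = T.1 s.obj := by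
      have h3 := congrArg Scheme.Hom.appTop (R.sect_g s)
      refine (congr($(h3) (T.1 s.obj))).trans ?_
      rfl
    rw [← h2, h1]
    exact eG.2 (R.sect s)
  have haffr : IsAffine (StMod.sch 𝒵 r.obj) := by
    change IsAffine (𝒵.p.obj r.obj).left
    rw [r.lies]
    exact inferInstanceAs (IsAffine (Spec _))
  constructor <;> intro hr
  · obtain ⟨s, hs⟩ := hmem (Or.inl hr)
    obtain ⟨a, hQa⟩ := s
    obtain rfl : a = r.obj := hs
    refine (hval ⟨r.obj, hQa⟩ haffr).trans ?_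
    refine TopCat.Presheaf.section_ext (StMod.sch 𝒵 r.obj).sheaf _ _ _ fun t _ => ?_
    refine ((he ⟨r.obj, hQa⟩ t).1 ?_).trans (map_one _).symm
    change ptOf hX r.obj t ∈ T₁
    rwa [← point_unique r t, ← mk_eq_ptOf hX (𝟙 r.obj)]
  · obtain ⟨s, hs⟩ := hmem (Or.inr hr)
    obtain ⟨a, hQa⟩ := s
    obtain rfl : a = r.obj := hs
    refine (hval ⟨r.obj, hQa⟩ haffr).trans ?_
    refine TopCat.Presheaf.section_ext (StMod.sch 𝒵 r.obj).sheaf _ _ _ fun t _ => ?_
    refine ((he ⟨r.obj, hQa⟩ t).2 fun h1 => ?_).trans (map_zero _).symm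
    refine Set.disjoint_left.1 hd ?_ hr
    change ptOf hX r.obj t ∈ T₁ at h1
    rwa [← point_unique r t, ← mk_eq_ptOf hX (𝟙 r.obj)] at h1

end Groth.Agent.H14CohBC
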