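import Groth.Agent.H14CohBC.KernI

/-!
# Morphisms of systems on an indexed atlas, their images, and the morphisms of the descended modules
-/

set_option autoImplicit false
set_option linter.style.haveILetI false
set_option backward.isDefEq.respectTransparency false
set_option backward.isDefEq.respectTransparency.types false

universe t t' w v u

open CategoryTheory CategoryTheory.Limits AlgebraicGeometry Opposite TopologicalSpace
open scoped TensorProduct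

noncomputable section

namespace Groth.Agent.H14CohBC

open H14QCoh

namespace SysI

variable {S : Scheme.{u}} {𝒳 : BasedCategory.{v, w} (Over S)} {𝔸 : AtlasI.{t'} 𝒳} {M M' : 𝔸.ι → Type u}
  [∀ i, AddCommGroup (M i)] [∀ i, Module (Fn 𝒳 (𝔸.x i)) (M i)] [∀ i, AddCommGroup (M' i)]
  [∀ i, Module (Fn 𝒳 (𝔸.x i)) (M' i)] (σ : SysI.{t} 𝔸 M) (σ' : SysI.{t} 𝔸 M') (hp : FibCat.IsFibGrpd 𝒳.p)

instance instModuleX (i : 𝔸.ι) : Module (Fn 𝒳 (𝔸.x i)) (σ.Hd (𝔸.X i)) := σ.modH (𝔸.X i)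

/-- Restriction along covers is injective. -/
def Sep : Prop := ∀ ⦃D' D : AObj 𝒳⦄ (φ : D'.1 ⟶ D.1), IsCov φ → Function.Injective (σ.hr φ)

/-- The value on a chart from the module of the chart. -/
def ιX (i : 𝔸.ι) : M i →ₗ[Fn 𝒳 (𝔸.x i)] σ.Hd (𝔸.X i) where
  toFun m := σ.θ (𝔸.X i) (𝟙 (𝔸.x i)) (gen (M i) (𝟙 (𝔸.x i)) m)
  map_add' a b := by rw [map_add, map_add]
  map_smul' c m := by
    rw [(isBC_gen (M i) (𝟙 (𝔸.x i))).smul, fnMap_id, σ.θ_smul, RingHom.id_apply]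

lemma hr_ιX {D : AObj 𝒳} {i : 𝔸.ι} (γ : D.1 ⟶ 𝔸.x i) (m : M i) :
    σ.hr (D := 𝔸.X i) γ (σ.ιX i m) = σ.θ D γ (gen (M i) γ m) := by
  refine (σ.θ_nat (D := 𝔸.X i) γ (𝟙 _) γ (Category.comp_id γ) _).trans ?_
  rw [push_gen]

theorem bijective_ιX (i : 𝔸.ι) : Function.Bijective (σ.ιX i) := by
  haveI := 𝔸.affx i
  have hid : Flat (StMod.bmap 𝒳 (𝟙 (𝔸.x i))) := by rw [StMod.bmap_id]; infer_instance
  have hg := isBC_gen (M i) (𝟙 (𝔸.x i))
  refine (σ.θ_bij (𝔸.X i) (𝟙 _) hid).comp ⟨hg.injective_of_ff (isCov_id _).faithfullyFlat, fun y =>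
    hg.induction (P := fun y => ∃ m, gen (M i) (𝟙 (𝔸.x i)) m = y) y ⟨0, map_zero _⟩ ?_ ?_⟩
  · rintro a b ⟨p, rfl⟩ ⟨q, rfl⟩
    exact ⟨p + q, map_add _ _ _⟩
  · intro c m
    exact ⟨c • m, by rw [hg.smul, fnMap_id]⟩

/-- The sections of the descended module as values of the system. -/
def val (D : AObj 𝒳) {i : 𝔸.ι} (β : D.1 ⟶ 𝔸.x i) : Sec (σ.Q hp) D.1 →ₗ[Fn 𝒳 D.1] σ.Hd D :=
  (σ.θl D β).comp (σ.sval hp D β)

theorem bijective_val (D : AObj 𝒳) {i : 𝔸.ι} (β : D.1 ⟶ 𝔸.x i) (hβ : Flat (StMod.bmap 𝒳 β)) :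
    Function.Bijective (σ.val hp D β) :=
  (σ.θ_bij D β hβ).comp (σ.bijective_sval hp D β)

lemma val_mapTop {D' D : AObj 𝒳} (d : D'.1 ⟶ D.1) {i : 𝔸.ι} {β : D.1 ⟶ 𝔸.x i} {β' : D'.1 ⟶ 𝔸.x i}
    (e : d ≫ β = β') (s : Sec (σ.Q hp) D.1) :
    σ.val hp D' β' ((σ.Q hp).obj.mapTop d s) = σ.hr d (σ.val hp D β s) :=
  (congrArg (σ.θ D' β') (σ.sval_mapTop hp d e s)).trans (σ.θ_nat d β β' e _).symm

theorem θ_Φ (hs : σ.Sep) (D : AObj 𝒳) {i j : 𝔸.ι} (α : D.1 ⟶ 𝔸.x i) (β : D.1 ⟶ 𝔸.x j) (u : BC (M i) α) :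
    σ.θ D β (σ.Φ hp α β u) = σ.θ D α u := by
  obtain ⟨D', φ, c, hφ, ha, hb⟩ := 𝔸.cov₂ i j D.1 α β D.2
  let Z : AObj 𝒳 := ⟨D', hφ.1⟩
  refine hs (D' := Z) φ hφ ?_
  refine (σ.θ_nat (D' := Z) φ β (φ ≫ β) rfl _).trans (Eq.trans ?_ (σ.θ_nat (D' := Z) φ α (φ ≫ α) rfl u).symm)
  rw [σ.isTrans_Φ hp α β u Z φ c ha.symm hb.symm, σ.θ_tr]

lemma val_indep (hs : σ.Sep) (D : AObj 𝒳) {i j : 𝔸.ι} (α : D.1 ⟶ 𝔸.x i) (β : D.1 ⟶ 𝔸.x j)
    (s : Sec (σ.Q hp) D.1) : σ.val hp D α s = σ.val hp D β s :=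
  (σ.θ_Φ hp hs D α β _).symm.trans (congrArg (σ.θ D β) (σ.Φ_sval hp D α β s))

/-- A natural family of linear maps between systems. -/
structure HomI where
  f : ∀ D : AObj 𝒳, σ.Hd D →ₗ[Fn 𝒳 D.1] σ'.Hd D
  nat : ∀ ⦃D' D : AObj 𝒳⦄ (d : D'.1 ⟶ D.1) (h : σ.Hd D), σ'.hr d (f D h) = f D' (σ.hr d h)

variable {σ σ'} {hp}

/-- A natural family of linear maps gives a morphism of the descended modules. -/
theorem HomI.exists_map (H : HomI σ σ') (hs : σ.Sep) (hs' : σ'.Sep) :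
    ∃ v : (σ.Q hp).obj ⟶ (σ'.Q hp).obj, ∀ (D : AObj 𝒳) {i : 𝔸.ι} (β : D.1 ⟶ 𝔸.x i) (s : Sec (σ.Q hp) D.1),
      σ'.val hp D β ((v.app D.1).app ⊤ s) = H.f D (σ.val hp D β s) := by
  have hid : ∀ i, Flat (StMod.bmap 𝒳 (𝟙 (𝔸.x i))) := fun i => by rw [StMod.bmap_id]; infer_instance
  let e' := fun i => LinearEquiv.ofBijective _ (σ'.bijective_val hp (𝔸.X i) (𝟙 (𝔸.x i)) (hid i))
  let h : ∀ i, Sec (σ.Q hp) (𝔸.x i) →ₗ[Fn 𝒳 (𝔸.x i)] Sec (σ'.Q hp) (𝔸.x i) := fun i =>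
    (e' i).symm.toLinearMap.comp ((H.f (𝔸.X i)).comp (σ.val hp (𝔸.X i) (𝟙 (𝔸.x i))))
  have hh : ∀ i s, σ'.val hp (𝔸.X i) (𝟙 (𝔸.x i)) (h i s) = H.f (𝔸.X i) (σ.val hp (𝔸.X i) (𝟙 (𝔸.x i)) s) :=
    fun i s => (e' i).apply_symm_apply _
  have key : ∀ (D : AObj 𝒳) {i : 𝔸.ι} (β : D.1 ⟶ 𝔸.x i) (s : Sec (σ.Q hp) D.1),
      σ'.val hp D β (pl (𝔸.affx i) (h i) D.2 β s) = H.f D (σ.val hp D β s) := by
    intro D i β s
    refine sec_induction (φ := β) D.2 (𝔸.affx i) (P := fun s =>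
      σ'.val hp D β (pl (𝔸.affx i) (h i) D.2 β s) = H.f D (σ.val hp D β s)) s
      (by simp only [map_zero]) (fun a b ha hb => by simp only [map_add, ha, hb]) fun r m => ?_
    simp only [map_smul, pl_mapTop]
    rw [σ'.val_mapTop hp (D := 𝔸.X i) β (Category.comp_id β), hh, H.nat,
      ← σ.val_mapTop hp (D := 𝔸.X i) β (Category.comp_id β)]
  obtain ⟨v, hv⟩ := 𝔸.exists_hom hp h fun i j => LinearMap.ext fun s =>
    (σ'.bijective_val hp (𝔸.Y i j) (𝔸.b i j) (𝔸.flatb i j)).1 (by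
      rw [← σ'.val_indep hp hs' (𝔸.Y i j) (𝔸.a i j), key (𝔸.Y i j), key (𝔸.Y i j),
        σ.val_indep hp hs (𝔸.Y i j) (𝔸.a i j) (𝔸.b i j)])
  refine ⟨v, fun D i β s => ?_⟩
  refine sec_induction (φ := β) D.2 (𝔸.affx i) (P := fun s =>
      σ'.val hp D β ((v.app D.1).app ⊤ s) = H.f D (σ.val hp D β s)) s
      (by simp only [map_zero]) (fun a b ha hb => by simp only [map_add, ha, hb]) fun r m => ?_
  rw [Scheme.Modules.Hom.app_smul, map_smul, map_smul, map_smul, ← StMod.Mod.mapTop_app]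
  refine congrArg (r • ·) ?_
  rw [hv, σ'.val_mapTop hp (D := 𝔸.X i) β (Category.comp_id β), hh, H.nat,
    ← σ.val_mapTop hp (D := 𝔸.X i) β (Category.comp_id β)]

/-- A family surjective on the charts gives a surjective morphism. -/
theorem HomI.isSurj_of_map (H : HomI σ σ') {v : (σ.Q hp).obj ⟶ (σ'.Q hp).obj}
    (hv : ∀ (D : AObj 𝒳) {i : 𝔸.ι} (β : D.1 ⟶ 𝔸.x i) (s : Sec (σ.Q hp) D.1),
      σ'.val hp D β ((v.app D.1).app ⊤ s) = H.f D (σ.val hp D β s))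
    (hsurj : ∀ i, Function.Surjective (H.f (𝔸.X i))) : StMod.Mod.IsSurj v := by
  refine 𝔸.isSurj_of_charts (F := σ.Q hp) (G := σ'.Q hp) fun i y => ?_
  have hid : Flat (StMod.bmap 𝒳 (𝟙 (𝔸.x i))) := by rw [StMod.bmap_id]; infer_instance
  obtain ⟨h, hh⟩ := hsurj i (σ'.val hp (𝔸.X i) (𝟙 _) y)
  obtain ⟨s, hs⟩ := (σ.bijective_val hp (𝔸.X i) (𝟙 _) hid).2 h
  exact ⟨s, (σ'.bijective_val hp (𝔸.X i) (𝟙 _) hid).1 (by rw [hv, hs, hh])⟩

/-- The values coming from a family. -/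
def HomI.imM (H : HomI σ σ') (i : 𝔸.ι) : Type u :=
  ↥((LinearMap.range (H.f (𝔸.X i))).comap (σ'.ιX i))

instance (H : HomI σ σ') (i : 𝔸.ι) : AddCommGroup (H.imM i) :=
  inferInstanceAs (AddCommGroup ↥((LinearMap.range (H.f (𝔸.X i))).comap (σ'.ιX i)))

instance (H : HomI σ σ') (i : 𝔸.ι) : Module (Fn 𝒳 (𝔸.x i)) (H.imM i) :=
  inferInstanceAs (Module (Fn 𝒳 (𝔸.x i)) ↥((LinearMap.range (H.f (𝔸.X i))).comap (σ'.ιX i)))

/-- The inclusion of the values coming from a family. -/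
def HomI.imIncl (H : HomI σ σ') (i : 𝔸.ι) : H.imM i →ₗ[Fn 𝒳 (𝔸.x i)] M' i :=
  ((LinearMap.range (H.f (𝔸.X i))).comap (σ'.ιX i)).subtype

theorem HomI.exists_imθ (H : HomI σ σ') (hr_smul : ∀ ⦃D' D : AObj 𝒳⦄ (d : D'.1 ⟶ D.1) (c : Fn 𝒳 D.1) (h : σ'.Hd D),
      σ'.hr d (c • h) = fnMap d c • σ'.hr d h) (D : AObj 𝒳) {i : 𝔸.ι} (γ : D.1 ⟶ 𝔸.x i) :
    ∃ l : BC (H.imM i) γ →+ ↥(LinearMap.range (H.f D)),
      (∀ (c : Fn 𝒳 D.1) u, l (c • u) = c • l u) ∧ (∀ n, (l (gen (H.imM i) γ n)).1 = σ'.θ D γ (gen (M' i) γ (H.imIncl i n))) := by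
  letI := (fnMap γ).toAlgebra
  have hmem : ∀ n : H.imM i, σ'.θ D γ (gen (M' i) γ (H.imIncl i n)) ∈ LinearMap.range (H.f D) := fun n => by
    obtain ⟨h, hh⟩ := (n.2 : σ'.ιX i n.1 ∈ LinearMap.range (H.f (𝔸.X i)))
    refine ⟨σ.hr (D := 𝔸.X i) γ h, ?_⟩
    rw [← H.nat, hh, σ'.hr_ιX]
    rfl
  let a : H.imM i →+ ↥(LinearMap.range (H.f D)) := AddMonoidHom.mk' (fun n => ⟨_, hmem n⟩) fun p q =>
    Subtype.ext (by
      change σ'.θ D γ (gen (M' i) γ (H.imIncl i (p + q))) = _ + _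
      rw [map_add, map_add, map_add])
  refine ⟨TensorProduct.liftAddHom (AddMonoidHom.mk' (fun c => AddMonoidHom.mk' (fun n => c • a n)
      fun p q => by rw [map_add, smul_add]) fun c c' => AddMonoidHom.ext fun n => add_smul c c' (a n))
      (fun r c n => ?_), fun c u => ?_, fun n => congrArg Subtype.val (one_smul (Fn 𝒳 D.1) (a n))⟩
  · change (fnMap γ r * c) • a n = c • a (r • n)
    refine Subtype.ext ?_
    change (fnMap γ r * c) • σ'.θ D γ (gen (M' i) γ (H.imIncl i n)) = c • σ'.θ D γ (gen (M' i) γ (H.imIncl i (r • n)))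
    rw [map_smul, (isBC_gen (M' i) γ).smul, σ'.θ_smul, smul_smul, mul_comm]
  · induction u using TensorProduct.induction_on with
    | zero =>
      refine (congrArg _ (smul_zero (A := BC (H.imM i) γ) c)).trans ((map_zero _).trans ?_)
      exact ((congrArg (c • ·) (map_zero _)).trans (smul_zero c)).symm
    | add p q hp hq =>
      refine (congrArg _ (smul_add c (show BC (H.imM i) γ from p) q)).trans ?_
      refine (map_add _ _ _).trans ((congrArg₂ (· + ·) hp hq).trans ((smul_add c _ _).symm.trans ?_))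
      exact congrArg (c • ·) (map_add _ (show BC (H.imM i) γ from p) q).symm
    | tmul b n => exact mul_smul c b (a n)

variable (hr_smul : ∀ ⦃D' D : AObj 𝒳⦄ (d : D'.1 ⟶ D.1) (c : Fn 𝒳 D.1) (h : σ'.Hd D),
  σ'.hr d (c • h) = fnMap d c • σ'.hr d h)

/-- The comparison of the image system. -/
def HomI.imθ (H : HomI σ σ') (D : AObj 𝒳) {i : 𝔸.ι} (γ : D.1 ⟶ 𝔸.x i) :
    BC (H.imM i) γ →+ ↥(LinearMap.range (H.f D)) :=
  (H.exists_imθ hr_smul D γ).choose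

lemma HomI.imθ_smul (H : HomI σ σ') (D : AObj 𝒳) {i : 𝔸.ι} (γ : D.1 ⟶ 𝔸.x i) (c : Fn 𝒳 D.1) (u : BC (H.imM i) γ) :
    H.imθ hr_smul D γ (c • u) = c • H.imθ hr_smul D γ u :=
  (H.exists_imθ hr_smul D γ).choose_spec.1 c u

lemma HomI.imθ_gen (H : HomI σ σ') (D : AObj 𝒳) {i : 𝔸.ι} (γ : D.1 ⟶ 𝔸.x i) (n : H.imM i) :
    (H.imθ hr_smul D γ (gen (H.imM i) γ n)).1 = σ'.θ D γ (gen (M' i) γ (H.imIncl i n)) :=
  (H.exists_imθ hr_smul D γ).choose_spec.2 n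

theorem HomI.bijective_imθ (H : HomI σ σ') (D : AObj 𝒳) {i : 𝔸.ι} (γ : D.1 ⟶ 𝔸.x i) (hγ : Flat (StMod.bmap 𝒳 γ)) :
    Function.Bijective (H.imθ hr_smul D γ) := by
  haveI := D.2
  haveI := 𝔸.affx i
  letI := (fnMap γ).toAlgebra
  haveI : Module.Flat (Fn 𝒳 (𝔸.x i)) (Fn 𝒳 D.1) := (HasRingHomProperty.iff_of_isAffine (P := @Flat)).1 hγ
  have key : ∀ u : Fn 𝒳 D.1 ⊗[Fn 𝒳 (𝔸.x i)] H.imM i, (H.imθ hr_smul D γ u).1 =
      σ'.θ D γ ((H.imIncl i).lTensor (Fn 𝒳 D.1) u : BC (M' i) γ) := by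
    intro u
    induction u using TensorProduct.induction_on with
    | zero =>
      refine (congrArg Subtype.val (map_zero (H.imθ hr_smul D γ))).trans ?_
      exact ((congrArg (σ'.θ D γ) (map_zero _)).trans (map_zero _)).symm
    | add p q hp hq =>
      refine (congrArg Subtype.val (map_add (H.imθ hr_smul D γ) (show BC (H.imM i) γ from p) q)).trans ?_
      refine (congrArg₂ (· + ·) hp hq).trans ?_
      rw [map_add]
      exact (map_add (σ'.θ D γ) _ _).symm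
    | tmul c n =>
      have h1 : (c ⊗ₜ n : BC (H.imM i) γ) = c • gen (H.imM i) γ n := by
        change _ = (c * 1) ⊗ₜ[Fn 𝒳 (𝔸.x i)] n
        rw [mul_one]
      have h2 : ((H.imIncl i).lTensor (Fn 𝒳 D.1) (c ⊗ₜ n) : BC (M' i) γ) = c • gen (M' i) γ (H.imIncl i n) := by
        rw [LinearMap.lTensor_tmul]
        change _ = (c * 1) ⊗ₜ[Fn 𝒳 (𝔸.x i)] H.imIncl i n
        rw [mul_one]
      rw [h2, h1, H.imθ_smul, σ'.θ_smul, ← H.imθ_gen hr_smul]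
      rfl
  refine ⟨fun p q hpq => ?_, fun y => ?_⟩
  · refine Module.Flat.lTensor_preserves_injective_linearMap (M := Fn 𝒳 D.1) (H.imIncl i)
      Subtype.val_injective ?_
    exact (σ'.θ_bij D γ hγ).1 (((key p).symm.trans (congrArg Subtype.val hpq)).trans (key q))
  · obtain ⟨y, x, rfl⟩ := y
    obtain ⟨u, rfl⟩ := (σ.θ_bij D γ hγ).2 x
    suffices ∃ p, (H.imθ hr_smul D γ p).1 = H.f D (σ.θ D γ u) from
      this.imp fun _ e => Subtype.ext e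
    refine (isBC_gen (M i) γ).induction (P := fun u => ∃ p, (H.imθ hr_smul D γ p).1 = H.f D (σ.θ D γ u)) u
      ⟨0, ?_⟩ ?_ ?_
    · rw [map_zero, map_zero, map_zero]
      rfl
    · rintro a b ⟨p, hp⟩ ⟨q, hq⟩
      exact ⟨p + q, by rw [map_add, map_add, map_add, ← hp, ← hq]; rfl⟩
    · intro c m
      obtain ⟨n, hn⟩ := (σ'.bijective_ιX i).2 (H.f (𝔸.X i) (σ.ιX i m))
      let n' : H.imM i := ⟨n, ⟨σ.ιX i m, hn.symm⟩⟩
      refine ⟨c • gen (H.imM i) γ n', ?_⟩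
      rw [H.imθ_smul, σ.θ_smul, map_smul, ← σ.hr_ιX, ← H.nat, ← hn, σ'.hr_ιX]
      exact congrArg (c • ·) (H.imθ_gen hr_smul D γ n')

/-- The system of images of a family. -/
def HomI.image (H : HomI σ σ') : SysI.{t} 𝔸 H.imM where
  Hd D := ↥(LinearMap.range (H.f D))
  hr {D' D} d := AddMonoidHom.mk' (fun h => ⟨σ'.hr d h.1, by
      obtain ⟨_, k, rfl⟩ := h
      exact ⟨σ.hr d k, (H.nat d k).symm⟩⟩) fun p q => Subtype.ext (map_add (σ'.hr d) p.1 q.1)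
  θ D _ γ := H.imθ hr_smul D γ
  θ_smul D _ γ c u := H.imθ_smul hr_smul D γ c u
  θ_bij D _ γ h := H.bijective_imθ hr_smul D γ h
  θ_nat {D' D} d {i} γ γ' e u := by
    refine Subtype.ext ((isBC_gen (H.imM i) γ).induction (P := fun u =>
      σ'.hr d (H.imθ hr_smul D γ u).1 = (H.imθ hr_smul D' γ' (push d e u)).1) u ?_ ?_ ?_)
    · simp
    · intro a b ha hb
      simp only [map_add, Submodule.coe_add]
      exact congrArg₂ (· + ·) ha hb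
    · intro c n
      simp only [push_smul, push_gen, H.imθ_smul, Submodule.coe_smul, hr_smul, H.imθ_gen]
      rw [σ'.θ_nat d γ γ' e, push_gen]

lemma HomI.image_sep (H : HomI σ σ') (hs : σ'.Sep) : (H.image hr_smul).Sep := fun _ _ φ hφ _ _ e =>
  Subtype.ext (hs φ hφ (congrArg Subtype.val e))

/-- The projection to the image. -/
def HomI.toImage (H : HomI σ σ') : HomI σ (H.image hr_smul) where
  f D := (H.f D).rangeRestrict
  nat _ _ d h := Subtype.ext (H.nat d h)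

lemma HomI.toImage_surjective (H : HomI σ σ') (D : AObj 𝒳) : Function.Surjective ((H.toImage hr_smul).f D) :=
  (H.f D).surjective_rangeRestrict

end SysI

end Groth.Agent.H14CohBC
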