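import Groth.Agent.H14CohBC.SysHom
import Groth.Agent.H14QCoh.GlobSect
import Mathlib.LinearAlgebra.DirectSum.Finsupp
import Mathlib.LinearAlgebra.TensorProduct.RightExactness

/-!
# Modules over a ring of constants and their inverse images on a category with exact global sections
-/

set_option autoImplicit false
set_option linter.style.haveILetI false
set_option backward.isDefEq.respectTransparency false
set_option backward.isDefEq.respectTransparency.types false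

universe w v u

open CategoryTheory CategoryTheory.Limits AlgebraicGeometry Opposite TopologicalSpace
open scoped TensorProduct

noncomputable section

namespace Groth.Agent.H14CohBC

open H14QCoh

/-- The map between two base changes of the same module is bijective. -/
theorem bijective_of_isBC {A B : Type u} [CommRing A] [CommRing B] {M N L : Type u} [AddCommGroup M] [Module A M]
    [AddCommGroup N] [Module B N] [AddCommGroup L] [Module B L] {σ : A →+* B} {f : M →+ N} {g : M →+ L}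
    (hf : IsBC σ f) (hg : IsBC σ g) (l : N →ₗ[B] L) (hl : ∀ m, l (f m) = g m) : Function.Bijective l := by
  letI := σ.toAlgebra
  obtain ⟨e, he⟩ := hf.exists_equiv
  obtain ⟨e', he'⟩ := hg.exists_equiv
  have : ⇑l = e' ∘ e.symm := by
    funext n
    obtain ⟨t, rfl⟩ := e.surjective n
    rw [Function.comp_apply, e.symm_apply_apply]
    induction t using TensorProduct.induction_on with
    | zero => simp
    | add x y hx hy => rw [map_add, map_add, map_add, hx, hy]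
    | tmul b m => rw [he, he', map_smul, hl]
  rw [this]
  exact e'.bijective.comp e.symm.bijective

variable {S : Scheme.{u}} {𝒵 : BasedCategory.{v, w} (Over S)} {A : Type u} [CommRing A]
  (φ : ∀ D : AObj 𝒵, A →+* Fn 𝒵 D.1) (W W' : Type u) [AddCommGroup W] [Module A W] [AddCommGroup W'] [Module A W']

/-- The extension of a module of constants to an affine object. -/
def TW (D : AObj 𝒵) : Type u :=
  letI := (φ D).toAlgebra
  Fn 𝒵 D.1 ⊗[A] W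

instance (D : AObj 𝒵) : AddCommGroup (TW φ W D) :=
  letI := (φ D).toAlgebra
  TensorProduct.addCommGroup

instance instModuleTW (D : AObj 𝒵) : Module (Fn 𝒵 D.1) (TW φ W D) :=
  letI := (φ D).toAlgebra
  TensorProduct.leftModule

/-- The tautological map. -/
def genT (D : AObj 𝒵) : W →+ TW φ W D :=
  letI := (φ D).toAlgebra
  AddMonoidHom.mk' (fun w => (1 : Fn 𝒵 D.1) ⊗ₜ[A] w) fun a b => TensorProduct.tmul_add _ a b

theorem isBC_genT (D : AObj 𝒵) : IsBC (φ D) (genT φ W D) := by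
  letI := (φ D).toAlgebra
  refine isBC_of_tensor (fun a w => ?_) ⟨LinearMap.id, Function.bijective_id, fun _ => rfl⟩
  change (1 : Fn 𝒵 D.1) ⊗ₜ[A] (a • w) = algebraMap A (Fn 𝒵 D.1) a • ((1 : Fn 𝒵 D.1) ⊗ₜ[A] w)
  rw [algebraMap_smul, TensorProduct.tmul_smul]

variable {W W'}

/-- The map induced by a linear map of constants. -/
def mapT (g : W →ₗ[A] W') (D : AObj 𝒵) : TW φ W D →ₗ[Fn 𝒵 D.1] TW φ W' D :=
  letI := (φ D).toAlgebra
  g.baseChange (Fn 𝒵 D.1)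

@[simp] lemma mapT_genT (g : W →ₗ[A] W') (D : AObj 𝒵) (w : W) :
    mapT φ g D (genT φ W D w) = genT φ W' D (g w) := by
  letI := (φ D).toAlgebra
  exact g.baseChange_tmul (1 : Fn 𝒵 D.1) w

theorem surjective_mapT (g : W →ₗ[A] W') (hg : Function.Surjective g) (D : AObj 𝒵) :
    Function.Surjective (mapT φ g D) := by
  letI := (φ D).toAlgebra
  exact LinearMap.lTensor_surjective (Fn 𝒵 D.1) hg

theorem exact_mapT {W'' : Type u} [AddCommGroup W''] [Module A W''] (g : W →ₗ[A] W') (p : W' →ₗ[A] W'')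
    (h : Function.Exact g p) (hp : Function.Surjective p) (D : AObj 𝒵) :
    Function.Exact (mapT φ g D) (mapT φ p D) := by
  letI := (φ D).toAlgebra
  exact lTensor_exact (Fn 𝒵 D.1) h hp

variable (hφ : ∀ {D' D : AObj 𝒵} (d : D'.1 ⟶ D.1) (a : A), fnMap d (φ D a) = φ D' a)

include hφ in
theorem exists_pushT {D' D : AObj 𝒵} (d : D'.1 ⟶ D.1) :
    ∃ l : TW φ W D →+ TW φ W D', (∀ (c : Fn 𝒵 D.1) u, l (c • u) = fnMap d c • l u) ∧
      ∀ w, l (genT φ W D w) = genT φ W D' w := by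
  letI := Module.compHom (TW φ W D') (fnMap d)
  obtain ⟨l, hl⟩ := (isBC_genT φ W D).exists_lift (genT φ W D') fun r w => by
    rw [(isBC_genT φ W D').smul, ← hφ d r]
    rfl
  exact ⟨l.toAddMonoidHom, fun c u => l.map_smul c u, hl⟩

/-- The map induced by an arrow. -/
def pushT {D' D : AObj 𝒵} (d : D'.1 ⟶ D.1) : TW φ W D →+ TW φ W D' :=
  (exists_pushT φ hφ d).choose

lemma pushT_smul {D' D : AObj 𝒵} (d : D'.1 ⟶ D.1) (c : Fn 𝒵 D.1) (u : TW φ W D) :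
    pushT φ hφ d (c • u) = fnMap d c • pushT φ hφ d u :=
  (exists_pushT φ hφ d).choose_spec.1 c u

@[simp] lemma pushT_genT {D' D : AObj 𝒵} (d : D'.1 ⟶ D.1) (w : W) :
    pushT φ hφ d (genT φ W D w) = genT φ W D' w :=
  (exists_pushT φ hφ d).choose_spec.2 w

theorem isBC_pushT {D' D : AObj 𝒵} (d : D'.1 ⟶ D.1) : IsBC (fnMap d) (pushT φ hφ (W := W) d) := by
  refine (isBC_genT φ W D).of_comp (pushT_smul φ hφ d) ?_
  have h1 : (fnMap d).comp (φ D) = φ D' := RingHom.ext fun r => hφ d r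
  have h2 : (pushT φ hφ d).comp (genT φ W D) = genT φ W D' := AddMonoidHom.ext fun w => pushT_genT φ hφ d w
  rw [h1, h2]
  exact isBC_genT φ W D'

lemma pushT_pushT {D'' D' D : AObj 𝒵} (d : D''.1 ⟶ D'.1) (γ : D'.1 ⟶ D.1) (u : TW φ W D) :
    pushT φ hφ d (pushT φ hφ γ u) = pushT φ hφ (d ≫ γ) u :=
  (isBC_genT φ W D).induction (P := fun u => pushT φ hφ d (pushT φ hφ γ u) = pushT φ hφ (d ≫ γ) u) u (by simp)
    (fun a b ha hb => by simp only [map_add, ha, hb]) fun c w => by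
      simp only [pushT_smul, pushT_genT, fnMap_comp]

lemma mapT_pushT (g : W →ₗ[A] W') {D' D : AObj 𝒵} (d : D'.1 ⟶ D.1) (u : TW φ W D) :
    pushT φ hφ d (mapT φ g D u) = mapT φ g D' (pushT φ hφ d u) :=
  congr($((isBC_genT φ W D).hom_ext (a := (pushT φ hφ d).comp (mapT φ g D).toAddMonoidHom)
    (b := (mapT φ g D').toAddMonoidHom.comp (pushT φ hφ d)) (fnMap d)
    (fun c n => by simp [pushT_smul]) (fun c n => by simp [pushT_smul]) fun m => by simp) u)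

section Free

local instance instDecEqIdx (ι : Type u) : DecidableEq ι := Classical.decEq ι

variable (ι : Type u)

/-- The coordinates on the extension of a free module. -/
def coordT (D : AObj 𝒵) : TW φ (ι →₀ A) D →ₗ[Fn 𝒵 D.1] (ι →₀ Fn 𝒵 D.1) :=
  letI := (φ D).toAlgebra
  (TensorProduct.finsuppScalarRight A (Fn 𝒵 D.1) (Fn 𝒵 D.1) ι).toLinearMap

lemma bijective_coordT (D : AObj 𝒵) : Function.Bijective (coordT φ ι D) := by
  letI := (φ D).toAlgebra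
  exact (TensorProduct.finsuppScalarRight A (Fn 𝒵 D.1) (Fn 𝒵 D.1) ι).bijective

lemma coordT_genT (D : AObj 𝒵) (w : ι →₀ A) (i : ι) :
    coordT φ ι D (genT φ (ι →₀ A) D w) i = φ D (w i) := by
  letI := (φ D).toAlgebra
  refine (TensorProduct.finsuppScalarRight_apply_tmul_apply (R := A) (S := Fn 𝒵 D.1) (1 : Fn 𝒵 D.1) w i).trans ?_
  rw [Algebra.smul_def, mul_one]
  rfl

lemma coordT_pushT {D' D : AObj 𝒵} (d : D'.1 ⟶ D.1) (u : TW φ (ι →₀ A) D) (i : ι) :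
    coordT φ ι D' (pushT φ hφ d u) i = fnMap d (coordT φ ι D u i) :=
  (isBC_genT φ (ι →₀ A) D).induction (P := fun u =>
    coordT φ ι D' (pushT φ hφ d u) i = fnMap d (coordT φ ι D u i)) u (by simp)
    (fun a b ha hb => by simp only [map_add, Finsupp.add_apply, ha, hb]) fun c w => by
      simp only [pushT_smul, map_smul, Finsupp.smul_apply, pushT_genT, coordT_genT, smul_eq_mul, map_mul, hφ]

/-- Constants are the equalizer on free modules as soon as they are on functions. -/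
theorem exists_of_pushT_eq_free {X Y : AObj 𝒵} (a b : Y.1 ⟶ X.1) (hinj : Function.Injective (φ X))
    (hO : ∀ t : Fn 𝒵 X.1, fnMap a t = fnMap b t → ∃ r, φ X r = t) :
    Function.Injective (genT φ (ι →₀ A) X) ∧
      ∀ t : TW φ (ι →₀ A) X, pushT φ hφ a t = pushT φ hφ b t → ∃ w, genT φ (ι →₀ A) X w = t := by
  classical
  refine ⟨fun w w' e => Finsupp.ext fun i => hinj ?_, fun t ht => ?_⟩
  · rw [← coordT_genT, ← coordT_genT, e]
  · have hc : ∀ i, fnMap a (coordT φ ι X t i) = fnMap b (coordT φ ι X t i) := fun i => by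
      rw [← coordT_pushT φ hφ, ← coordT_pushT φ hφ, ht]
    choose r hr using fun i => hO _ (hc i)
    let s := (coordT φ ι X t).support
    refine ⟨Finsupp.onFinset s r fun i hi => Finsupp.mem_support_iff.2 fun h0 => hi (hinj ?_),
      (bijective_coordT φ ι X).1 (Finsupp.ext fun i => ?_)⟩
    · rw [hr, h0, map_zero]
    · rw [coordT_genT, Finsupp.onFinset_apply, hr]

end Free

attribute [irreducible] TW genT mapT coordT pushT

variable (𝔸 : AtlasF 𝒵)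

/-- An atlas as an indexed atlas with one chart. -/
def oneAtlasI : AtlasI.{u} 𝒵 where
  ι := PUnit
  x _ := 𝔸.x
  y _ _ := 𝔸.y
  a _ _ := 𝔸.a
  b _ _ := 𝔸.b
  affx _ := 𝔸.affx
  affy _ _ := 𝔸.affy
  cov ξ hξ := by
    obtain ⟨ξ', φ', hφ', hα⟩ := 𝔸.cov ξ hξ
    exact ⟨ξ', φ', PUnit.unit, hφ', hα⟩
  cov₂ _ _ ξ α β hξ := 𝔸.cov₂ ξ α β hξ
  flata _ _ := 𝔸.flata
  flatb _ _ := 𝔸.flatb
  cov₃ _ _ := 𝔸.cov₃

instance instModuleTWX {i : (oneAtlasI 𝔸).ι} :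
    Module (Fn 𝒵 ((oneAtlasI 𝔸).x i)) (TW φ W ((oneAtlasI 𝔸).X i)) :=
  instModuleTW φ W ((oneAtlasI 𝔸).X i)

variable (W) in
theorem exists_θT (D : AObj 𝒵) {i : (oneAtlasI 𝔸).ι} (γ : D.1 ⟶ (oneAtlasI 𝔸).x i) :
    ∃ l : BC (TW φ W ((oneAtlasI 𝔸).X i)) γ →ₗ[Fn 𝒵 D.1] TW φ W D,
      ∀ m, l (gen _ γ m) = pushT φ hφ (D := (oneAtlasI 𝔸).X i) γ m :=
  (isBC_gen _ γ).exists_lift _ (pushT_smul φ hφ (D := (oneAtlasI 𝔸).X i) γ)

/-- The comparison with the extension from the chart. -/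
def θTl (D : AObj 𝒵) {i : (oneAtlasI 𝔸).ι} (γ : D.1 ⟶ (oneAtlasI 𝔸).x i) :
    BC (TW φ W ((oneAtlasI 𝔸).X i)) γ →ₗ[Fn 𝒵 D.1] TW φ W D :=
  (exists_θT φ W hφ 𝔸 D γ).choose

lemma θTl_gen (D : AObj 𝒵) {i : (oneAtlasI 𝔸).ι} (γ : D.1 ⟶ (oneAtlasI 𝔸).x i)
    (m : TW φ W ((oneAtlasI 𝔸).X i)) :
    θTl φ hφ 𝔸 D γ (gen _ γ m) = pushT φ hφ (D := (oneAtlasI 𝔸).X i) γ m :=
  (exists_θT φ W hφ 𝔸 D γ).choose_spec m

attribute [irreducible] θTl

lemma θTl_nat {D' D : AObj 𝒵} (d : D'.1 ⟶ D.1) {i : (oneAtlasI 𝔸).ι} (γ : D.1 ⟶ (oneAtlasI 𝔸).x i)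
    (γ' : D'.1 ⟶ (oneAtlasI 𝔸).x i) (e : d ≫ γ = γ') (u : BC (TW φ W ((oneAtlasI 𝔸).X i)) γ) :
    pushT φ hφ d (θTl φ hφ 𝔸 D γ u) = θTl φ hφ 𝔸 D' γ' (push d e u) := by
  subst e
  refine (isBC_gen (TW φ W ((oneAtlasI 𝔸).X i)) γ).induction (P := fun u =>
    pushT φ hφ d (θTl φ hφ 𝔸 D γ u) = θTl φ hφ 𝔸 D' (d ≫ γ) (push d rfl u)) u ?_ ?_ ?_
  · simp only [map_zero]
  · intro a b ha hb
    simp only [map_add, ha, hb]
  · intro c m
    rw [push_smul, push_gen, LinearMap.map_smul, LinearMap.map_smul, pushT_smul, θTl_gen, θTl_gen]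
    exact congrArg (fnMap d c • ·) (pushT_pushT φ hφ d γ m)

variable (W) in
/-- The system of a module of constants. -/
def tensSys : SysI.{u} (oneAtlasI 𝔸) fun i => TW φ W ((oneAtlasI 𝔸).X i) where
  Hd D := TW φ W D
  hr d := pushT φ hφ d
  θ D _ γ := (θTl φ hφ 𝔸 D γ).toAddMonoidHom
  θ_smul D _ γ c u := (θTl φ hφ 𝔸 D γ).map_smul c u
  θ_bij D i γ _ := bijective_of_isBC (isBC_gen _ γ) (isBC_pushT φ hφ (D := (oneAtlasI 𝔸).X i) γ)
    (θTl φ hφ 𝔸 D γ) (θTl_gen φ hφ 𝔸 D γ)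
  θ_nat d _ γ γ' e u := θTl_nat φ hφ 𝔸 d γ γ' e u

lemma tensSys_sep : (tensSys φ W hφ 𝔸).Sep := fun D' D d hd => by
  haveI := D.2
  exact (isBC_pushT φ hφ d).injective_of_ff hd.faithfullyFlat

/-- The family of a linear map of constants. -/
def tensHomI (g : W →ₗ[A] W') : SysI.HomI (tensSys φ W hφ 𝔸) (tensSys φ W' hφ 𝔸) where
  f := mapT φ g
  nat _ _ d h := mapT_pushT φ hφ g d h

section Sections

variable {𝔸} {M : (oneAtlasI 𝔸).ι → Type u} [∀ i, AddCommGroup (M i)]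
  [∀ i, Module (Fn 𝒵 ((oneAtlasI 𝔸).x i)) (M i)] (σ : SysI.{u} (oneAtlasI 𝔸) M) (hp : FibCat.IsFibGrpd 𝒵.p)

theorem exists_globSect_sys (hs : σ.Sep) (t : σ.Hd 𝔸.X)
    (ht : σ.hr (D' := 𝔸.Y) (D := 𝔸.X) 𝔸.a t = σ.hr (D' := 𝔸.Y) (D := 𝔸.X) 𝔸.b t) :
    ∃ T : (σ.Q hp).obj.GlobSect, σ.val hp 𝔸.X (i := PUnit.unit) (𝟙 𝔸.x) (T.1 𝔸.x) = t := by
  haveI := 𝔸.affx
  have hid : Flat (StMod.bmap 𝒵 (𝟙 𝔸.x)) := by rw [StMod.bmap_id]; infer_instance
  obtain ⟨s, hs'⟩ := (σ.bijective_val hp 𝔸.X (i := PUnit.unit) (𝟙 𝔸.x) hid).2 t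
  obtain ⟨T, hT⟩ := exists_globSect hp 𝔸.toAtlas (σ.Q hp) s ((σ.bijective_val hp 𝔸.Y (i := PUnit.unit) 𝔸.b 𝔸.flatb).1 (by
    rw [σ.val_mapTop hp (D' := 𝔸.Y) (D := 𝔸.X) 𝔸.b (Category.comp_id _), σ.val_indep hp hs 𝔸.Y (j := PUnit.unit) 𝔸.b 𝔸.a,
      σ.val_mapTop hp (D' := 𝔸.Y) (D := 𝔸.X) 𝔸.a (Category.comp_id _), hs']
    exact ht))
  exact ⟨T, by rw [hT, hs']⟩

theorem hr_val_globSect (hs : σ.Sep) (T : (σ.Q hp).obj.GlobSect) :
    σ.hr (D' := 𝔸.Y) (D := 𝔸.X) 𝔸.a (σ.val hp 𝔸.X (i := PUnit.unit) (𝟙 𝔸.x) (T.1 𝔸.x)) =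
      σ.hr (D' := 𝔸.Y) (D := 𝔸.X) 𝔸.b (σ.val hp 𝔸.X (i := PUnit.unit) (𝟙 𝔸.x) (T.1 𝔸.x)) := by
  rw [← σ.val_mapTop hp (D' := 𝔸.Y) (D := 𝔸.X) 𝔸.a (Category.comp_id _),
    ← σ.val_mapTop hp (D' := 𝔸.Y) (D := 𝔸.X) 𝔸.b (Category.comp_id _), T.2 𝔸.a, T.2 𝔸.b,
    σ.val_indep hp hs 𝔸.Y (j := PUnit.unit) 𝔸.a 𝔸.b]

end Sections

variable (hp : FibCat.IsFibGrpd 𝒵.p)
  (hex : ∀ {F G : StMod.QCoh 𝒵} (v : F.obj ⟶ G.obj), StMod.Mod.IsSurj v →
    Function.Surjective (StMod.Mod.globSectMap v))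

include hp hex in
/-- Sections of a family surjective on the charts lift. -/
theorem exists_lift_sys {M M' : (oneAtlasI 𝔸).ι → Type u} [∀ i, AddCommGroup (M i)]
    [∀ i, Module (Fn 𝒵 ((oneAtlasI 𝔸).x i)) (M i)] [∀ i, AddCommGroup (M' i)]
    [∀ i, Module (Fn 𝒵 ((oneAtlasI 𝔸).x i)) (M' i)] {σ : SysI.{u} (oneAtlasI 𝔸) M}
    {σ' : SysI.{u} (oneAtlasI 𝔸) M'} (H : SysI.HomI σ σ') (hs : σ.Sep) (hs' : σ'.Sep)
    (hsurj : ∀ i, Function.Surjective (H.f ((oneAtlasI 𝔸).X i))) (t : σ'.Hd 𝔸.X)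
    (ht : σ'.hr (D' := 𝔸.Y) (D := 𝔸.X) 𝔸.a t = σ'.hr (D' := 𝔸.Y) (D := 𝔸.X) 𝔸.b t) :
    ∃ u : σ.Hd 𝔸.X, σ.hr (D' := 𝔸.Y) (D := 𝔸.X) 𝔸.a u = σ.hr (D' := 𝔸.Y) (D := 𝔸.X) 𝔸.b u ∧ H.f 𝔸.X u = t := by
  obtain ⟨v, hv⟩ := H.exists_map (hp := hp) hs hs'
  obtain ⟨T', hT'⟩ := exists_globSect_sys σ' hp hs' t ht
  obtain ⟨T, hT⟩ := hex v (H.isSurj_of_map hv hsurj) T'
  refine ⟨_, hr_val_globSect σ hp hs T, ?_⟩
  rw [← hT', ← hT]
  exact (hv 𝔸.X (i := PUnit.unit) (𝟙 𝔸.x) (T.1 𝔸.x)).symm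

variable (W) in
include hφ hp hex in
/-- Every module of constants is the equalizer of its extensions. -/
theorem exists_of_pushT_eq (hinj : Function.Injective (φ 𝔸.X))
    (hO : ∀ t : Fn 𝒵 𝔸.x, fnMap 𝔸.a t = fnMap 𝔸.b t → ∃ r, φ 𝔸.X r = t) :
    Function.Injective (genT φ W 𝔸.X) ∧
      ∀ t : TW φ W 𝔸.X, pushT φ hφ (D' := 𝔸.Y) 𝔸.a t = pushT φ hφ (D' := 𝔸.Y) 𝔸.b t → ∃ w, genT φ W 𝔸.X w = t := by
  have hfree := fun ι : Type u => exists_of_pushT_eq_free φ hφ ι (X := 𝔸.X) (Y := 𝔸.Y) 𝔸.a 𝔸.b hinj hO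
  let p : (W →₀ A) →ₗ[A] W := Finsupp.linearCombination A id
  have hps : Function.Surjective p := fun n => ⟨Finsupp.single n 1, by simp [p]⟩
  refine ⟨(injective_iff_map_eq_zero _).2 fun n hn => ?_, fun t ht => ?_⟩
  · obtain ⟨w, rfl⟩ := hps n
    let g : (LinearMap.ker p →₀ A) →ₗ[A] (W →₀ A) := Finsupp.linearCombination A Subtype.val
    have hg : Function.Exact g p := by
      intro y
      refine ⟨fun hy => ⟨Finsupp.single (⟨y, hy⟩ : LinearMap.ker p) 1, by simp [g]⟩, ?_⟩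
      rintro ⟨z, rfl⟩
      induction z using Finsupp.induction_linear with
      | zero => simp
      | add a b ha hb => rw [map_add, map_add, ha, hb, add_zero]
      | single k c => simp [g, show p k.1 = 0 from k.2]
    let H := tensHomI φ hφ 𝔸 g
    have hsmul := fun ⦃D' D : AObj 𝒵⦄ (d : D'.1 ⟶ D.1) (c : Fn 𝒵 D.1) (h : TW φ (W →₀ A) D) =>
      pushT_smul φ hφ d c h
    have hmem : ∃ y, mapT φ g 𝔸.X y = genT φ (W →₀ A) 𝔸.X w :=
      ((exact_mapT φ g p hg hps 𝔸.X) _).1 (by rw [mapT_genT]; exact hn)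
    obtain ⟨z, hz, hz'⟩ := exists_lift_sys 𝔸 hp hex (H.toImage hsmul) (tensSys_sep φ hφ 𝔸)
      (H.image_sep hsmul (tensSys_sep φ hφ 𝔸)) (fun _ => H.toImage_surjective hsmul _)
      ⟨_, hmem⟩ (Subtype.ext (by
        change pushT φ hφ (D' := 𝔸.Y) (D := 𝔸.X) 𝔸.a _ = pushT φ hφ (D' := 𝔸.Y) (D := 𝔸.X) 𝔸.b _
        rw [pushT_genT, pushT_genT]))
    obtain ⟨z', hz''⟩ := (hfree _).2 z hz
    have e : genT φ (W →₀ A) 𝔸.X (g z') = genT φ (W →₀ A) 𝔸.X w := by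
      rw [← mapT_genT, hz'']
      exact congrArg Subtype.val hz'
    rw [← (hfree _).1 e]
    exact hg.apply_apply_eq_zero z'
  · obtain ⟨z, hz, hz'⟩ := exists_lift_sys 𝔸 hp hex (tensHomI φ hφ 𝔸 p) (tensSys_sep φ hφ 𝔸)
      (tensSys_sep φ hφ 𝔸) (fun _ => surjective_mapT φ p hps _) t ht
    obtain ⟨w, hw⟩ := (hfree _).2 z hz
    refine ⟨p w, ?_⟩
    rw [← mapT_genT, hw]
    exact hz'

end Groth.Agent.H14CohBC
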