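import Groth.Agent.H14CohBC.AtlasI
import Groth.Agent.H14QCoh.ExtScal

/-!
# Transition isomorphisms of extensions of scalars from a presheaf on the objects flat over an indexed atlas
-/

set_option autoImplicit false
set_option linter.style.haveILetI false
set_option backward.isDefEq.respectTransparency false
set_option backward.isDefEq.respectTransparency.types false

universe t t' w v u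

open CategoryTheory CategoryTheory.Limits AlgebraicGeometry Opposite TopologicalSpace

noncomputable section

namespace Groth.Agent.H14CohBC

open H14QCoh

variable {S : Scheme.{u}} {𝒳 : BasedCategory.{v, w} (Over S)}

/-- A presheaf of modules on the affine objects agreeing with the extensions of scalars of its value at `x` along the
flat arrows to `x`. -/
structure SysI (𝔸 : AtlasI.{t'} 𝒳) (M : 𝔸.ι → Type u) [∀ i, AddCommGroup (M i)]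
    [∀ i, Module (Fn 𝒳 (𝔸.x i)) (M i)] where
  Hd : AObj 𝒳 → Type t
  [addH : ∀ D, AddCommGroup (Hd D)]
  [modH : ∀ D, Module (Fn 𝒳 D.1) (Hd D)]
  hr : ∀ {D' D : AObj 𝒳} (_ : D'.1 ⟶ D.1), Hd D →+ Hd D'
  θ : ∀ (D : AObj 𝒳) {i : 𝔸.ι} (γ : D.1 ⟶ 𝔸.x i), BC (M i) γ →+ Hd D
  θ_smul : ∀ (D : AObj 𝒳) {i : 𝔸.ι} (γ : D.1 ⟶ 𝔸.x i) (c : Fn 𝒳 D.1) u, θ D γ (c • u) = c • θ D γ u
  θ_bij : ∀ (D : AObj 𝒳) {i : 𝔸.ι} (γ : D.1 ⟶ 𝔸.x i), Flat (StMod.bmap 𝒳 γ) → Function.Bijective (θ D γ)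
  θ_nat : ∀ {D' D : AObj 𝒳} (d : D'.1 ⟶ D.1) {i : 𝔸.ι} (γ : D.1 ⟶ 𝔸.x i) (γ' : D'.1 ⟶ 𝔸.x i) (e : d ≫ γ = γ') u,
    hr d (θ D γ u) = θ D' γ' (push d e u)

attribute [instance] SysI.addH SysI.modH

namespace SysI

variable {𝔸 : AtlasI.{t'} 𝒳} {M : 𝔸.ι → Type u} [∀ i, AddCommGroup (M i)]
  [∀ i, Module (Fn 𝒳 (𝔸.x i)) (M i)] (σ : SysI.{t} 𝔸 M) {i j : 𝔸.ι}

/-- The linear map of `θ`. -/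
def θl (D : AObj 𝒳) {i : 𝔸.ι} (γ : D.1 ⟶ 𝔸.x i) : BC (M i) γ →ₗ[Fn 𝒳 D.1] σ.Hd D :=
  { toFun := σ.θ D γ, map_add' := map_add _, map_smul' := σ.θ_smul D γ }

/-- The comparison of the extensions of scalars along two arrows, the second flat. -/
def φD (D : AObj 𝒳) {i j : 𝔸.ι} (γ : D.1 ⟶ 𝔸.x i) (δ : D.1 ⟶ 𝔸.x j) (h : Flat (StMod.bmap 𝒳 δ)) :
    BC (M i) γ →ₗ[Fn 𝒳 D.1] BC (M j) δ :=
  (LinearEquiv.ofBijective (σ.θl D δ) (σ.θ_bij D δ h)).symm.toLinearMap.comp (σ.θl D γ)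

lemma θ_φD (D : AObj 𝒳) {i j : 𝔸.ι} (γ : D.1 ⟶ 𝔸.x i) (δ : D.1 ⟶ 𝔸.x j) (h : Flat (StMod.bmap 𝒳 δ)) (u : BC (M i) γ) :
    σ.θ D δ (σ.φD D γ δ h u) = σ.θ D γ u :=
  LinearEquiv.apply_symm_apply (LinearEquiv.ofBijective (σ.θl D δ) (σ.θ_bij D δ h)) _

/-- The transition map at the relations. -/
def φy (i j : 𝔸.ι) : BC (M i) (𝔸.a i j) →ₗ[Fn 𝒳 (𝔸.y i j)] BC (M j) (𝔸.b i j) := σ.φD (𝔸.Y i j) (𝔸.a i j) (𝔸.b i j) (𝔸.flatb i j)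

lemma θ_φy (i j : 𝔸.ι) (u : BC (M i) (𝔸.a i j)) : σ.θ (𝔸.Y i j) (𝔸.b i j) (σ.φy i j u) = σ.θ (𝔸.Y i j) (𝔸.a i j) u :=
  σ.θ_φD (𝔸.Y i j) (𝔸.a i j) (𝔸.b i j) (𝔸.flatb i j) u

theorem exists_tr {ζ : AObj 𝒳} (c : ζ.1 ⟶ 𝔸.y i j) {α : ζ.1 ⟶ 𝔸.x i} {β : ζ.1 ⟶ 𝔸.x j} (hα : c ≫ (𝔸.a i j) = α) (hβ : c ≫ (𝔸.b i j) = β) :
    ∃ l : BC (M i) α →ₗ[Fn 𝒳 ζ.1] BC (M j) β, ∀ u, l (push c hα u) = push c hβ (σ.φy i j u) := by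
  obtain ⟨l, hl⟩ := (isBC_push (M := M i) c hα).exists_lift ((push c hβ).comp (σ.φy i j).toAddMonoidHom) fun r u => by
    change push c hβ (σ.φy i j (r • u)) = _
    rw [map_smul, push_smul]
    rfl
  exact ⟨l, hl⟩

/-- The transition map along an arrow to the relations. -/
def tr {ζ : AObj 𝒳} (c : ζ.1 ⟶ 𝔸.y i j) {α : ζ.1 ⟶ 𝔸.x i} {β : ζ.1 ⟶ 𝔸.x j} (hα : c ≫ (𝔸.a i j) = α) (hβ : c ≫ (𝔸.b i j) = β) :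
    BC (M i) α →ₗ[Fn 𝒳 ζ.1] BC (M j) β :=
  (σ.exists_tr c hα hβ).choose

lemma tr_push {ζ : AObj 𝒳} (c : ζ.1 ⟶ 𝔸.y i j) {α : ζ.1 ⟶ 𝔸.x i} {β : ζ.1 ⟶ 𝔸.x j} (hα : c ≫ (𝔸.a i j) = α) (hβ : c ≫ (𝔸.b i j) = β)
    (u : BC (M i) (𝔸.a i j)) : σ.tr c hα hβ (push c hα u) = push c hβ (σ.φy i j u) :=
  (σ.exists_tr c hα hβ).choose_spec u

lemma tr_nat {ζ' ζ : AObj 𝒳} (e : ζ'.1 ⟶ ζ.1) (c : ζ.1 ⟶ 𝔸.y i j) {α : ζ.1 ⟶ 𝔸.x i} {β : ζ.1 ⟶ 𝔸.x j} {α' : ζ'.1 ⟶ 𝔸.x i} {β' : ζ'.1 ⟶ 𝔸.x j}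
    (hα : c ≫ (𝔸.a i j) = α) (hβ : c ≫ (𝔸.b i j) = β) (eα : e ≫ α = α') (eβ : e ≫ β = β') (u : BC (M i) α) :
    push e eβ (σ.tr c hα hβ u) =
      σ.tr (e ≫ c) (by rw [Category.assoc, hα, eα]) (by rw [Category.assoc, hβ, eβ]) (push e eα u) :=
  congr($((isBC_push (M := M i) c hα).hom_ext (a := (push e eβ).comp (σ.tr c hα hβ).toAddMonoidHom)
    (b := (σ.tr (e ≫ c) (by rw [Category.assoc, hα, eα]) (by rw [Category.assoc, hβ, eβ])).toAddMonoidHom.comp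
      (push e eα)) (fnMap e)
    (fun r n => by simp [push_smul]) (fun r n => by simp [push_smul])
    fun m => by simp [tr_push, push_push]) u)

lemma θ_tr {ζ : AObj 𝒳} (c : ζ.1 ⟶ 𝔸.y i j) {α : ζ.1 ⟶ 𝔸.x i} {β : ζ.1 ⟶ 𝔸.x j} (hα : c ≫ (𝔸.a i j) = α) (hβ : c ≫ (𝔸.b i j) = β) (u : BC (M i) α) :
    σ.θ ζ β (σ.tr c hα hβ u) = σ.θ ζ α u :=
  congr($((isBC_push (M := M i) c hα).hom_ext (a := (σ.θ ζ β).comp (σ.tr c hα hβ).toAddMonoidHom)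
    (b := σ.θ ζ α) (RingHom.id _)
    (fun r n => by simp [σ.θ_smul]) (fun r n => σ.θ_smul ζ α r n) fun m => by
      change σ.θ ζ β (σ.tr c hα hβ (push c hα m)) = _
      rw [tr_push, ← σ.θ_nat (D := (𝔸.Y i j)) c (𝔸.b i j) β hβ, θ_φy, σ.θ_nat (D := (𝔸.Y i j)) c (𝔸.a i j) α hα]) u)

lemma tr_congr {ζ : AObj 𝒳} {c c' : ζ.1 ⟶ 𝔸.y i j} (h : c = c') {α : ζ.1 ⟶ 𝔸.x i} {β : ζ.1 ⟶ 𝔸.x j} (hα : c ≫ (𝔸.a i j) = α)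
    (hβ : c ≫ (𝔸.b i j) = β) (hα' : c' ≫ (𝔸.a i j) = α) (hβ' : c' ≫ (𝔸.b i j) = β) : σ.tr c hα hβ = σ.tr c' hα' hβ' := by
  subst h; rfl

theorem tr_indep {ζ : AObj 𝒳} (c c' : ζ.1 ⟶ 𝔸.y i j) {α : ζ.1 ⟶ 𝔸.x i} {β : ζ.1 ⟶ 𝔸.x j} (hα : c ≫ (𝔸.a i j) = α) (hβ : c ≫ (𝔸.b i j) = β)
    (hα' : c' ≫ (𝔸.a i j) = α) (hβ' : c' ≫ (𝔸.b i j) = β) (u : BC (M i) α) : σ.tr c hα hβ u = σ.tr c' hα' hβ' u := by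
  haveI := ζ.2
  choose ξ' z φ e d d' hφ hp hd h1 h2 h3 h4 using
    𝔸.cov₃ i j ζ c c' (hα.trans hα'.symm) (hβ.trans hβ'.symm)
  haveI : ∀ p, IsAffine (StMod.sch 𝒳 (ξ' p).1) := fun p => (ξ' p).2
  refine sub_eq_zero.1 (push_eq_zero_of_jointly (κ := StMod.sch 𝒳 ζ.1) φ hφ (fun p => ⟨p, hp p⟩) _ fun p => ?_)
  rw [map_sub, sub_eq_zero, σ.tr_nat (φ p) c hα hβ rfl rfl, σ.tr_nat (φ p) c' hα' hβ' rfl rfl]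
  have hza : e p ≫ d p ≫ (𝔸.a i j) = φ p ≫ α := by rw [← Category.assoc, ← h1 p, Category.assoc, hα]
  have hzb : e p ≫ d p ≫ (𝔸.b i j) = φ p ≫ β := by rw [← Category.assoc, ← h1 p, Category.assoc, hβ]
  have key : σ.tr (d p) (α := d p ≫ (𝔸.a i j)) (β := d p ≫ (𝔸.b i j)) rfl rfl =
      σ.tr (d' p) (α := d p ≫ (𝔸.a i j)) (β := d p ≫ (𝔸.b i j)) (h3 p).symm (h4 p).symm :=
    LinearMap.ext fun v => (σ.θ_bij (z p) _ (flat_comp (hd p) (𝔸.flatb i j))).1 (by rw [θ_tr, θ_tr])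
  rw [σ.tr_congr (h1 p) _ _ (by rw [Category.assoc, hza]) (by rw [Category.assoc, hzb]),
    σ.tr_congr (h2 p) _ _ (by rw [Category.assoc, ← h3 p, hza]) (by rw [Category.assoc, ← h4 p, hzb])]
  refine congr($((isBC_push (M := M i) (e p) hza).hom_ext
    (a := (σ.tr (e p ≫ d p) _ _).toAddMonoidHom) (b := (σ.tr (e p ≫ d' p) _ _).toAddMonoidHom) (RingHom.id _)
    (fun r n => LinearMap.map_smul _ r n) (fun r n => LinearMap.map_smul _ r n) fun m => ?_) _)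
  change σ.tr (e p ≫ d p) _ _ (push (e p) hza m) = σ.tr (e p ≫ d' p) _ _ (push (e p) hza m)
  rw [← σ.tr_nat (e p) (d p) rfl rfl hza hzb, ← σ.tr_nat (e p) (d' p) (h3 p).symm (h4 p).symm hza hzb, key]

/-- The transition condition. -/
def IsTrans {ζ : AObj 𝒳} {α : ζ.1 ⟶ 𝔸.x i} {β : ζ.1 ⟶ 𝔸.x j} (u : BC (M i) α) (v : BC (M j) β) : Prop :=
  ∀ (ω : AObj 𝒳) (π : ω.1 ⟶ ζ.1) (c : ω.1 ⟶ 𝔸.y i j) (hα : c ≫ (𝔸.a i j) = π ≫ α) (hβ : c ≫ (𝔸.b i j) = π ≫ β),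
    push π rfl v = σ.tr c hα hβ (push π rfl u)

theorem exists_trans (hp : FibCat.IsFibGrpd 𝒳.p) {ζ : AObj 𝒳} {i j : 𝔸.ι} (α : ζ.1 ⟶ 𝔸.x i) (β : ζ.1 ⟶ 𝔸.x j) (u : BC (M i) α) :
    ∃ v : BC (M j) β, σ.IsTrans u v ∧ ∀ v', σ.IsTrans u v' → v' = v := by
  haveI := ζ.2
  obtain ⟨ζ', φ, c, hφ, hα, hβ⟩ := 𝔸.cov₂ i j ζ.1 α β ζ.2
  haveI := hφ.1
  let Z : AObj 𝒳 := ⟨ζ', hφ.1⟩
  obtain ⟨v, hv⟩ := exists_of_push_eq hp hφ (γ := β) rfl (σ.tr (ζ := Z) c hα.symm hβ.symm (push φ rfl u)) (by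
    intro ω a b hab hω
    rw [σ.tr_nat (ζ' := ⟨ω, hω⟩) (ζ := Z) a c hα.symm hβ.symm (α' := a ≫ φ ≫ α) rfl rfl,
      σ.tr_nat (ζ' := ⟨ω, hω⟩) (ζ := Z) b c hα.symm hβ.symm (α' := a ≫ φ ≫ α) (by rw [reassoc_of% hab])
        (by rw [reassoc_of% hab]), push_push, push_push, push_congr hab _ (by rw [Category.assoc, reassoc_of% hab])]
    exact σ.tr_indep (ζ := ⟨ω, hω⟩) _ _ _ _ _ _ _)
  refine ⟨v, fun ω π c' hα' hβ' => ?_, fun v' hv' => injective_push_cov hφ rfl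
    ((hv' Z φ c hα.symm hβ.symm).trans hv.symm)⟩
  haveI := ω.2
  obtain ⟨ω', φ', ψ', hφ', hw⟩ := exists_pullback_cov hp hφ π
  let W : AObj 𝒳 := ⟨ω', hφ'.1⟩
  refine injective_push_cov hφ' (γ' := φ' ≫ π ≫ β) rfl ?_
  rw [push_push, push_congr hw _ (by rw [Category.assoc, reassoc_of% hw]), ← push_push ψ' φ rfl
      (by rw [reassoc_of% hw]), hv, σ.tr_nat (ζ' := W) (ζ := Z) ψ' c hα.symm hβ.symm (α' := φ' ≫ π ≫ α)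
      (by rw [reassoc_of% hw]) (by rw [reassoc_of% hw]), σ.tr_nat (ζ' := W) φ' c' hα' hβ' (α' := φ' ≫ π ≫ α) rfl rfl,
    push_push, push_push, push_congr hw.symm _ (by rw [Category.assoc])]
  exact σ.tr_indep (ζ := W) _ _ _ _ _ _ _

variable (hp : FibCat.IsFibGrpd 𝒳.p)

/-- The transition between the extensions of scalars along two arrows. -/
def Φ {ζ : AObj 𝒳} {i j : 𝔸.ι} (α : ζ.1 ⟶ 𝔸.x i) (β : ζ.1 ⟶ 𝔸.x j) (u : BC (M i) α) : BC (M j) β := (σ.exists_trans hp α β u).choose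

lemma isTrans_Φ {ζ : AObj 𝒳} {i j : 𝔸.ι} (α : ζ.1 ⟶ 𝔸.x i) (β : ζ.1 ⟶ 𝔸.x j) (u : BC (M i) α) : σ.IsTrans u (σ.Φ hp α β u) :=
  (σ.exists_trans hp α β u).choose_spec.1

lemma eq_Φ {ζ : AObj 𝒳} {α : ζ.1 ⟶ 𝔸.x i} {β : ζ.1 ⟶ 𝔸.x j} {u : BC (M i) α} {v : BC (M j) β} (h : σ.IsTrans u v) : v = σ.Φ hp α β u :=
  (σ.exists_trans hp α β u).choose_spec.2 v h

lemma Φ_add {ζ : AObj 𝒳} {i j : 𝔸.ι} (α : ζ.1 ⟶ 𝔸.x i) (β : ζ.1 ⟶ 𝔸.x j) (u u' : BC (M i) α) :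
    σ.Φ hp α β (u + u') = σ.Φ hp α β u + σ.Φ hp α β u' :=
  (σ.eq_Φ hp fun ω π c hα hβ => by
    rw [map_add, σ.isTrans_Φ hp α β u ω π c hα hβ, σ.isTrans_Φ hp α β u' ω π c hα hβ, map_add, map_add]).symm

lemma Φ_smul {ζ : AObj 𝒳} {i j : 𝔸.ι} (α : ζ.1 ⟶ 𝔸.x i) (β : ζ.1 ⟶ 𝔸.x j) (r : Fn 𝒳 ζ.1) (u : BC (M i) α) :
    σ.Φ hp α β (r • u) = r • σ.Φ hp α β u :=
  (σ.eq_Φ hp fun ω π c hα hβ => by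
    rw [push_smul, σ.isTrans_Φ hp α β u ω π c hα hβ, push_smul, map_smul]).symm

lemma Φ_nat {ζ' ζ : AObj 𝒳} (e : ζ'.1 ⟶ ζ.1) {α : ζ.1 ⟶ 𝔸.x i} {β : ζ.1 ⟶ 𝔸.x j} {α' : ζ'.1 ⟶ 𝔸.x i} {β' : ζ'.1 ⟶ 𝔸.x j} (eα : e ≫ α = α')
    (eβ : e ≫ β = β') (u : BC (M i) α) : push e eβ (σ.Φ hp α β u) = σ.Φ hp α' β' (push e eα u) := by
  subst eα eβ
  refine σ.eq_Φ hp fun ω π c hα hβ => ?_
  have h := σ.isTrans_Φ hp α β u ω (π ≫ e) c (hα.trans (Category.assoc _ _ _).symm)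
    (hβ.trans (Category.assoc _ _ _).symm)
  simp only [push_push]
  have cast : ∀ {α₁ α₂ : ω.1 ⟶ 𝔸.x i} {β₁ β₂ : ω.1 ⟶ 𝔸.x j} (ea : α₁ = α₂) (eb : β₁ = β₂) (f : π ≫ e ≫ α = α₂) (k : π ≫ e ≫ β = β₂)
      (f₁ : (π ≫ e) ≫ α = α₁) (k₁ : (π ≫ e) ≫ β = β₁) (hα₁ : c ≫ (𝔸.a i j) = α₁) (hβ₁ : c ≫ (𝔸.b i j) = β₁),
      push (π ≫ e) k₁ (σ.Φ hp α β u) = σ.tr c hα₁ hβ₁ (push (π ≫ e) f₁ u) →
      push (π ≫ e) (γ' := β₂) (by rw [Category.assoc]; exact k) (σ.Φ hp α β u) =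
        σ.tr c (hα₁.trans ea) (hβ₁.trans eb) (push (π ≫ e) (γ' := α₂) (by rw [Category.assoc]; exact f) u) := by
    intro α₁ α₂ β₁ β₂ ea eb f k f₁ k₁ hα₁ hβ₁ hh
    subst ea eb
    exact hh
  exact cast (Category.assoc _ _ _) (Category.assoc _ _ _) rfl rfl rfl rfl _ _ h

theorem Φ_flat {ζ : AObj 𝒳} {i j : 𝔸.ι} (α : ζ.1 ⟶ 𝔸.x i) (β : ζ.1 ⟶ 𝔸.x j) (hβ : Flat (StMod.bmap 𝒳 β)) (u : BC (M i) α) :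
    σ.θ ζ β (σ.Φ hp α β u) = σ.θ ζ α u := by
  haveI := ζ.2
  obtain ⟨ζ', φ, c, hφ, ha, hb⟩ := 𝔸.cov₂ i j ζ.1 α β ζ.2
  let Z : AObj 𝒳 := ⟨ζ', hφ.1⟩
  obtain ⟨v, hv⟩ := (σ.θ_bij ζ β hβ).2 (σ.θ ζ α u)
  suffices v = σ.Φ hp α β u by rw [← this, hv]
  refine injective_push_cov hφ (γ' := φ ≫ β) rfl ((σ.θ_bij Z (φ ≫ β) (flat_comp hφ.2.1 hβ)).1 ?_)
  rw [σ.isTrans_Φ hp α β u Z φ c ha.symm hb.symm, σ.θ_tr, ← σ.θ_nat (D := ζ) (D' := Z) φ β (φ ≫ β) rfl, hv,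
    σ.θ_nat (D' := Z) φ α (φ ≫ α) rfl]

lemma Φ_self {ζ : AObj 𝒳} {i : 𝔸.ι} (α : ζ.1 ⟶ 𝔸.x i) (u : BC (M i) α) : σ.Φ hp α α u = u := by
  have hid : Flat (StMod.bmap 𝒳 (𝟙 (𝔸.x i))) := by rw [StMod.bmap_id]; infer_instance
  have h1 : ∀ m, σ.Φ hp (ζ := 𝔸.X i) (𝟙 (𝔸.x i)) (𝟙 (𝔸.x i)) m = m := fun m =>
    (σ.θ_bij (𝔸.X i) _ hid).1 (σ.Φ_flat hp (ζ := 𝔸.X i) _ _ hid m)
  refine congr($((isBC_push (M := M i) α (Category.comp_id α)).hom_ext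
    (a := AddMonoidHom.mk' (σ.Φ hp α α) (σ.Φ_add hp α α)) (b := AddMonoidHom.id _) (RingHom.id _)
    (fun r n => σ.Φ_smul hp α α r n) (fun _ _ => rfl) fun m => ?_) u)
  change σ.Φ hp α α (push α _ m) = push α _ m
  rw [← σ.Φ_nat hp (ζ := 𝔸.X i) α (Category.comp_id α) (Category.comp_id α), h1]

/-- The cocycle condition. -/
theorem Φ_trans {ζ : AObj 𝒳} {i j k : 𝔸.ι} (α : ζ.1 ⟶ 𝔸.x i) (β : ζ.1 ⟶ 𝔸.x j) (γ : ζ.1 ⟶ 𝔸.x k) (u : BC (M i) α) :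
    σ.Φ hp β γ (σ.Φ hp α β u) = σ.Φ hp α γ u := by
  haveI := ζ.2
  obtain ⟨ζ₁, φ₁, c₁, hφ₁, a₁, b₁⟩ := 𝔸.cov₂ i j ζ.1 α β ζ.2
  haveI := hφ₁.1
  obtain ⟨ω, φ₂, c₂, hφ₂, a₂, b₂⟩ := 𝔸.cov₂ j k ζ₁ (φ₁ ≫ β) (φ₁ ≫ γ) hφ₁.1
  let Ω : AObj 𝒳 := ⟨ω, hφ₂.1⟩
  obtain ⟨w, p₁, p₂, hw, hpb⟩ := exists_square hp (𝔸.b i j) (𝔸.a j k)
  haveI := 𝔸.affx j
  haveI := 𝔸.affy i j
  haveI := 𝔸.affy j k
  haveI : IsAffine (StMod.sch 𝒳 w) := IsAffine.of_isIso hpb.isoPullback.hom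
  let W : AObj 𝒳 := ⟨w, inferInstance⟩
  haveI := (𝔸.flata j k)
  haveI := (𝔸.flatb i j)
  have hp₁ : Flat (StMod.bmap 𝒳 p₁) := MorphismProperty.of_isPullback (P := @Flat) hpb.flip (𝔸.flata j k)
  have hp₂ : Flat (StMod.bmap 𝒳 p₂) := MorphismProperty.of_isPullback (P := @Flat) hpb (𝔸.flatb i j)
  obtain ⟨e, he₁, he₂⟩ := exists_lift_square hp hw hpb (φ₂ ≫ c₁) c₂ (by rw [Category.assoc, ← b₁, a₂])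
  have key : ∀ v, σ.Φ hp (ζ := W) (p₁ ≫ (𝔸.b i j)) (p₂ ≫ (𝔸.b j k)) (σ.Φ hp (ζ := W) (p₁ ≫ (𝔸.a i j)) (p₁ ≫ (𝔸.b i j)) v) =
      σ.Φ hp (ζ := W) (p₁ ≫ (𝔸.a i j)) (p₂ ≫ (𝔸.b j k)) v := fun v =>
    (σ.θ_bij W _ (flat_comp hp₂ (𝔸.flatb j k))).1 (by
      rw [σ.Φ_flat hp _ _ (flat_comp hp₂ (𝔸.flatb j k)), σ.Φ_flat hp _ _ (flat_comp hp₁ (𝔸.flatb i j)),
        σ.Φ_flat hp _ _ (flat_comp hp₂ (𝔸.flatb j k))])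
  refine injective_push_cov hφ₁ (γ' := φ₁ ≫ γ) rfl (injective_push_cov hφ₂ (γ' := φ₂ ≫ φ₁ ≫ γ) rfl ?_)
  rw [push_push, push_push, σ.Φ_nat hp (ζ' := Ω) (φ₂ ≫ φ₁) (Category.assoc φ₂ φ₁ β) (Category.assoc φ₂ φ₁ γ),
    σ.Φ_nat hp (ζ' := Ω) (φ₂ ≫ φ₁) (Category.assoc φ₂ φ₁ α) (Category.assoc φ₂ φ₁ β),
    σ.Φ_nat hp (ζ' := Ω) (φ₂ ≫ φ₁) (Category.assoc φ₂ φ₁ α) (Category.assoc φ₂ φ₁ γ)]
  have ea : e ≫ p₁ ≫ (𝔸.a i j) = φ₂ ≫ φ₁ ≫ α := by rw [reassoc_of% he₁, a₁]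
  have eb : e ≫ p₁ ≫ (𝔸.b i j) = φ₂ ≫ φ₁ ≫ β := by rw [reassoc_of% he₁, b₁]
  have ec : e ≫ p₂ ≫ (𝔸.b j k) = φ₂ ≫ φ₁ ≫ γ := by rw [reassoc_of% he₂, b₂]
  refine congr($((isBC_push (M := M i) e ea).hom_ext (C := Fn 𝒳 ω)
    (a := AddMonoidHom.mk' (fun v => σ.Φ hp (ζ := Ω) (φ₂ ≫ φ₁ ≫ β) (φ₂ ≫ φ₁ ≫ γ)
      (σ.Φ hp (ζ := Ω) (φ₂ ≫ φ₁ ≫ α) (φ₂ ≫ φ₁ ≫ β) v)) fun x y => by rw [Φ_add, Φ_add])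
    (b := AddMonoidHom.mk' (σ.Φ hp (ζ := Ω) (φ₂ ≫ φ₁ ≫ α) (φ₂ ≫ φ₁ ≫ γ)) (σ.Φ_add hp (ζ := Ω) _ _)) (RingHom.id _)
    (fun r n => by
      change σ.Φ hp (ζ := Ω) _ _ (σ.Φ hp (ζ := Ω) _ _ (r • n)) = r • σ.Φ hp (ζ := Ω) _ _ _
      rw [Φ_smul, Φ_smul])
    (fun r n => σ.Φ_smul hp (ζ := Ω) _ _ r n) fun m => ?_) _)
  change σ.Φ hp (ζ := Ω) _ _ (σ.Φ hp (ζ := Ω) _ _ (push e ea m)) = σ.Φ hp (ζ := Ω) _ _ (push e ea m)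
  rw [← σ.Φ_nat hp (ζ' := Ω) (ζ := W) e ea eb, ← σ.Φ_nat hp (ζ' := Ω) (ζ := W) e eb ec, key,
    σ.Φ_nat hp (ζ' := Ω) (ζ := W) e ea ec]

/-- The transition as a linear equivalence. -/
def Φe {ζ : AObj 𝒳} {i j : 𝔸.ι} (α : ζ.1 ⟶ 𝔸.x i) (β : ζ.1 ⟶ 𝔸.x j) : BC (M i) α ≃ₗ[Fn 𝒳 ζ.1] BC (M j) β :=
  LinearEquiv.ofBijective { toFun := σ.Φ hp α β, map_add' := σ.Φ_add hp α β, map_smul' := σ.Φ_smul hp α β }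
    (Function.bijective_iff_has_inverse.2 ⟨σ.Φ hp β α,
      fun u => (σ.Φ_trans hp α β α u).trans (σ.Φ_self hp α u),
      fun u => (σ.Φ_trans hp β α β u).trans (σ.Φ_self hp β u)⟩)

lemma Φe_apply {ζ : AObj 𝒳} {i j : 𝔸.ι} (α : ζ.1 ⟶ 𝔸.x i) (β : ζ.1 ⟶ 𝔸.x j) (u : BC (M i) α) : σ.Φe hp α β u = σ.Φ hp α β u := rfl

end SysI

end Groth.Agent.H14CohBC
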